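import Mathlib
import Groth.Agent.SGA7.PowerSeries

/-! Power series rings: completeness, evaluation in adically complete algebras, dimension. -/

set_option autoImplicit false
universe u v w

namespace Groth.Calg6

open MvPowerSeries Groth.SGA7.PS

variable {σ : Type u} [Fintype σ] {k : Type v} [CommRing k]

theorem coeff_eq_zero_of_mem_varIdeal_pow (n : ℕ) {g : MvPowerSeries σ k} (hg : g ∈ varIdeal σ k ^ n) :
    ∀ d : σ →₀ ℕ, d.degree < n → coeff d g = 0 := by
  induction n generalizing g with
  | zero => intro d hd; exact absurd hd (Nat.not_lt_zero _)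
  | succ n ih =>
    rw [pow_succ] at hg
    refine Submodule.mul_induction_on hg ?_ ?_
    · intro a ha b hb d hd
      classical
      rw [MvPowerSeries.coeff_mul]
      refine Finset.sum_eq_zero fun p hp => ?_
      rw [Finset.HasAntidiagonal.mem_antidiagonal] at hp
      have hdeg : p.1.degree + p.2.degree = d.degree := by rw [← hp, map_add]
      by_cases h2 : p.2 = 0
      · rw [h2, coeff_zero_eq_constantCoeff_apply, (mem_varIdeal_iff b).1 hb, mul_zero]
      · have hp2 : p.2.degree ≠ 0 := fun h => h2 ((Finsupp.degree_eq_zero_iff _).1 h)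
        rw [ih ha p.1 (by omega), zero_mul]
    · intro a b ha hb d hd
      rw [map_add, ha d hd, hb d hd, add_zero]

theorem isAdicComplete_varIdeal : IsAdicComplete (varIdeal σ k) (MvPowerSeries σ k) := by
  haveI : IsHausdorff (varIdeal σ k) (MvPowerSeries σ k) := ⟨fun x hx => by
    ext d
    have h := SModEq.zero.1 (hx (d.degree + 1))
    rw [smul_eq_mul, Ideal.mul_top] at h
    rw [coeff_eq_zero_of_mem_varIdeal_pow _ h d (Nat.lt_succ_self _), map_zero]⟩
  haveI : IsPrecomplete (varIdeal σ k) (MvPowerSeries σ k) := ⟨fun f hf => by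
    let L : MvPowerSeries σ k := fun d => coeff d (f (d.degree + 1))
    refine ⟨L, fun n => ?_⟩
    rw [SModEq.sub_mem, smul_eq_mul, Ideal.mul_top]
    refine mem_varIdeal_pow n _ fun d hd => ?_
    have h := SModEq.sub_mem.1 (hf (show d.degree + 1 ≤ n from hd))
    rw [smul_eq_mul, Ideal.mul_top] at h
    have h' := coeff_eq_zero_of_mem_varIdeal_pow _ h d (Nat.lt_succ_self _)
    rw [map_sub] at h' ⊢
    show coeff d (f n) - coeff d (f (d.degree + 1)) = 0
    rw [sub_eq_zero] at h' ⊢
    exact h'.symm⟩
  exact {}

section eval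

variable {A : Type w} [CommRing A] [Algebra k A] (I : Ideal A) [IsAdicComplete I A]

/-- The approximations of the evaluation of a power series. -/
noncomputable def evalLevel (a : σ → A) (ha : ∀ s, a s ∈ I) (n : ℕ) :
    MvPowerSeries σ k →ₐ[k] A ⧸ I ^ n :=
  (Ideal.Quotient.liftₐ ((MvPolynomial.idealOfVars σ k) ^ n) ((Ideal.Quotient.mkₐ k (I ^ n)).comp (MvPolynomial.aeval a))
    (fun p hp => by
      rw [AlgHom.comp_apply, Ideal.Quotient.mkₐ_eq_mk, Ideal.Quotient.eq_zero_iff_mem]
      have h : (MvPolynomial.idealOfVars σ k).map (MvPolynomial.aeval (R := k) a) ≤ I := by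
        rw [MvPolynomial.idealOfVars, Ideal.map_span, Ideal.span_le]
        rintro _ ⟨_, ⟨s, rfl⟩, rfl⟩
        simpa using ha s
      have h2 := Ideal.mem_map_of_mem (MvPolynomial.aeval (R := k) a) hp
      rw [Ideal.map_pow] at h2
      exact Ideal.pow_right_mono h n h2)).comp
    ((truncTotalAlgHom σ k n).restrictScalars k)

theorem evalLevel_compat (a : σ → A) (ha : ∀ s, a s ∈ I) {m n : ℕ} (hle : m ≤ n) :
    (Ideal.Quotient.factorₐ k (Ideal.pow_le_pow_right hle)).comp (evalLevel (k := k) I a ha n) = evalLevel I a ha m := by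
  refine AlgHom.ext fun p => ?_
  show Ideal.Quotient.mk (I ^ m) (MvPolynomial.aeval a (truncTotal n p)) = Ideal.Quotient.mk (I ^ m) (MvPolynomial.aeval a (truncTotal m p))
  rw [Ideal.Quotient.eq, ← map_sub]
  have h : (MvPolynomial.idealOfVars σ k).map (MvPolynomial.aeval (R := k) a) ≤ I := by
    rw [MvPolynomial.idealOfVars, Ideal.map_span, Ideal.span_le]
    rintro _ ⟨_, ⟨s, rfl⟩, rfl⟩
    simpa using ha s
  have h2 := Ideal.mem_map_of_mem (MvPolynomial.aeval (R := k) a)
    (truncTotal_sub_truncTotal_mem_pow_idealOfVars hle (le_refl m) p)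
  rw [Ideal.map_pow] at h2
  exact Ideal.pow_right_mono h m h2

/-- Evaluation of a power series at topologically nilpotent elements. -/
noncomputable def evalAdic (a : σ → A) (ha : ∀ s, a s ∈ I) : MvPowerSeries σ k →ₐ[k] A :=
  IsAdicComplete.liftAlgHom I (evalLevel I a ha) (fun hle => evalLevel_compat I a ha hle)

theorem evalAdic_X (a : σ → A) (ha : ∀ s, a s ∈ I) (s : σ) :
    evalAdic (k := k) I a ha (X s) = a s := by
  refine sub_eq_zero.1 (IsHausdorff.haus' (I := I) _ fun n => ?_)
  rw [SModEq.zero, smul_eq_mul, Ideal.mul_top, ← Ideal.Quotient.eq]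
  rw [evalAdic, IsAdicComplete.mk_liftAlgHom]
  show Ideal.Quotient.mk (I ^ n) (MvPolynomial.aeval a (truncTotal n (X s))) = _
  rw [Ideal.Quotient.eq]
  by_cases hn : n ≤ 1
  · have hmem : MvPolynomial.aeval a (truncTotal n (X s : MvPowerSeries σ k)) - a s ∈ I := by
      by_cases h0 : n = 0
      · subst h0
        have : truncTotal 0 (X s : MvPowerSeries σ k) = 0 := by
          ext d
          rw [coeff_truncTotal_eq_zero _ (by omega), MvPolynomial.coeff_zero]
        rw [this, map_zero, zero_sub]
        exact neg_mem (ha s)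
      · obtain rfl : n = 1 := by omega
        have : truncTotal 1 (X s : MvPowerSeries σ k) = 0 := by
          ext d
          classical
          by_cases hd : d.degree < 1
          · rw [coeff_truncTotal _ hd, coeff_X, MvPolynomial.coeff_zero, if_neg]
            rintro rfl; simp at hd
          · rw [coeff_truncTotal_eq_zero _ (by omega), MvPolynomial.coeff_zero]
        rw [this, map_zero, zero_sub]
        exact neg_mem (ha s)
    exact Ideal.pow_le_pow_right hn (by simpa using hmem)
  · have : truncTotal n (X s : MvPowerSeries σ k) = MvPolynomial.X s := by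
      ext d
      classical
      by_cases hd : d.degree < n
      · rw [coeff_truncTotal _ hd, coeff_X, MvPolynomial.coeff_X', eq_comm]
        simp [eq_comm]
      · rw [coeff_truncTotal_eq_zero _ (by omega), MvPolynomial.coeff_X', if_neg]
        rintro rfl; simp at hd; omega
    rw [this, MvPolynomial.aeval_X, sub_self]
    exact zero_mem _

end eval

theorem surjective_of_map_varIdeal {A : Type w} [CommRing A] (f : MvPowerSeries σ k →+* A)
    [IsHausdorff ((varIdeal σ k).map f) A]
    (h : ∀ x : A, ∃ c : k, x - f (C c) ∈ (varIdeal σ k).map f) : Function.Surjective f := by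
  haveI := isAdicComplete_varIdeal (σ := σ) (k := k)
  refine surjective_of_mk_map_comp_surjective (I := varIdeal σ k) f fun y => ?_
  obtain ⟨x, rfl⟩ := Ideal.Quotient.mk_surjective y
  obtain ⟨c, hc⟩ := h x
  exact ⟨C c, (Ideal.Quotient.eq.2 hc).symm⟩

theorem natCast_le_ringKrullDim_mvPowerSeries (F : Type v) [Field F] :
    ∀ d : ℕ, (d : WithBot ℕ∞) ≤ ringKrullDim (MvPowerSeries (Fin d) F) := by
  intro d
  induction d with
  | zero => exact ringKrullDim_nonneg_of_nontrivial
  | succ d ih =>
    rw [ringKrullDim_eq_of_ringEquiv (finSuccEquiv F d).toRingEquiv]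
    refine le_trans ?_ ringKrullDim_succ_le_ringKrullDim_powerseries
    push_cast
    exact add_le_add_left ih 1

theorem isRegularLocalRing_mvPowerSeries (F : Type v) [Field F] (d : ℕ) :
    IsRegularLocalRing (MvPowerSeries (Fin d) F) := by
  refine IsRegularLocalRing.of_spanFinrank_maximalIdeal_le _ (le_trans ?_ (natCast_le_ringKrullDim_mvPowerSeries F d))
  rw [maximalIdeal_eq]
  have h := Submodule.spanFinrank_span_le_ncard_of_finite (R := MvPowerSeries (Fin d) F)
    (Set.finite_range (X : Fin d → MvPowerSeries (Fin d) F))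
  have h2 : (Set.range (X : Fin d → MvPowerSeries (Fin d) F)).ncard ≤ d := by
    rw [← Set.image_univ]
    exact (Set.ncard_image_le Set.finite_univ).trans (by simp)
  exact_mod_cast h.trans h2

theorem ringKrullDim_mvPowerSeries (F : Type v) [Field F] (d : ℕ) :
    ringKrullDim (MvPowerSeries (Fin d) F) = d := by
  refine le_antisymm ?_ (natCast_le_ringKrullDim_mvPowerSeries F d)
  refine (ringKrullDim_le_spanFinrank_maximalIdeal _).trans ?_
  rw [maximalIdeal_eq]
  have h := Submodule.spanFinrank_span_le_ncard_of_finite (R := MvPowerSeries (Fin d) F)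
    (Set.finite_range (X : Fin d → MvPowerSeries (Fin d) F))
  have h2 : (Set.range (X : Fin d → MvPowerSeries (Fin d) F)).ncard ≤ d := by
    rw [← Set.image_univ]
    exact (Set.ncard_image_le Set.finite_univ).trans (by simp)
  exact_mod_cast h.trans h2

end Groth.Calg6
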