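import Mathlib

/-! Ranks of images of maps of finite flat modules. -/

set_option autoImplicit false
universe u
open TensorProduct

namespace Groth.Calg6

variable {B : Type u} [CommRing B] {K K' : Type u} [AddCommGroup K] [Module B K] [AddCommGroup K'] [Module B K']

theorem projective_range_of_projective_coker [Module.Projective B K'] (φ : K →ₗ[B] K')
    (hc : Module.Projective B (K' ⧸ LinearMap.range φ)) :
    Module.Projective B (LinearMap.range φ) ∧ ∃ r : K' →ₗ[B] LinearMap.range φ,
      r ∘ₗ (LinearMap.range φ).subtype = LinearMap.id := by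
  obtain ⟨s, hs⟩ := Module.projective_lifting_property (LinearMap.range φ).mkQ LinearMap.id (Submodule.mkQ_surjective _)
  let r : K' →ₗ[B] LinearMap.range φ := (LinearMap.id - s ∘ₗ (LinearMap.range φ).mkQ).codRestrict _ fun x => by
    rw [← Submodule.Quotient.mk_eq_zero]
    have := LinearMap.congr_fun hs (Submodule.Quotient.mk x)
    simp only [LinearMap.comp_apply, Submodule.mkQ_apply, LinearMap.id_apply] at this
    simp [this]
  have hr : r ∘ₗ (LinearMap.range φ).subtype = LinearMap.id := by
    refine LinearMap.ext fun x => Subtype.ext ?_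
    simp [r, (Submodule.Quotient.mk_eq_zero _).2 x.2]
  exact ⟨Module.Projective.of_split _ _ hr, r, hr⟩

theorem baseChange_range_of_projective_coker [Module.Projective B K'] (φ : K →ₗ[B] K')
    (hc : Module.Projective B (K' ⧸ LinearMap.range φ)) (B' : Type u) [CommRing B'] [Algebra B B'] :
    Function.Injective ((LinearMap.range φ).subtype.baseChange B') ∧
      LinearMap.range ((LinearMap.range φ).subtype.baseChange B') = LinearMap.range (φ.baseChange B') := by
  obtain ⟨-, r, hr⟩ := projective_range_of_projective_coker φ hc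
  refine ⟨?_, ?_⟩
  · refine Function.LeftInverse.injective (g := r.baseChange B') fun x => ?_
    rw [← LinearMap.comp_apply, ← LinearMap.baseChange_comp, hr, LinearMap.baseChange_id, LinearMap.id_apply]
  · have e : φ = (LinearMap.range φ).subtype ∘ₗ φ.rangeRestrict := rfl
    conv_rhs => rw [e, LinearMap.baseChange_comp, LinearMap.range_comp]
    rw [LinearMap.range_eq_top.2 (show Function.Surjective (φ.rangeRestrict.baseChange B') from
      LinearMap.lTensor_surjective B' φ.surjective_rangeRestrict), Submodule.map_top]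

theorem exists_det_of_le_finrank [Module.Projective B K'] [Module.Finite B K'] [Module.Finite B K]
    (φ : K →ₗ[B] K') (y : PrimeSpectrum B) {r : ℕ}
    (h : r ≤ Module.finrank y.asIdeal.ResidueField (LinearMap.range (φ.baseChange y.asIdeal.ResidueField))) :
    ∃ (x : Fin r → K) (f : Fin r → Module.Dual B K'), (Matrix.of fun i j => f i (φ (x j))).det ∉ y.asIdeal := by
  classical
  let κ := y.asIdeal.ResidueField
  obtain ⟨n, p, q, -, -, hpq⟩ := Module.Finite.exists_comp_eq_id_of_projective B K'
  let c : (κ ⊗[B] K') →ₗ[κ] (Fin n → κ) :=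
    (TensorProduct.piScalarRight B κ κ (Fin n)).toLinearMap ∘ₗ q.baseChange κ
  have hc : Function.Injective c := by
    refine (TensorProduct.piScalarRight B κ κ (Fin n)).injective.comp ?_
    refine Function.LeftInverse.injective (g := p.baseChange κ) fun x => ?_
    rw [← LinearMap.comp_apply, ← LinearMap.baseChange_comp, hpq, LinearMap.baseChange_id, LinearMap.id_apply]
  let W := LinearMap.range (φ.baseChange κ)
  have hW : Submodule.span κ (Set.range fun x : K => φ.baseChange κ ((1 : κ) ⊗ₜ[B] x)) = W := by
    refine le_antisymm (Submodule.span_le.2 (by rintro _ ⟨x, rfl⟩; exact ⟨_, rfl⟩)) ?_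
    rintro _ ⟨z, rfl⟩
    induction z using TensorProduct.induction_on with
    | zero => simp
    | tmul a x =>
      rw [show a ⊗ₜ[B] x = a • ((1 : κ) ⊗ₜ[B] x) by rw [TensorProduct.smul_tmul', smul_eq_mul, mul_one], map_smul]
      exact Submodule.smul_mem _ _ (Submodule.subset_span ⟨x, rfl⟩)
    | add a b ha hb => rw [map_add]; exact add_mem ha hb
  obtain ⟨b, hb, hspan, hli⟩ := exists_linearIndependent κ (Set.range fun x : K => φ.baseChange κ ((1 : κ) ⊗ₜ[B] x))
  haveI : Finite b := hli.finite
  cases nonempty_fintype b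
  have hcard : r ≤ Fintype.card b := by
    refine h.trans (le_of_eq ?_)
    show Module.finrank κ W = _
    have h1 := finrank_span_eq_card hli
    rw [Subtype.range_coe] at h1
    rw [← hW, ← hspan, h1]
  obtain ⟨ι⟩ := Function.Embedding.nonempty_of_card_le (α := Fin r) (β := b) (by simpa using hcard)
  choose x hx using fun j => hb (ι j).2
  let v : Fin r → (Fin n → κ) := fun j => c (φ.baseChange κ ((1 : κ) ⊗ₜ[B] x j))
  have hv : LinearIndependent κ v := by
    have h1 : LinearIndependent κ (fun j => φ.baseChange κ ((1 : κ) ⊗ₜ[B] x j)) := by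
      have : (fun j => φ.baseChange κ ((1 : κ) ⊗ₜ[B] x j)) = fun j => ((ι j : b) : κ ⊗[B] K') := funext hx
      rw [this]
      exact hli.comp _ ι.injective
    exact h1.map' c (LinearMap.ker_eq_bot.2 hc)
  let L : (Fin r → κ) →ₗ[κ] (Fin n → κ) := Fintype.linearCombination κ v
  have hL : Function.Injective L := hv.fintypeLinearCombination_injective
  obtain ⟨G, hG⟩ := L.exists_leftInverse_of_injective (LinearMap.ker_eq_bot.2 hL)
  let g : Fin r → Fin n → κ := fun i a => LinearMap.toMatrix' G i a
  obtain ⟨t, ht⟩ := IsLocalization.exist_integer_multiples_of_finset (nonZeroDivisors (B ⧸ y.asIdeal))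
    (Finset.univ.image fun ia : Fin r × Fin n => g ia.1 ia.2)
  have ht' : ∀ i a, ∃ h : B, algebraMap B κ h = algebraMap (B ⧸ y.asIdeal) κ t * g i a := by
    intro i a
    obtain ⟨z, hz⟩ := ht (g i a) (Finset.mem_image.2 ⟨(i, a), Finset.mem_univ _, rfl⟩)
    obtain ⟨z', rfl⟩ := Ideal.Quotient.mk_surjective z
    refine ⟨z', ?_⟩
    rw [Algebra.smul_def] at hz
    rw [← hz, ← Ideal.Quotient.algebraMap_eq, ← IsScalarTower.algebraMap_apply]
  choose hh hhh using ht'
  refine ⟨x, fun i => ∑ a, hh i a • (LinearMap.proj a ∘ₗ q), fun hdet => ?_⟩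
  set T : κ := algebraMap (B ⧸ y.asIdeal) κ t
  have hT : T ≠ 0 := fun h0 => nonZeroDivisors.ne_zero t.2 (IsFractionRing.injective (B ⧸ y.asIdeal) κ (by rw [map_zero]; exact h0))
  have key : (algebraMap B κ).mapMatrix (Matrix.of fun i j => (∑ a, hh i a • (LinearMap.proj a ∘ₗ q)) (φ (x j))) =
      T • (1 : Matrix (Fin r) (Fin r) κ) := by
    ext i j
    have e1 : v j = fun a => algebraMap B κ (q (φ (x j)) a) := by
      funext a
      simp [v, c, Algebra.smul_def]
    have e2 : G (v j) i = (1 : Matrix (Fin r) (Fin r) κ) i j := by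
      have := LinearMap.congr_fun hG (Pi.single j 1)
      simp only [LinearMap.comp_apply, L, Fintype.linearCombination_apply_single, one_smul, LinearMap.id_apply] at this
      rw [this]
      simp [Pi.single_apply, Matrix.one_apply]
    rw [Matrix.smul_apply, ← e2, ← Matrix.toLin'_toMatrix' G, Matrix.toLin'_apply, Matrix.mulVec, dotProduct]
    simp only [RingHom.mapMatrix_apply, Matrix.map_apply, Matrix.of_apply, LinearMap.sum_apply, LinearMap.smul_apply,
      LinearMap.comp_apply, LinearMap.proj_apply, smul_eq_mul, map_sum, map_mul, hhh, Finset.mul_sum, e1, mul_assoc]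
    rfl
  have h0 := (Ideal.algebraMap_residueField_eq_zero).2 hdet
  rw [RingHom.map_det, key, Matrix.det_smul, Matrix.det_one, mul_one] at h0
  exact pow_ne_zero _ hT h0

theorem le_finrank_of_det [Module.Finite B K'] (φ : K →ₗ[B] K') (y : PrimeSpectrum B) {r : ℕ}
    (x : Fin r → K) (f : Fin r → Module.Dual B K') (h : (Matrix.of fun i j => f i (φ (x j))).det ∉ y.asIdeal) :
    r ≤ Module.finrank y.asIdeal.ResidueField (LinearMap.range (φ.baseChange y.asIdeal.ResidueField)) := by
  classical
  let κ := y.asIdeal.ResidueField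
  let M : Matrix (Fin r) (Fin r) κ := (algebraMap B κ).mapMatrix (Matrix.of fun i j => f i (φ (x j)))
  have hM : IsUnit M.det := by
    rw [← RingHom.map_det, isUnit_iff_ne_zero]
    exact fun h0 => h (Ideal.algebraMap_residueField_eq_zero.1 h0)
  let F : (κ ⊗[B] K') →ₗ[κ] (Fin r → κ) :=
    LinearMap.pi fun i => (TensorProduct.AlgebraTensorModule.rid B κ κ).toLinearMap ∘ₗ LinearMap.baseChange κ (f i)
  let w : Fin r → LinearMap.range (φ.baseChange κ) := fun j => ⟨φ.baseChange κ ((1 : κ) ⊗ₜ[B] x j), _, rfl⟩
  have hw : LinearIndependent κ w := by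
    refine LinearIndependent.of_comp (F ∘ₗ (LinearMap.range (φ.baseChange κ)).subtype) ?_
    have : (F ∘ₗ (LinearMap.range (φ.baseChange κ)).subtype) ∘ w = M.col := by
      funext j i
      simp [F, w, M, Matrix.col, Algebra.smul_def]
    rw [this, Matrix.linearIndependent_cols_iff_isUnit, Matrix.isUnit_iff_isUnit_det]
    exact hM
  have := hw.fintype_card_le_finrank
  simpa using this

theorem lowerSemicontinuous_finrank_range [Module.Projective B K'] [Module.Finite B K'] [Module.Finite B K]
    (φ : K →ₗ[B] K') :
    LowerSemicontinuous (fun y : PrimeSpectrum B =>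
      Module.finrank y.asIdeal.ResidueField ↥(LinearMap.range (φ.baseChange y.asIdeal.ResidueField))) := by
  intro y c hc
  obtain ⟨x, f, hd⟩ := exists_det_of_le_finrank φ y (Nat.succ_le_of_lt hc)
  filter_upwards [(PrimeSpectrum.basicOpen (Matrix.of fun i j => f i (φ (x j))).det).isOpen.mem_nhds hd] with z hz
  exact le_finrank_of_det φ z x f hz

theorem projective_of_finrank_eq [IsReduced B] {C : Type u} [AddCommGroup C] [Module B C]
    [Module.FinitePresentation B C]
    (h : ∀ (m : Ideal B) [m.IsMaximal] (q : Ideal B) [q.IsPrime], q ≤ m →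
      Module.finrank q.ResidueField (q.ResidueField ⊗[B] C) = Module.finrank m.ResidueField (m.ResidueField ⊗[B] C)) :
    Module.Projective B C := by
  classical
  refine Module.projective_of_localization_maximal fun m hm => ?_
  let Bm := Localization.AtPrime m
  let Cm := LocalizedModule m.primeCompl C
  set d := Module.finrank m.ResidueField (m.ResidueField ⊗[B] C)
  have hsurj : Function.Surjective (TensorProduct.mk B m.ResidueField C 1) :=
    TensorProduct.mk_surjective B C m.ResidueField (Ideal.algebraMap_residueField_surjective m)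
  let bas := Module.finBasis m.ResidueField (m.ResidueField ⊗[B] C)
  choose g hg using fun i => hsurj (bas i)
  let L : (Fin d → B) →ₗ[B] C := Fintype.linearCombination B g
  have hN : LinearMap.range L ⊔ m • (⊤ : Submodule B C) = ⊤ := by
    rw [eq_top_iff]
    intro z _
    have hz := bas.sum_repr ((1 : m.ResidueField) ⊗ₜ[B] z)
    choose e he using fun i => Ideal.algebraMap_residueField_surjective m (bas.repr ((1 : m.ResidueField) ⊗ₜ[B] z) i)
    have h0 : (1 : m.ResidueField) ⊗ₜ[B] (z - L e) = 0 := by
      rw [TensorProduct.tmul_sub, sub_eq_zero]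
      conv_lhs => rw [← hz]
      simp only [L, Fintype.linearCombination_apply, TensorProduct.tmul_sum]
      refine Finset.sum_congr rfl fun i _ => ?_
      rw [TensorProduct.tmul_smul, show (1 : m.ResidueField) ⊗ₜ[B] g i = bas i from hg i, ← algebraMap_smul m.ResidueField (e i), he]
    have hmem : z - L e ∈ m • (⊤ : Submodule B C) := by
      let E : (B ⧸ m) ≃ₗ[B] m.ResidueField :=
        LinearEquiv.ofBijective (IsScalarTower.toAlgHom B (B ⧸ m) m.ResidueField).toLinearMap
          (Ideal.bijective_algebraMap_quotient_residueField m)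
      have h1 : (E.rTensor C) (Ideal.Quotient.mk m 1 ⊗ₜ[B] (z - L e)) = 0 := by
        rw [LinearEquiv.rTensor_tmul, show E (Ideal.Quotient.mk m 1) = 1 from map_one (algebraMap (B ⧸ m) m.ResidueField)]
        exact h0
      have h2 := congrArg (TensorProduct.quotTensorEquivQuotSMul C m) ((LinearEquiv.map_eq_zero_iff _).1 h1)
      rw [map_zero, TensorProduct.quotTensorEquivQuotSMul_mk_tmul, one_smul] at h2
      exact (Submodule.Quotient.mk_eq_zero _).1 h2
    exact Submodule.mem_sup.2 ⟨L e, ⟨e, rfl⟩, _, hmem, by abel⟩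
  obtain ⟨r₀, hr₀, hr₀'⟩ : ∃ r : B, r ∉ m ∧ ∀ z : C, r • z ∈ LinearMap.range L := by
    have hfg : Module.Finite B (C ⧸ LinearMap.range L) := inferInstance
    have hle : (⊤ : Submodule B (C ⧸ LinearMap.range L)) ≤ m • (⊤ : Submodule B (C ⧸ LinearMap.range L)) := by
      have := congrArg (Submodule.map (LinearMap.range L).mkQ) hN
      rw [Submodule.map_sup, Submodule.map_smul'', Submodule.map_top, Submodule.range_mkQ,
        show (LinearMap.range L).map (LinearMap.range L).mkQ = ⊥ by
          rw [eq_bot_iff, Submodule.map_le_iff_le_comap, Submodule.comap_bot, Submodule.ker_mkQ], bot_sup_eq] at this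
      exact this.ge
    obtain ⟨r, hr1, hr⟩ := Submodule.exists_sub_one_mem_and_smul_eq_zero_of_fg_of_le_smul m ⊤ hfg.fg_top hle
    refine ⟨r, fun hrm => hm.ne_top ((Ideal.eq_top_iff_one _).2 ?_), fun z => ?_⟩
    · simpa using m.sub_mem hrm hr1
    · rw [← Submodule.Quotient.mk_eq_zero, Submodule.Quotient.mk_smul]
      exact hr _ trivial
  let μ := LocalizedModule.mkLinearMap m.primeCompl C
  let Lm : (Fin d → Bm) →ₗ[Bm] Cm := Fintype.linearCombination Bm fun i => μ (g i)
  have hLm : ∀ v : Fin d → B, Lm (fun i => algebraMap B Bm (v i)) = μ (L v) := by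
    intro v
    simp only [Lm, L, Fintype.linearCombination_apply, map_sum, map_smul, algebraMap_smul]
  have hunit : ∀ s : m.primeCompl, IsUnit (algebraMap B Bm s) := fun s => IsLocalization.map_units Bm s
  have hsur : Function.Surjective Lm := by
    intro c
    obtain ⟨⟨z, s⟩, hz⟩ := IsLocalizedModule.surj m.primeCompl μ c
    obtain ⟨v, hv⟩ := hr₀' z
    obtain ⟨u, hu⟩ := (hunit s).mul (hunit ⟨r₀, hr₀⟩)
    refine ⟨(↑(u⁻¹) : Bm) • (fun i => algebraMap B Bm (v i)), ?_⟩
    rw [map_smul, hLm, hv, map_smul, ← hz, Submonoid.smul_def, ← algebraMap_smul Bm r₀, ← algebraMap_smul Bm (s : B), smul_smul, smul_smul]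
    rw [mul_assoc, show (↑(u⁻¹) : Bm) * (algebraMap B Bm r₀ * algebraMap B Bm s) = 1 by
      rw [mul_comm (algebraMap B Bm r₀), ← hu, Units.inv_mul], one_smul]
  have hinj : Function.Injective Lm := by
    rw [injective_iff_map_eq_zero]
    intro w hw
    obtain ⟨b, hb⟩ := IsLocalization.exist_integer_multiples_of_finset m.primeCompl (Finset.univ.image w)
    have hv' : ∀ i, ∃ v, algebraMap B Bm v = algebraMap B Bm (b : B) * w i := fun i => by
      obtain ⟨v, hv⟩ := hb (w i) (Finset.mem_image_of_mem _ (Finset.mem_univ i))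
      exact ⟨v, by rw [hv, Algebra.smul_def]⟩
    choose v hv using hv'
    have h0 : μ (L v) = 0 := by
      rw [← hLm, show (fun i => algebraMap B Bm (v i)) = algebraMap B Bm (b : B) • w from funext hv, map_smul, hw, smul_zero]
    obtain ⟨c, hc⟩ := (IsLocalizedModule.eq_zero_iff m.primeCompl μ).1 h0
    have hLc : L ((c : B) • v) = 0 := by rw [map_smul]; exact hc
    have hq : ∀ (q : Ideal B) [q.IsPrime], q ≤ m → ∀ i, (c : B) * v i ∈ q := by
      intro q _ hqm i
      let Lq : (Fin d → q.ResidueField) →ₗ[q.ResidueField] q.ResidueField ⊗[B] C :=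
        Fintype.linearCombination q.ResidueField fun j => (1 : q.ResidueField) ⊗ₜ[B] g j
      have hrq : algebraMap B q.ResidueField r₀ ≠ 0 := fun h0 => hr₀ (hqm (Ideal.algebraMap_residueField_eq_zero.1 h0))
      have hLq : ∀ v : Fin d → B, Lq (fun j => algebraMap B _ (v j)) = (1 : q.ResidueField) ⊗ₜ[B] L v := by
        intro v
        simp only [Lq, L, Fintype.linearCombination_apply, TensorProduct.tmul_sum, algebraMap_smul, TensorProduct.tmul_smul]
      have hs : Function.Surjective Lq := by
        rw [← LinearMap.range_eq_top, eq_top_iff]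
        rintro t -
        induction t using TensorProduct.induction_on with
        | zero => exact zero_mem _
        | tmul a z =>
          obtain ⟨w, hw⟩ := hr₀' z
          refine ⟨(a * (algebraMap B _ r₀)⁻¹) • (fun j => algebraMap B _ (w j)), ?_⟩
          rw [map_smul, hLq, hw, TensorProduct.tmul_smul, ← algebraMap_smul q.ResidueField r₀, smul_smul,
            mul_assoc, inv_mul_cancel₀ hrq, mul_one, TensorProduct.smul_tmul', smul_eq_mul, mul_one]
        | add x y hx hy => exact add_mem hx hy
      have hi : Function.Injective Lq := (LinearMap.injective_iff_surjective_of_finrank_eq_finrank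
        (by rw [h m q hqm, Module.finrank_fin_fun])).2 hs
      have := hLq ((c : B) • v)
      rw [hLc, TensorProduct.tmul_zero, ← map_zero Lq] at this
      exact Ideal.algebraMap_residueField_eq_zero.1 (congrFun (hi this) i)
    funext i
    have h1 : IsNilpotent (algebraMap B Bm ((c : B) * v i)) := by
      rw [← mem_nilradical, nilradical_eq_sInf]
      refine Ideal.mem_sInf.2 fun {P} hP => ?_
      haveI : P.IsPrime := hP
      have hle : P.comap (algebraMap B Bm) ≤ m := by
        conv_rhs => rw [← IsLocalization.AtPrime.comap_maximalIdeal Bm m]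
        exact Ideal.comap_mono (IsLocalRing.le_maximalIdeal hP.ne_top)
      exact hq _ hle i
    have h2 := h1.eq_zero
    rw [map_mul, hv, (hunit c).mul_right_eq_zero, (hunit b).mul_right_eq_zero] at h2
    simpa using h2
  exact Module.Projective.of_equiv (LinearEquiv.ofBijective Lm ⟨hinj, hsur⟩)

theorem projective_coker_of_finrank_range_const [IsReduced B] [IsNoetherianRing B] [Module.Projective B K']
    [Module.Finite B K'] [Module.Finite B K] (φ : K →ₗ[B] K')
    (hconst : ∃ c : ℕ, ∀ y : PrimeSpectrum B,
      Module.finrank y.asIdeal.ResidueField ↥(LinearMap.range (φ.baseChange y.asIdeal.ResidueField)) = c) :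
    Module.Projective B (K' ⧸ LinearMap.range φ) := by
  obtain ⟨c, hc⟩ := hconst
  haveI := Module.finitePresentation_of_finite B (K' ⧸ LinearMap.range φ)
  refine projective_of_finrank_eq fun m hm q hq hqm => ?_
  have key : ∀ y : PrimeSpectrum B, Module.finrank y.asIdeal.ResidueField (y.asIdeal.ResidueField ⊗[B] (K' ⧸ LinearMap.range φ))
      + c = Module.rankAtStalk (R := B) K' y := by
    intro y
    let κ := y.asIdeal.ResidueField
    let Q := (LinearMap.range φ).mkQ.baseChange κ
    have hsQ : Function.Surjective Q := LinearMap.lTensor_surjective κ (Submodule.mkQ_surjective _)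
    have hker : LinearMap.ker Q = LinearMap.range (φ.baseChange κ) :=
      LinearMap.exact_iff.1 (show Function.Exact (φ.baseChange κ) Q from
        lTensor_exact κ (LinearMap.exact_map_mkQ_range φ) (Submodule.mkQ_surjective _))
    have := Q.finrank_range_add_finrank_ker
    rw [LinearMap.range_eq_top.2 hsQ, finrank_top, hker, hc y] at this
    rw [this]
    exact Ideal.finrank_fiber_eq_rankAtStalk y.asIdeal
  have h1 := key ⟨q, hq⟩
  have h2 := key ⟨m, inferInstance⟩
  have h3 : Module.rankAtStalk (R := B) K' ⟨q, hq⟩ = Module.rankAtStalk (R := B) K' ⟨m, inferInstance⟩ :=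
    Module.rankAtStalk_eq_of_le_of_finite_of_flat K' hqm
  simp only at h1 h2
  omega

end Groth.Calg6
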