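import Mathlib
import Groth.Agent.LocCohBase.CM
import Groth.Agent.Gorenstein.Basic
import Groth.Agent.Gorenstein.Regular

/-! Systems of parameters in Cohen–Macaulay modules are regular sequences. -/

set_option autoImplicit false
universe u

namespace Groth.Calg6

open IsLocalRing RingTheory.Sequence Pointwise

theorem AddLECancellable.of_ne_top_one : AddLECancellable (1 : WithBot ℕ∞) := by
  intro a b h
  cases a with
  | bot => exact bot_le
  | coe a =>
    cases b with
    | bot => simp at h
    | coe b =>
      rw [← WithBot.coe_one, ← WithBot.coe_add, ← WithBot.coe_add, WithBot.coe_le_coe] at h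
      exact WithBot.coe_le_coe.2 ((ENat.addLECancellable_of_ne_top (by simp : (1 : ℕ∞) ≠ ⊤)) h)

variable {R : Type u} [CommRing R] [IsLocalRing R] [IsNoetherianRing R]

theorem supportDim_le_quotient_ofList_add_length (l : List R) :
    ∀ (M : Type u) [AddCommGroup M] [Module R M] [Module.Finite R M],
      (∀ x ∈ l, x ∈ maximalIdeal R) →
      Module.supportDim R M ≤ Module.supportDim R (M ⧸ Ideal.ofList l • (⊤ : Submodule R M)) + (l.length : WithBot ℕ∞) := by
  induction l with
  | nil =>
    intro M _ _ _ _
    rw [List.length_nil, Nat.cast_zero, add_zero]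
    exact le_of_eq (Module.supportDim_eq_of_equiv (Submodule.quotEquivOfEqBot _ (by simp)).symm)
  | cons x l ih =>
    intro M _ _ _ h
    refine (Module.supportDim_le_supportDim_quotSMulTop_succ (h x List.mem_cons_self)).trans ?_
    have h1 := ih (QuotSMulTop x M) (fun y hy => h y (List.mem_cons_of_mem _ hy))
    rw [← Module.supportDim_eq_of_equiv (Submodule.quotOfListConsSMulTopEquivQuotSMulTopInner M x l)] at h1
    refine (add_le_add_left h1 1).trans (le_of_eq ?_)
    rw [List.length_cons, Nat.cast_succ, add_assoc]

/-- In a Cohen–Macaulay module, an element cutting down the dimension is regular. -/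
theorem isSMulRegular_of_supportDim_lt {M : Type u} [AddCommGroup M] [Module R M] [Module.Finite R M]
    (h : LocCoh.IsCohenMacaulayModule R M) {x : R}
    (hlt : Module.supportDim R (QuotSMulTop x M) < Module.supportDim R M) : IsSMulRegular M x := by
  by_contra hreg
  have hx : x ∈ ⋃ p ∈ associatedPrimes R M, (p : Set R) := by
    rw [biUnion_associatedPrimes_eq_compl_regular R M]
    exact hreg
  simp only [Set.mem_iUnion, exists_prop] at hx
  obtain ⟨p, hp, hxp⟩ := hx
  refine absurd ?_ (not_le_of_gt hlt)
  rw [← Groth.LocCohBase.ringKrullDim_quotient_eq_of_CM h hp, ← Module.supportDim_quotient_eq_ringKrullDim]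
  refine Order.krullDim_le_of_strictMono (fun q => ⟨q.1, ?_⟩) fun a b hab => hab
  have hq : p ≤ q.1.asIdeal :=
    SetLike.coe_subset_coe.1 ((PrimeSpectrum.mem_zeroLocus _ _).1
      ((Set.ext_iff.1 (Groth.LocCohBase.support_quotient_eq p) _).1 q.2))
  have hann : Module.annihilator R M ≤ p :=
    le_of_eq_of_le Submodule.annihilator_top.symm (IsAssociatedPrime.annihilator_le hp)
  rw [Module.support_quotSMulTop, Set.mem_inter_iff, Module.mem_support_iff_of_finite,
    PrimeSpectrum.mem_zeroLocus, Set.singleton_subset_iff]
  exact ⟨hann.trans hq, hq hxp⟩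

/-- Systems of parameters (in any order) of a Cohen–Macaulay module are regular sequences. -/
theorem isWeaklyRegular_of_supportDim_add_length_le (l : List R) :
    ∀ (M : Type u) [AddCommGroup M] [Module R M] [Module.Finite R M],
      LocCoh.IsCohenMacaulayModule R M → (∀ x ∈ l, x ∈ maximalIdeal R) →
      Module.supportDim R (M ⧸ Ideal.ofList l • (⊤ : Submodule R M)) + (l.length : WithBot ℕ∞) ≤ Module.supportDim R M →
      IsWeaklyRegular M l := by
  induction l with
  | nil => intro M _ _ _ _ _ _; exact IsWeaklyRegular.nil R M
  | cons x l ih =>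
    intro M _ _ _ hM h hdim
    haveI : Nontrivial M := Groth.LocCohBase.nontrivial_of_CM hM
    obtain ⟨d, hd⟩ := Groth.LocCohBase.exists_depth_eq (R := R) M
    have hxm := h x List.mem_cons_self
    have hl : ∀ y ∈ l, y ∈ maximalIdeal R := fun y hy => h y (List.mem_cons_of_mem _ hy)
    have hMd : Module.supportDim R M = (d : WithBot ℕ∞) := by
      rw [show Module.supportDim R M = _ from hM, hd]
      rfl
    rw [Module.supportDim_eq_of_equiv (Submodule.quotOfListConsSMulTopEquivQuotSMulTopInner M x l),
      List.length_cons, Nat.cast_succ, ← add_assoc] at hdim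
    have h1 := supportDim_le_quotient_ofList_add_length l (QuotSMulTop x M) hl
    have h2 : Module.supportDim R (QuotSMulTop x M) + 1 ≤ Module.supportDim R M :=
      (add_le_add_left h1 1).trans hdim
    have hlt : Module.supportDim R (QuotSMulTop x M) < Module.supportDim R M := by
      rw [hMd] at h2 ⊢
      generalize Module.supportDim R (QuotSMulTop x M) = e at h2 ⊢
      induction e with
      | bot => exact WithBot.bot_lt_coe _
      | coe e =>
        induction e with
        | top => exact absurd (WithBot.coe_le_coe.1 h2) (by simp)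
        | coe e =>
          change ((e + 1 : ℕ) : WithBot ℕ∞) ≤ (d : WithBot ℕ∞) at h2
          change (e : WithBot ℕ∞) < (d : WithBot ℕ∞)
          norm_cast at h2 ⊢
    have hreg := isSMulRegular_of_supportDim_lt hM hlt
    refine IsWeaklyRegular.cons hreg (ih _ (Groth.LocCohBase.isCM_quotSMulTop hM hxm hreg) hl ?_)
    rw [← Module.supportDim_quotSMulTop_succ_eq_supportDim hreg hxm] at hdim
    exact ((AddLECancellable.of_ne_top_one).add_le_add_iff_right).1 hdim

theorem isCohenMacaulayModule_of_isRegularLocalRing (R : Type u) [CommRing R] [IsRegularLocalRing R] :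
    LocCoh.IsCohenMacaulayModule R R := by
  exact (GrothGoren.isCohenMacaulay R (GrothGoren.exists_injLT_of_regular _ R le_rfl)).supportDim_eq_depth

end Groth.Calg6
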