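import Mathlib

/-!
Flatness criteria through adic filtrations.
-/

set_option autoImplicit false
universe u v w
open TensorProduct

namespace Groth.Calg6

section ext
variable {A : Type u} [CommRing A]

/-- An extension of flat modules is flat. -/
theorem flat_of_extension {M₁ M₂ M₃ : Type v} [AddCommGroup M₁] [AddCommGroup M₂] [AddCommGroup M₃]
    [Module A M₁] [Module A M₂] [Module A M₃] (f : M₁ →ₗ[A] M₂) (g : M₂ →ₗ[A] M₃)
    (hf : Function.Injective f) (hfg : Function.Exact f g) (hg : Function.Surjective g)
    [Module.Flat A M₁] [Module.Flat A M₃] : Module.Flat A M₂ := by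
  rw [Module.Flat.iff_rTensor_injective]
  intro J hJ
  rw [injective_iff_map_eq_zero]
  intro x hx
  have c1 : ∀ z, J.subtype.rTensor M₃ (g.lTensor J z) = g.lTensor A (J.subtype.rTensor M₂ z) := fun z => by
    rw [← LinearMap.comp_apply, ← LinearMap.comp_apply, LinearMap.rTensor_comp_lTensor, LinearMap.lTensor_comp_rTensor]
  have c2 : ∀ z, J.subtype.rTensor M₂ (f.lTensor J z) = f.lTensor A (J.subtype.rTensor M₁ z) := fun z => by
    rw [← LinearMap.comp_apply, ← LinearMap.comp_apply, LinearMap.rTensor_comp_lTensor, LinearMap.lTensor_comp_rTensor]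
  have h3 : g.lTensor J x = 0 :=
    Module.Flat.rTensor_preserves_injective_linearMap J.subtype (Submodule.injective_subtype J)
      (by rw [c1, hx, map_zero, map_zero])
  obtain ⟨y, rfl⟩ := (lTensor_exact J hfg hg x).1 h3
  rw [c2] at hx
  have : J.subtype.rTensor M₁ y = 0 :=
    Module.Flat.lTensor_preserves_injective_linearMap (M := A) f hf (by rw [hx, map_zero])
  rw [Module.Flat.rTensor_preserves_injective_linearMap J.subtype (Submodule.injective_subtype J)
    (this.trans (map_zero _).symm), map_zero]

end ext

section graded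
variable {A : Type u} [CommRing A] {B : Type v} [CommRing B] [Algebra A B]
  {N : Type w} [AddCommGroup N] [Module B N] [Module A N] [IsScalarTower A B N]

theorem flat_quotient_of_graded (I : Ideal B)
    (hgr : ∀ n : ℕ, Module.Flat A
      (↥(I ^ n • (⊤ : Submodule B N)) ⧸ (I • (⊤ : Submodule B ↥(I ^ n • (⊤ : Submodule B N)))))) :
    ∀ n, Module.Flat A (N ⧸ I ^ n • (⊤ : Submodule B N)) := by
  intro n
  induction n with
  | zero =>
    have : Subsingleton (N ⧸ I ^ 0 • (⊤ : Submodule B N)) := by
      rw [Submodule.Quotient.subsingleton_iff, pow_zero, Ideal.one_eq_top, Submodule.top_smul]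
    haveI := Module.Free.of_subsingleton A (N ⧸ I ^ 0 • (⊤ : Submodule B N))
    infer_instance
  | succ n ih =>
    set P := I ^ n • (⊤ : Submodule B N)
    set Q := I ^ (n + 1) • (⊤ : Submodule B N)
    have hQP : Q ≤ P := Submodule.smul_mono (Ideal.pow_le_pow_right (Nat.le_succ n)) le_rfl
    have hPQ : (I • (⊤ : Submodule B P)).map P.subtype = Q := by
      rw [Submodule.map_smul'', Submodule.map_subtype_top]
      show I • I ^ n • (⊤ : Submodule B N) = _
      rw [← Submodule.mul_smul, ← pow_succ']
    let f : (↥P ⧸ (I • (⊤ : Submodule B P))) →ₗ[B] N ⧸ Q :=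
      Submodule.mapQ _ _ P.subtype (Submodule.map_le_iff_le_comap.1 hPQ.le)
    let g : N ⧸ Q →ₗ[B] N ⧸ P := Submodule.factor hQP
    haveI := hgr n
    refine flat_of_extension (f.restrictScalars A) (g.restrictScalars A) ?_ ?_ ?_
    · show Function.Injective f
      rw [← LinearMap.ker_eq_bot, eq_bot_iff]
      intro z hz
      obtain ⟨z, rfl⟩ := Submodule.Quotient.mk_surjective _ z
      rw [LinearMap.mem_ker, Submodule.mapQ_apply, Submodule.Quotient.mk_eq_zero, ← hPQ] at hz
      obtain ⟨w, hw, hwz⟩ := hz
      rw [Submodule.mem_bot, Submodule.Quotient.mk_eq_zero, ← Subtype.ext hwz]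
      exact hw
    · intro z
      obtain ⟨z, rfl⟩ := Submodule.Quotient.mk_surjective _ z
      show Submodule.Quotient.mk z = (0 : N ⧸ P) ↔ _
      rw [Submodule.Quotient.mk_eq_zero]
      constructor
      · intro h; exact ⟨Submodule.Quotient.mk ⟨z, h⟩, rfl⟩
      · rintro ⟨y, hy⟩
        obtain ⟨y, rfl⟩ := Submodule.Quotient.mk_surjective _ y
        have h : (y : N) - z ∈ Q := (Submodule.Quotient.eq _).1 hy
        simpa using P.sub_mem y.2 (hQP h)
    · intro z
      obtain ⟨z, rfl⟩ := Submodule.Quotient.mk_surjective _ z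
      exact ⟨Submodule.Quotient.mk z, rfl⟩

theorem flat_of_flat_quotient_pow [IsNoetherianRing B] [Module.Finite B N] (I : Ideal B)
    (hI : I ≤ Ideal.jacobson ⊥) (h : ∀ n, Module.Flat A (N ⧸ I ^ n • (⊤ : Submodule B N))) :
    Module.Flat A N := by
  rw [Module.Flat.iff_rTensor_injective]
  intro J hJ
  rw [← LinearMap.lTensor_inj_iff_rTensor_inj, injective_iff_map_eq_zero]
  intro x hx
  haveI : Module.Finite A J := Module.Finite.iff_fg.2 hJ
  haveI : Module.Finite B (N ⊗[A] J) :=
    Module.Finite.equiv (TensorProduct.AlgebraTensorModule.cancelBaseChange A B B N J)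
  have key : ∀ n, x ∈ I ^ n • (⊤ : Submodule B (N ⊗[A] J)) := by
    intro n
    let P := I ^ n • (⊤ : Submodule B N)
    let q : N →ₗ[A] N ⧸ P := P.mkQ.restrictScalars A
    have c : J.subtype.lTensor (N ⧸ P) (q.rTensor J x) = q.rTensor A (J.subtype.lTensor N x) := by
      rw [← LinearMap.comp_apply, ← LinearMap.comp_apply, LinearMap.rTensor_comp_lTensor, LinearMap.lTensor_comp_rTensor]
    haveI := h n
    have h0 : q.rTensor J x = 0 :=
      Module.Flat.lTensor_preserves_injective_linearMap (M := N ⧸ P) J.subtype (Submodule.injective_subtype J)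
        (by rw [c, hx, map_zero, map_zero])
    have hex : Function.Exact (P.subtype.restrictScalars A) q := LinearMap.exact_subtype_mkQ P
    obtain ⟨y, rfl⟩ := (rTensor_exact J hex (Submodule.mkQ_surjective P) x).1 h0
    clear hx h0 c
    induction y using TensorProduct.induction_on with
    | zero => simp
    | tmul p j =>
      rw [LinearMap.rTensor_tmul]
      show (p : N) ⊗ₜ[A] j ∈ _
      obtain ⟨p, hp⟩ := p
      show p ⊗ₜ[A] j ∈ _
      induction hp using Submodule.smul_induction_on' with
      | smul r hr m _ => rw [← TensorProduct.smul_tmul']; exact Submodule.smul_mem_smul hr trivial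
      | add a _ b _ ha hb => rw [TensorProduct.add_tmul]; exact add_mem ha hb
    | add a b ha hb => rw [map_add]; exact add_mem ha hb
  have := Ideal.iInf_pow_smul_eq_bot_of_le_jacobson (M := N ⊗[A] J) I hI
  exact (Submodule.eq_bot_iff _).1 this x (Submodule.mem_iInf _ |>.2 key)

end graded

section adic
variable {B : Type u} [CommRing B] {A : Type v} [CommRing A] [Algebra B A]

theorem rTensor_injective_of_flat_tensor {B' : Type w} [CommRing B'] [Algebra B B']
    {X : Type v} [AddCommGroup X] [Module B X] [Module.Flat B' (B' ⊗[B] X)]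
    {M M' : Type w} [AddCommGroup M] [AddCommGroup M'] [Module B M] [Module B M'] [Module B' M] [Module B' M']
    [IsScalarTower B B' M] [IsScalarTower B B' M']
    (f : M →ₗ[B'] M') (hf : Function.Injective f) :
    Function.Injective ((f.restrictScalars B).rTensor X) := by
  let e := TensorProduct.AlgebraTensorModule.cancelBaseChange B B' B' M X
  let e' := TensorProduct.AlgebraTensorModule.cancelBaseChange B B' B' M' X
  have c : ∀ z, (f.restrictScalars B).rTensor X (e z) = e' (f.rTensor (B' ⊗[B] X) z) := by
    intro z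
    induction z using TensorProduct.induction_on with
    | zero => simp
    | tmul m t =>
      induction t using TensorProduct.induction_on with
      | zero => simp
      | tmul b x => simp [e, e']
      | add t s ht hs => simp only [TensorProduct.tmul_add, map_add, ht, hs]
    | add t s ht hs => simp only [map_add, ht, hs]
  intro a b hab
  obtain ⟨a, rfl⟩ := e.surjective a
  obtain ⟨b, rfl⟩ := e.surjective b
  congr 1
  apply Module.Flat.rTensor_preserves_injective_linearMap (M := B' ⊗[B] X) f hf
  apply e'.injective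
  exact (c a).symm.trans (hab.trans (c b))

theorem flat_of_flat_quotient_base [IsNoetherianRing B] [IsNoetherianRing A] (J : Ideal B)
    (hJ : J.map (algebraMap B A) ≤ Ideal.jacobson ⊥)
    (h : ∀ n : ℕ, 0 < n → Module.Flat (B ⧸ J ^ n) ((B ⧸ J ^ n) ⊗[B] A)) : Module.Flat B A := by
  rw [Module.Flat.iff_rTensor_injective]
  intro K hK
  rw [injective_iff_map_eq_zero]
  intro x hx
  haveI : Module.Finite B K := Module.Finite.iff_fg.2 hK
  obtain ⟨c, hc⟩ := J.exists_pow_inf_eq_pow_smul (M := B) K
  let σ := (TensorProduct.comm B K A)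
  have key : ∀ m, σ x ∈ (J.map (algebraMap B A)) ^ m • (⊤ : Submodule A (A ⊗[B] K)) := by
    intro m
    set n := m + c + 1
    haveI := h n (Nat.succ_pos _)
    let K' : Ideal (B ⧸ J ^ n) := K.map (Ideal.Quotient.mk (J ^ n))
    let q : K →ₗ[B] K' :=
      { toFun := fun k => ⟨Ideal.Quotient.mk _ k, Ideal.mem_map_of_mem _ k.2⟩
        map_add' := fun a b => Subtype.ext (map_add _ _ _)
        map_smul' := fun b a => Subtype.ext (by simp [Algebra.smul_def]) }
    have hq : Function.Surjective q := by
      rintro ⟨y, hy⟩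
      obtain ⟨k, hk, rfl⟩ := (Ideal.mem_map_iff_of_surjective _ Ideal.Quotient.mk_surjective).1 hy
      exact ⟨⟨k, hk⟩, rfl⟩
    have comm : (K'.subtype.restrictScalars B).rTensor A ∘ₗ q.rTensor A =
        ((Ideal.Quotient.mkₐ B (J ^ n)).toLinearMap).rTensor A ∘ₗ K.subtype.rTensor A := by
      rw [← LinearMap.rTensor_comp, ← LinearMap.rTensor_comp]
      rfl
    have h0 : q.rTensor A x = 0 := rTensor_injective_of_flat_tensor (B' := B ⧸ J ^ n) (X := A)
      K'.subtype (Submodule.injective_subtype K') ((LinearMap.congr_fun comm x).trans (by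
        rw [LinearMap.comp_apply, hx, map_zero, map_zero]))
    obtain ⟨y, rfl⟩ := (rTensor_exact A (LinearMap.exact_subtype_ker_map q) hq x).1 h0
    clear hx h0
    induction y using TensorProduct.induction_on with
    | zero => simp
    | tmul k a =>
      obtain ⟨k, hk⟩ := k
      rw [LinearMap.rTensor_tmul]
      show a ⊗ₜ[B] k ∈ _
      have hk' : (k : B) ∈ J ^ n • (⊤ : Submodule B B) ⊓ K := by
        refine ⟨?_, k.2⟩
        have : Ideal.Quotient.mk (J ^ n) (k : B) = 0 := congrArg Subtype.val hk
        rw [smul_eq_mul, Ideal.mul_top]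
        exact Ideal.Quotient.eq_zero_iff_mem.1 this
      rw [hc n (by omega)] at hk'
      have hk'' : (k : B) ∈ J ^ m • (K : Submodule B B) :=
        Submodule.smul_mono (Ideal.pow_le_pow_right (by omega)) inf_le_right hk'
      have hkk : k ∈ J ^ m • (⊤ : Submodule B K) := by
        have e : (J ^ m • (⊤ : Submodule B K)).map K.subtype = J ^ m • (K : Submodule B B) := by
          rw [Submodule.map_smul'', Submodule.map_subtype_top]
        rw [← e] at hk''
        obtain ⟨w, hw, hwk⟩ := hk''
        rwa [← Subtype.ext hwk]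
      clear hk hk' hk''
      induction hkk using Submodule.smul_induction_on' with
      | smul r hr z _ =>
        rw [TensorProduct.tmul_smul, ← algebraMap_smul A r]
        exact Submodule.smul_mem_smul (Ideal.map_pow (algebraMap B A) J m ▸ Ideal.mem_map_of_mem _ hr) trivial
      | add u _ w _ hu hw => rw [TensorProduct.tmul_add]; exact add_mem hu hw
    | add a b ha hb => rw [map_add, map_add]; exact add_mem ha hb
  have h0 := Ideal.iInf_pow_smul_eq_bot_of_le_jacobson (M := A ⊗[B] K) _ hJ
  exact σ.injective (((Submodule.eq_bot_iff _).1 h0 _ (Submodule.mem_iInf _ |>.2 key)).trans (map_zero σ).symm)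

end adic

end Groth.Calg6
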