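import Mathlib
import Groth.Agent.SGA7.TorSeq
import Groth.Agent.FlatMorOne.TorZero

/-! `IsZero (Tor₁)` versus the elementwise predicate `TorZero`. -/

set_option autoImplicit false
universe u

open CategoryTheory MonoidalCategory Limits TensorProduct

namespace Groth.Calg6

variable {R : Type u} [CommRing R] (N M : Type u) [AddCommGroup N] [Module R N] [AddCommGroup M] [Module R M]

theorem torZero_iff_aux {G A B : Type u} [AddCommGroup G] [Module R G] [Module.Flat R G]
    [AddCommGroup A] [Module R A] [AddCommGroup B] [Module R B] [Module.Flat R B]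
    (π : G →ₗ[R] M) (hπ : Function.Surjective π) (f : A →ₗ[R] B) (g : B →ₗ[R] N)
    (hf : Function.Injective f) (he : Function.Exact f g) (hg : Function.Surjective g) :
    FlatMorOne.TorZero R M N ↔ Function.Injective ((LinearMap.ker π).subtype.lTensor N) :=
  ⟨fun h => FlatMorOne.ker_lTensor_injective_of_flat π hπ he hg (h.lTensor_injective hf he hg),
    fun h => FlatMorOne.torZero_of_flat he hg (FlatMorOne.lTensor_injective_of_presentation π hπ hf he hg h)⟩

theorem torZero_iff_of_presentation {G : Type u} [AddCommGroup G] [Module R G] [Module.Flat R G]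
    (π : G →ₗ[R] M) (hπ : Function.Surjective π) :
    FlatMorOne.TorZero R M N ↔ Function.Injective ((LinearMap.ker π).subtype.lTensor N) := by
  let p := Finsupp.linearCombination R (id : N → N)
  have hp : Function.Surjective p := fun q => ⟨Finsupp.single q 1, by simp [p]⟩
  haveI : Module.Flat R (N →₀ R) := Module.Flat.of_free
  exact torZero_iff_aux (A := ↥(FlatMorOne.presKer R N)) (B := N →₀ R) N M π hπ (FlatMorOne.presKer R N).subtype p
    Subtype.val_injective (LinearMap.exact_subtype_ker_map p) hp

theorem isZero_tor_one_iff :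
    IsZero (((Tor (ModuleCat.{u} R) 1).obj (ModuleCat.of R N)).obj (ModuleCat.of R M)) ↔ FlatMorOne.TorZero R M N := by
  obtain ⟨P⟩ := (inferInstance : HasProjectiveResolution (ModuleCat.of R M)).out
  rw [SGA7.TorSeq.isZero_tor_iff _ _ P, ← HomologicalComplex.exactAt_iff_isZero_homology,
    HomologicalComplex.exactAt_iff' _ 2 1 0 (by simp) (by simp), ShortComplex.ShortExact.moduleCat_exact_iff_function_exact]
  haveI : Projective (P.complex.X 0) := P.projective 0
  haveI : Module.Projective R (P.complex.X 0) := ModuleCat.projective_of_module_projective _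
  haveI : Module.Flat R (P.complex.X 0) := Module.Flat.of_projective
  let π : P.complex.X 0 →ₗ[R] M := (P.π.f 0).hom
  have hπ : Function.Surjective π := (ModuleCat.epi_iff_surjective (P.π.f 0)).1 inferInstance
  have hex0 : Function.Exact (P.complex.d 1 0).hom π :=
    (ShortComplex.ShortExact.moduleCat_exact_iff_function_exact _).1 P.exact₀
  have hex1 : Function.Exact (P.complex.d 2 1).hom (P.complex.d 1 0).hom :=
    (ShortComplex.ShortExact.moduleCat_exact_iff_function_exact _).1
      ((HomologicalComplex.exactAt_iff' _ 2 1 0 (by simp) (by simp)).1 (P.complex_exactAt_succ 0))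
  rw [torZero_iff_of_presentation N M π hπ]
  let q : P.complex.X 1 →ₗ[R] LinearMap.ker π :=
    (P.complex.d 1 0).hom.codRestrict _ fun x => LinearMap.mem_ker.2 (hex0.apply_apply_eq_zero x)
  have hq : Function.Surjective q := fun ⟨y, hy⟩ => by
    obtain ⟨x, hx⟩ := (hex0 y).1 hy
    exact ⟨x, Subtype.ext hx⟩
  have hqe : Function.Exact (P.complex.d 2 1).hom q := fun x =>
    ⟨fun h => (hex1 x).1 (congrArg Subtype.val h), fun h => Subtype.ext ((hex1 x).2 h)⟩
  have hT := lTensor_exact N hqe hq
  have hd : ∀ x, (P.complex.d 1 0).hom.lTensor N x = (LinearMap.ker π).subtype.lTensor N (q.lTensor N x) := by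
    intro x
    rw [← LinearMap.comp_apply, ← LinearMap.lTensor_comp, LinearMap.subtype_comp_codRestrict]
  change Function.Exact ((P.complex.d 2 1).hom.lTensor N) ((P.complex.d 1 0).hom.lTensor N) ↔ _
  constructor
  · intro h
    rw [injective_iff_map_eq_zero]
    intro z hz
    obtain ⟨x, rfl⟩ := LinearMap.lTensor_surjective N hq z
    rw [← hd] at hz
    exact (hT x).2 ((h x).1 hz)
  · intro h x
    rw [hd, map_eq_zero_iff _ h]
    exact hT x

end Groth.Calg6
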