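import Mathlib
import Groth.Agent.Calg6.PowerSeries

/-! Complete local algebras with a coefficient field, and power series rings. -/

set_option autoImplicit false
universe u v

namespace Groth.Calg6

open MvPowerSeries Groth.SGA7.PS IsLocalRing

section mv
variable {k : Type u} [Field k] {R : Type u} [CommRing R] [IsLocalRing R] [IsNoetherianRing R] [Algebra k R]
  {d : ℕ}

theorem map_varIdeal_eq (ψ : MvPowerSeries (Fin d) k →ₐ[k] R)
    (hψ : ∀ i : Fin d, ψ (X i) ∈ maximalIdeal R)
    (hsp : Submodule.span (ResidueField R)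
      (Set.range (fun i : Fin d => (maximalIdeal R).toCotangent ⟨ψ (X i), hψ i⟩)) = ⊤) :
    (varIdeal (Fin d) k).map ψ.toRingHom = maximalIdeal R := by
  have hle : (varIdeal (Fin d) k).map ψ.toRingHom ≤ maximalIdeal R := by
    rw [varIdeal, Ideal.map_span, Ideal.span_le]
    rintro _ ⟨_, ⟨i, rfl⟩, rfl⟩
    exact hψ i
  refine le_antisymm hle ?_
  refine Submodule.le_of_le_smul_of_le_jacobson_bot (IsNoetherian.noetherian _) (maximalIdeal_le_jacobson ⊥) ?_
  intro x hx
  have h1 : (maximalIdeal R).toCotangent ⟨x, hx⟩ ∈ Submodule.span R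
      (Set.range (fun i : Fin d => (maximalIdeal R).toCotangent ⟨ψ (X i), hψ i⟩)) := by
    rw [← Submodule.restrictScalars_mem R, ]
    have := (Submodule.restrictScalars_span R (ResidueField R) IsLocalRing.residue_surjective
      (Set.range (fun i : Fin d => (maximalIdeal R).toCotangent ⟨ψ (X i), hψ i⟩)))
    rw [Submodule.restrictScalars_self, ← this, hsp]
    trivial
  rw [Set.range_comp' (g := fun b : maximalIdeal R => (maximalIdeal R).toCotangent b) (f := fun i : Fin d => (⟨ψ (X i), hψ i⟩ : maximalIdeal R)), ← Submodule.map_span] at h1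
  obtain ⟨y, hy, hxy⟩ := h1
  have h2 : x - (y : R) ∈ maximalIdeal R ^ 2 := by
    have := (Ideal.toCotangent_eq _).1 hxy.symm
    exact this
  have h3 : (y : R) ∈ (varIdeal (Fin d) k).map ψ.toRingHom := by
    clear hxy h2
    induction hy using Submodule.span_induction with
    | mem z hz => obtain ⟨i, rfl⟩ := hz; exact Ideal.mem_map_of_mem ψ.toRingHom (X_mem i)
    | zero => exact zero_mem _
    | add a b _ _ ha hb => exact add_mem ha hb
    | smul c a _ ha => exact Ideal.mul_mem_left _ c ha
  rw [← sub_add_cancel x y, smul_eq_mul, ← pow_two, add_comm]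
  exact Submodule.add_mem_sup h3 h2

theorem surjective_of_cotangent (hR : Function.Surjective ((residue R).comp (algebraMap k R)))
    [IsAdicComplete (maximalIdeal R) R]
    (ψ : MvPowerSeries (Fin d) k →ₐ[k] R) (hψ : ∀ i : Fin d, ψ (X i) ∈ maximalIdeal R)
    (hsp : Submodule.span (ResidueField R)
      (Set.range (fun i : Fin d => (maximalIdeal R).toCotangent ⟨ψ (X i), hψ i⟩)) = ⊤) :
    Function.Surjective ψ := by
  have h := map_varIdeal_eq ψ hψ hsp
  haveI : IsHausdorff ((varIdeal (Fin d) k).map ψ.toRingHom) R := by rw [h]; infer_instance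
  refine surjective_of_map_varIdeal ψ.toRingHom fun x => ?_
  obtain ⟨c, hc⟩ := hR (residue R x)
  refine ⟨c, ?_⟩
  rw [h, ← residue_eq_zero_iff, map_sub, sub_eq_zero, ← hc]
  show residue R (algebraMap k R c) = residue R (ψ (C c))
  rw [show (C c : MvPowerSeries (Fin d) k) = algebraMap k _ c from rfl, AlgHom.commutes]

theorem ker_le_sq (ψ : MvPowerSeries (Fin d) k →ₐ[k] R) (hψ : ∀ i : Fin d, ψ (X i) ∈ maximalIdeal R)
    (hb : LinearIndependent (ResidueField R)
      (fun i : Fin d => (maximalIdeal R).toCotangent ⟨ψ (X i), hψ i⟩)) :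
    RingHom.ker ψ.toRingHom ≤ maximalIdeal (MvPowerSeries (Fin d) k) ^ 2 := by
  intro f hf
  rw [maximalIdeal_eq]
  have hf0 : constantCoeff f = 0 := by
    by_contra h0
    have hu : IsUnit f := isUnit_iff_constantCoeff.2 (Ne.isUnit h0)
    have := hu.map ψ.toRingHom
    rw [hf] at this
    exact not_isUnit_zero this
  refine mem_varIdeal_sq f hf0 ?_
  set c : Fin d → k := fun i => coeff (Finsupp.single i 1) f
  have hmem : f - ∑ i, C (c i) * X i ∈ varIdeal (Fin d) k ^ 2 := by
    refine mem_varIdeal_sq _ ?_ ?_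
    · simp [hf0]
    · intro i
      classical
      simp [map_sub, map_sum, MvPowerSeries.coeff_C_mul, coeff_X, Finsupp.single_left_inj, c]
  have hmap : ψ.toRingHom (f - ∑ i, C (c i) * X i) ∈ maximalIdeal R ^ 2 := by
    have hle : (varIdeal (Fin d) k).map ψ.toRingHom ≤ maximalIdeal R := by
      rw [varIdeal, Ideal.map_span, Ideal.span_le]
      rintro _ ⟨_, ⟨i, rfl⟩, rfl⟩
      exact hψ i
    have := Ideal.mem_map_of_mem ψ.toRingHom hmem
    rw [Ideal.map_pow] at this
    exact Ideal.pow_right_mono hle 2 this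
  have hfz : ψ f = 0 := hf
  have hsum : (∑ i, algebraMap k R (c i) * ψ (X i)) ∈ maximalIdeal R ^ 2 := by
    have e : ψ.toRingHom (f - ∑ i, C (c i) * X i) = - ∑ i, algebraMap k R (c i) * ψ (X i) := by
      show ψ (f - ∑ i, C (c i) * X i) = _
      rw [map_sub, hfz, zero_sub, map_sum]
      congr 1
      refine Finset.sum_congr rfl fun i _ => ?_
      rw [map_mul, show (C (c i) : MvPowerSeries (Fin d) k) = algebraMap k _ (c i) from rfl, AlgHom.commutes]
    rw [e] at hmap
    exact neg_mem_iff.1 hmap
  have hz : ∑ i, (residue R (algebraMap k R (c i))) • (maximalIdeal R).toCotangent ⟨ψ (X i), hψ i⟩ = 0 := by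
    have e : ∀ i, residue R (algebraMap k R (c i)) • (maximalIdeal R).toCotangent ⟨ψ (X i), hψ i⟩ =
        (maximalIdeal R).toCotangent (algebraMap k R (c i) • (⟨ψ (X i), hψ i⟩ : maximalIdeal R)) := fun i => by
      rw [map_smul]; rfl
    simp_rw [e]
    rw [← map_sum, Ideal.toCotangent_eq_zero]
    simpa [Submodule.coe_sum, Algebra.smul_def] using hsum
  intro i
  have := Fintype.linearIndependent_iff.1 hb _ hz i
  exact ((residue R).comp (algebraMap k R)).injective (by rw [map_zero]; exact this)

end mv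

section one
variable {K : Type u} {A : Type v} [Field K] [CommRing A] [IsDomain A] [IsDiscreteValuationRing A] [Algebra K A]
  [IsAdicComplete (maximalIdeal A) A]

theorem exists_powerSeries_algHom (hK : Function.Bijective ((residue A).comp (algebraMap K A)))
    (x : A) (hx : maximalIdeal A = Ideal.span {x}) :
    ∃ φ : PowerSeries K →ₐ[K] A, φ PowerSeries.X = x ∧ Function.Bijective φ ∧
      ∀ (f : PowerSeries K) (n : ℕ),
        φ f - (Finset.range n).sum (fun i => algebraMap K A (PowerSeries.coeff i f) * x ^ i) ∈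
          maximalIdeal A ^ n := by
  have hxm : x ∈ maximalIdeal A := hx ▸ Ideal.mem_span_singleton_self x
  let φ : PowerSeries K →ₐ[K] A := evalAdic (σ := Unit) (maximalIdeal A) (fun _ => x) (fun _ => hxm)
  have hX : φ PowerSeries.X = x := evalAdic_X _ _ _ _
  have hC : ∀ c, φ (PowerSeries.C c) = algebraMap K A c := fun c => by
    rw [← φ.commutes]; rfl
  have hx0 : x ≠ 0 := fun h => IsDiscreteValuationRing.not_a_field A (by simpa [h] using hx)
  have key : ∀ (f : PowerSeries K) (n : ℕ),
      φ f - (Finset.range n).sum (fun i => algebraMap K A (PowerSeries.coeff i f) * x ^ i) ∈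
        maximalIdeal A ^ n := by
    intro f n
    have hd : (PowerSeries.X : PowerSeries K) ^ n ∣
        f - ∑ i ∈ Finset.range n, PowerSeries.C (PowerSeries.coeff i f) * PowerSeries.X ^ i := by
      rw [PowerSeries.X_pow_dvd_iff]
      intro m hm
      simp [map_sum, PowerSeries.coeff_C_mul, PowerSeries.coeff_X_pow, hm]
    obtain ⟨g, hg⟩ := hd
    have h := congrArg φ hg
    simp only [map_sub, map_sum, map_mul, map_pow, hX, hC] at h
    rw [h]
    exact Ideal.mul_mem_right _ _ (Ideal.pow_mem_pow hxm n)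
  refine ⟨φ, hX, ⟨?_, ?_⟩, key⟩
  · rw [injective_iff_map_eq_zero]
    intro f hf
    by_contra hf0
    have h2 := f.X_pow_order_mul_divXPowOrder
    have hu : IsUnit (PowerSeries.divXPowOrder f) := by
      rw [PowerSeries.isUnit_iff_constantCoeff, isUnit_iff_ne_zero]
      exact fun h0 => hf0 ((PowerSeries.constantCoeff_divXPowOrder_eq_zero_iff).1 h0)
    have h := congrArg φ h2
    rw [map_mul, map_pow, hX, hf] at h
    exact pow_ne_zero _ hx0 ((hu.map φ).mul_left_eq_zero.1 h)
  · have hmap : (varIdeal Unit K).map φ.toRingHom = maximalIdeal A := by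
      rw [varIdeal, Ideal.map_span, hx]
      congr 1
      ext y
      simp only [Set.mem_image, Set.mem_range, Set.mem_singleton_iff]
      constructor
      · rintro ⟨_, ⟨i, rfl⟩, rfl⟩; exact hX
      · rintro rfl; exact ⟨_, ⟨(), rfl⟩, hX⟩
    haveI : IsHausdorff ((varIdeal Unit K).map φ.toRingHom) A := by rw [hmap]; infer_instance
    refine surjective_of_map_varIdeal φ.toRingHom fun y => ?_
    obtain ⟨c, hc⟩ := hK.2 (residue A y)
    refine ⟨c, ?_⟩
    rw [hmap, ← residue_eq_zero_iff, map_sub, sub_eq_zero, ← hc]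
    show residue A (algebraMap K A c) = residue A (φ (PowerSeries.C c))
    rw [hC]

end one

end Groth.Calg6
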