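import Groth.Prelude.Def_IntMult
import Groth.Agent.PropsBasic.LociBaseChange.Scheme
import Groth.Agent.DerivedCoh.RelAmp.StalkBC

/-!
The local rings of a product over a field as localisations of tensor products of local rings.
-/

set_option autoImplicit false

universe u

open CategoryTheory CategoryTheory.Limits AlgebraicGeometry TensorProduct

namespace Groth.Calg6.ProdStalk

/-- A ring between a ring and one of its localisations, made up of fractions, localises to the same
local ring. -/
theorem isLocalization_of_fractions {R C B : Type u} [CommRing R] [CommRing C] [CommRing B]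
    [IsLocalRing B] (i : R →+* C) (π : C →+* B) (M : Submonoid R)
    (hB : letI := (π.comp i).toAlgebra; IsLocalization M B)
    (hC : ∀ c : C, ∃ r : R, ∃ s ∈ M, c * i s = i r) :
    letI := π.toAlgebra
    IsLocalization.AtPrime B ((IsLocalRing.maximalIdeal B).comap π) := by
  algebraize [i, π, π.comp i]
  set P := (IsLocalRing.maximalIdeal B).comap π with hP
  have hM : ∀ s ∈ M, i s ∈ P.primeCompl := fun s hs =>
    (IsLocalRing.notMem_maximalIdeal).2 (IsLocalization.map_units B (⟨s, hs⟩ : M))
  refine (isLocalization_iff _ _).2 ⟨fun c => IsLocalRing.notMem_maximalIdeal.1 c.2, fun z => ?_, ?_⟩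
  · obtain ⟨⟨r, s⟩, h⟩ := IsLocalization.surj M z
    exact ⟨(i r, ⟨i s, hM s s.2⟩), h⟩
  · intro c d hcd
    obtain ⟨r, s, hs, hr⟩ := hC (c - d)
    have h0 : algebraMap R B r = algebraMap R B 0 := by
      rw [map_zero]
      have h' : π (i r) = 0 := by
        rw [← hr, map_mul, map_sub, show π c = π d from hcd, sub_self, zero_mul]
      exact h'
    obtain ⟨t, ht⟩ := IsLocalization.exists_of_eq (M := M) h0
    refine ⟨⟨i (t * s), hM _ (M.mul_mem t.2 hs)⟩, sub_eq_zero.1 ?_⟩
    have h1 : i t * ((c - d) * i s) = 0 := by rw [hr, ← map_mul, ht, mul_zero, map_zero]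
    change i (t * s) * c - i (t * s) * d = 0
    rw [map_mul, ← h1]
    ring

/-- The structure map of the local ring of a scheme over an affine base. -/
noncomputable def baseHom {R : CommRingCat.{u}} {X : Scheme.{u}} (f : X ⟶ Spec R) (x : X) :
    R ⟶ X.presheaf.stalk x :=
  (Scheme.ΓSpecIso R).inv ≫ f.appTop ≫ X.presheaf.germ ⊤ x trivial

theorem baseHom_appLE {R : CommRingCat.{u}} {X : Scheme.{u}} (f : X ⟶ Spec R) (x : X) (U : X.Opens)
    (hx : x ∈ U) (e : U ≤ f ⁻¹ᵁ ⊤) :
    (Scheme.ΓSpecIso R).inv ≫ f.appLE ⊤ U e ≫ X.presheaf.germ U x hx = baseHom f x := by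
  rw [baseHom, Scheme.Hom.appLE, Category.assoc, TopCat.Presheaf.germ_res]
  rfl

/-- The local ring of a product over an affine base with one point is a localisation of the tensor
product of the local rings. -/
theorem isLocalization_prod_stalk {R : CommRingCat.{u}} [Subsingleton ↥(Spec R)] {X Y : Scheme.{u}}
    (f : X ⟶ Spec R) (g : Y ⟶ Spec R) (z : ↥(pullback f g)) :
    letI := (baseHom f (pullback.fst f g z)).hom.toAlgebra
    letI := (baseHom g (pullback.snd f g z)).hom.toAlgebra
    ∀ π : X.presheaf.stalk (pullback.fst f g z) ⊗[R] Y.presheaf.stalk (pullback.snd f g z) →+*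
        (pullback f g).presheaf.stalk z,
      π.comp Algebra.TensorProduct.includeLeftRingHom = ((pullback.fst f g).stalkMap z).hom →
      π.comp (Algebra.TensorProduct.includeRight (R := R) (A := X.presheaf.stalk (pullback.fst f g z))
        (B := Y.presheaf.stalk (pullback.snd f g z))).toRingHom = ((pullback.snd f g).stalkMap z).hom →
      letI := π.toAlgebra
      IsLocalization.AtPrime ((pullback f g).presheaf.stalk z)
        ((IsLocalRing.maximalIdeal ((pullback f g).presheaf.stalk z)).comap π) := by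
  letI algX := (baseHom f (pullback.fst f g z)).hom.toAlgebra
  letI algY := (baseHom g (pullback.snd f g z)).hom.toAlgebra
  intro π hl hr
  obtain ⟨V, V', U, W, eU, eV, eWU, eWV, hV, hV', hU, hW, hx, hpo⟩ :=
    Groth.PropsBasic.Loci.exists_chart (IsPullback.of_hasPullback f g) z
  obtain rfl : V = ⊤ := top_le_iff.1 fun w _ => Subsingleton.elim (f (pullback.fst f g z)) w ▸ eU (eWU hx)
  let S := X.presheaf.stalk (pullback.fst f g z) ⊗[R] Y.presheaf.stalk (pullback.snd f g z)
  let iL : X.presheaf.stalk (pullback.fst f g z) ⟶ CommRingCat.of S :=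
    CommRingCat.ofHom (Algebra.TensorProduct.includeLeftRingHom (R := R)
      (A := X.presheaf.stalk (pullback.fst f g z)) (B := Y.presheaf.stalk (pullback.snd f g z)))
  let iR : Y.presheaf.stalk (pullback.snd f g z) ⟶ CommRingCat.of S :=
    CommRingCat.ofHom (Algebra.TensorProduct.includeRight (R := R)
      (A := X.presheaf.stalk (pullback.fst f g z)) (B := Y.presheaf.stalk (pullback.snd f g z))).toRingHom
  have w : f.appLE ⊤ U eU ≫ X.presheaf.germ U _ (eWU hx) ≫ iL =
      g.appLE ⊤ V' eV ≫ Y.presheaf.germ V' _ (eWV hx) ≫ iR := by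
    rw [← cancel_epi (Scheme.ΓSpecIso R).inv]
    refine (reassoc_of% baseHom_appLE f _ U (eWU hx) eU) iL |>.trans ?_
    refine Eq.trans ?_ ((reassoc_of% baseHom_appLE g _ V' (eWV hx) eV) iR).symm
    exact (CommRingCat.isPushout_tensorProduct R (X.presheaf.stalk (pullback.fst f g z))
      (Y.presheaf.stalk (pullback.snd f g z))).w
  let i : Γ(pullback f g, W) ⟶ CommRingCat.of S := hpo.desc _ _ w
  have hi : i ≫ CommRingCat.ofHom π = (pullback f g).presheaf.germ W z hx := by
    refine hpo.hom_ext ?_ ?_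
    · rw [hpo.inl_desc_assoc, Category.assoc,
        show iL ≫ CommRingCat.ofHom π = (pullback.fst f g).stalkMap z from CommRingCat.hom_ext hl,
        Groth.DerivedCoh.RelAmp.germ_appLE_stalkMap]
    · rw [hpo.inr_desc_assoc, Category.assoc,
        show iR ≫ CommRingCat.ofHom π = (pullback.snd f g).stalkMap z from CommRingCat.hom_ext hr,
        Groth.DerivedCoh.RelAmp.germ_appLE_stalkMap]
  let q := (hW.primeIdealOf ⟨z, hx⟩).asIdeal
  have hunit : ∀ r : Γ(pullback f g, W), IsUnit (π (i.hom r)) → r ∈ q.primeCompl := fun r hr => by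
    letI : Algebra Γ(pullback f g, W) ((pullback f g).presheaf.stalk z) :=
      ((pullback f g).presheaf.germ W z hx).hom.toAlgebra
    haveI : IsLocalization.AtPrime ((pullback f g).presheaf.stalk z) q := hW.isLocalization_stalk ⟨z, hx⟩
    refine (IsLocalization.AtPrime.isUnit_to_map_iff ((pullback f g).presheaf.stalk z) q r).1 ?_
    have := congr($(hi).hom r)
    exact this ▸ hr
  have hLf : ∀ a, ∃ r : Γ(pullback f g, W), ∃ s ∈ q.primeCompl, iL.hom a * i.hom s = i.hom r := fun a => by
    letI : Algebra Γ(X, U) (X.presheaf.stalk (pullback.fst f g z)) :=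
      (X.presheaf.germ U _ (eWU hx)).hom.toAlgebra
    let p := (hU.primeIdealOf ⟨pullback.fst f g z, eWU hx⟩).asIdeal
    haveI : IsLocalization.AtPrime (X.presheaf.stalk (pullback.fst f g z)) p :=
      hU.isLocalization_stalk ⟨pullback.fst f g z, eWU hx⟩
    obtain ⟨⟨r, s⟩, he⟩ := IsLocalization.surj p.primeCompl a
    have hcomp : ∀ c, i.hom (((pullback.fst f g).appLE U W eWU).hom c) =
        iL.hom (algebraMap _ (X.presheaf.stalk (pullback.fst f g z)) c) :=
      fun c => congr($(hpo.inl_desc _ _ w).hom c)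
    refine ⟨((pullback.fst f g).appLE U W eWU).hom r, ((pullback.fst f g).appLE U W eWU).hom s,
      hunit _ ?_, ?_⟩
    · rw [hcomp]
      exact ((IsLocalization.map_units (X.presheaf.stalk (pullback.fst f g z)) s).map iL.hom).map π
    · rw [hcomp, hcomp, ← map_mul, he]
  have hRf : ∀ b, ∃ r : Γ(pullback f g, W), ∃ s ∈ q.primeCompl, iR.hom b * i.hom s = i.hom r := fun b => by
    letI : Algebra Γ(Y, V') (Y.presheaf.stalk (pullback.snd f g z)) :=
      (Y.presheaf.germ V' _ (eWV hx)).hom.toAlgebra
    let p := (hV'.primeIdealOf ⟨pullback.snd f g z, eWV hx⟩).asIdeal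
    haveI : IsLocalization.AtPrime (Y.presheaf.stalk (pullback.snd f g z)) p :=
      hV'.isLocalization_stalk ⟨pullback.snd f g z, eWV hx⟩
    obtain ⟨⟨r, s⟩, he⟩ := IsLocalization.surj p.primeCompl b
    have hcomp : ∀ c, i.hom (((pullback.snd f g).appLE V' W eWV).hom c) =
        iR.hom (algebraMap _ (Y.presheaf.stalk (pullback.snd f g z)) c) :=
      fun c => congr($(hpo.inr_desc _ _ w).hom c)
    refine ⟨((pullback.snd f g).appLE V' W eWV).hom r, ((pullback.snd f g).appLE V' W eWV).hom s,
      hunit _ ?_, ?_⟩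
    · rw [hcomp]
      exact ((IsLocalization.map_units (Y.presheaf.stalk (pullback.snd f g z)) s).map iR.hom).map π
    · rw [hcomp, hcomp, ← map_mul, he]
  refine isLocalization_of_fractions i.hom π q.primeCompl ?_ fun c => ?_
  · have h : π.comp i.hom = ((pullback f g).presheaf.germ W z hx).hom := congrArg CommRingCat.Hom.hom hi
    rw [h]
    exact hW.isLocalization_stalk ⟨z, hx⟩
  · refine TensorProduct.induction_on (R := R)
      (motive := fun c : S => ∃ r, ∃ s ∈ q.primeCompl, c * i.hom s = i.hom r) c ?_ ?_ ?_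
    · exact ⟨0, 1, one_mem _, by rw [zero_mul, map_zero]⟩
    · intro a b
      obtain ⟨r, s, hs, e⟩ := hLf a
      obtain ⟨r', s', hs', e'⟩ := hRf b
      refine ⟨r * r', s * s', mul_mem hs hs', ?_⟩
      have hab : (a ⊗ₜ[R] b : S) = iL.hom a * iR.hom b := by
        change _ = (a ⊗ₜ 1 : S) * (1 ⊗ₜ b)
        rw [Algebra.TensorProduct.tmul_mul_tmul, mul_one, one_mul]
      rw [hab, map_mul, map_mul, ← e, ← e']
      ring
    · rintro c d ⟨r, s, hs, e⟩ ⟨r', s', hs', e'⟩
      refine ⟨r * s' + r' * s, s * s', mul_mem hs hs', ?_⟩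
      rw [map_mul, map_add, map_mul, map_mul, ← e, ← e']
      ring

end Groth.Calg6.ProdStalk
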