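import Groth.Agent.ParaFormal.StalkIdeal
import Groth.Agent.Ega4Algebra2.RegularImmersion
import Groth.Agent.Cycles.StalkPrimes
import Groth.Agent.Cycles.DimJacobson
import Mathlib.AlgebraicGeometry.IdealSheaf.Subscheme
import Mathlib.AlgebraicGeometry.Morphisms.ClosedImmersion

/-!
Local rings of closed subschemes and of their intersections.
-/

set_option autoImplicit false

universe u

open CategoryTheory CategoryTheory.Limits AlgebraicGeometry IsLocalRing

namespace Groth.Calg6.ClosedImmStalk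

variable {X Y Z : Scheme.{u}}

/-- The ideal of a closed subscheme at a point. -/
theorem ker_stalkMap_eq (i : Y ⟶ X) [IsClosedImmersion i] (y : Y) :
    RingHom.ker (i.stalkMap y).hom = IntMult.stalkIdeal i.ker (i y) := by
  obtain ⟨U, hU, hy, -⟩ := exists_isAffineOpen_mem_and_subset (U := (⊤ : X.Opens)) (x := i y) trivial
  rw [Groth.Ega4b.ker_stalkMap_eq_map i hU y hy, Groth.ParaFormal.stalkIdeal_eq i.ker ⟨U, hU⟩ hy]

/-- The ideal of an intersection lies in the sum of the ideals. -/
theorem stalkIdeal_ker_inter_le (ιY : Y ⟶ X) (ιZ : Z ⟶ X) [IsClosedImmersion ιY] [IsClosedImmersion ιZ] (x : X) :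
    IntMult.stalkIdeal (pullback.fst ιY ιZ ≫ ιY).ker x ≤
      IntMult.stalkIdeal ιY.ker x ⊔ IntMult.stalkIdeal ιZ.ker x := by
  let J := ιY.ker ⊔ ιZ.ker
  let a : J.subscheme ⟶ Y := IsClosedImmersion.lift ιY J.subschemeι
    (le_sup_left.trans (Scheme.IdealSheafData.ker_subschemeι J).ge)
  let b : J.subscheme ⟶ Z := IsClosedImmersion.lift ιZ J.subschemeι
    (le_sup_right.trans (Scheme.IdealSheafData.ker_subschemeι J).ge)
  have hcond : a ≫ ιY = b ≫ ιZ := by
    rw [IsClosedImmersion.lift_fac, IsClosedImmersion.lift_fac]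
  have hle : (pullback.fst ιY ιZ ≫ ιY).ker ≤ J := by
    refine ((pullback.lift a b hcond).le_ker_comp (pullback.fst ιY ιZ ≫ ιY)).trans (le_of_eq ?_)
    rw [pullback.lift_fst_assoc, IsClosedImmersion.lift_fac, Scheme.IdealSheafData.ker_subschemeι]
  obtain ⟨U, hU, hx, -⟩ := exists_isAffineOpen_mem_and_subset (U := (⊤ : X.Opens)) (x := x) trivial
  rw [Groth.ParaFormal.stalkIdeal_eq _ ⟨U, hU⟩ hx, Groth.ParaFormal.stalkIdeal_eq _ ⟨U, hU⟩ hx,
    Groth.ParaFormal.stalkIdeal_eq _ ⟨U, hU⟩ hx, ← Ideal.map_sup]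
  exact Ideal.map_mono (hle ⟨U, hU⟩)

/-- The ideal at a generisation is the extended ideal. -/
theorem stalkIdeal_gen (I : X.IdealSheafData) {x ξ : X} (h : ξ ⤳ x) :
    IntMult.stalkIdeal I ξ = (IntMult.stalkIdeal I x).map (X.presheaf.stalkSpecializes h).hom :=
  (Groth.ParaFormal.stalkIdeal_spec I h).symm

/-- The length of the local ring of a closed subscheme. -/
theorem length_stalk (i : Y ⟶ X) [IsClosedImmersion i] (y : Y) :
    Module.length (Y.presheaf.stalk y) (Y.presheaf.stalk y) =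
      Module.length (X.presheaf.stalk (i y)) (X.presheaf.stalk (i y) ⧸ IntMult.stalkIdeal i.ker (i y)) := by
  letI : Algebra (X.presheaf.stalk (i y)) (Y.presheaf.stalk y) := (i.stalkMap y).hom.toAlgebra
  have hsurj : Function.Surjective (algebraMap (X.presheaf.stalk (i y)) (Y.presheaf.stalk y)) :=
    i.stalkMap_surjective y
  rw [← Module.length_eq_of_surjective (M := Y.presheaf.stalk y) hsurj]
  refine (((Submodule.quotEquivOfEq _ _ ?_).trans
    ((Algebra.linearMap (X.presheaf.stalk (i y)) (Y.presheaf.stalk y)).quotKerEquivOfSurjective hsurj)).length_eq).symm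
  rw [← ker_stalkMap_eq i y]
  rfl

/-- The sum defining the cycle of a closed subscheme at a point. -/
theorem subschemeFun_eq (δ : X → ℤ) (k : ℤ) (i : Y ⟶ X) [IsClosedImmersion i] (y : Y) :
    Cyc.subschemeFun δ k i (i y) =
      if δ (i y) = k then ((Module.length (Y.presheaf.stalk y) (Y.presheaf.stalk y)).toNat : ℤ) else 0 := by
  rw [Cyc.subschemeFun]
  congr 1
  have hset : {z : Y | i z = i y} = {y} := Set.ext fun z =>
    ⟨fun hz => i.isClosedEmbedding.injective hz, fun hz => congrArg i hz⟩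
  rw [hset]
  exact finsum_mem_singleton

theorem exists_of_subschemeFun_ne_zero (δ : X → ℤ) (k : ℤ) (i : Y ⟶ X) (x : X)
    (h : Cyc.subschemeFun δ k i x ≠ 0) : δ x = k ∧ ∃ y, i y = x := by
  rw [Cyc.subschemeFun] at h
  split_ifs at h with hk
  · refine ⟨hk, ?_⟩
    by_contra hne
    push Not at hne
    refine h ?_
    rw [show {z : Y | i z = x} = ∅ from Set.eq_empty_iff_forall_notMem.2 fun z hz => hne z hz]
    exact finsum_mem_empty
  · exact absurd rfl h

/-- The dimension of the local ring of the closure of a generisation. -/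
theorem dim_quotient_genPrime {δ : X → ℤ} (hδ : Cyc.IsDimFun X δ) {x ξ : X} (h : ξ ⤳ x) :
    ringKrullDim (X.presheaf.stalk x ⧸ (Groth.Cycles.genPrime h).asIdeal) = ((δ ξ - δ x).toNat : WithBot ℕ∞) := by
  rw [← Groth.Cycles.krullDim_interval hδ (h : x ≤ ξ), ← Groth.Cycles.ringKrullDim_locQuot x ξ h]
  exact ringKrullDim_eq_of_ringEquiv (Ideal.quotEquivOfEq (Groth.Cycles.genPrime_asIdeal h))

end Groth.Calg6.ClosedImmStalk
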