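import Groth.Prelude.Def_IntMult
import Groth.Prelude.Def_CAlg
import Groth.Agent.FrobLCI.MinimalComplex
import Groth.Agent.FrobLCI.GrInt.Main
import Groth.Agent.HTopHyper.HTor.Balance
import Groth.Agent.HTopHyper.HTor.TorFlat
import Groth.Agent.LocCohBase.Depth
import Groth.Agent.Ega4Algebra2.DepthFlat
import Groth.Agent.EGA41Two.CMPrime
import Mathlib.RingTheory.Regular.RegularSequence

/-!
Vanishing of higher Tor with finite length when depth is at least the projective dimension.
-/

set_option autoImplicit false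

universe u

open TensorProduct IsLocalRing CategoryTheory

namespace Groth.Calg6.TorCM

variable {A : Type u} [CommRing A] [IsLocalRing A] [IsNoetherianRing A]

omit [IsNoetherianRing A] in
theorem depth_eq_top (M : Type u) [AddCommGroup M] [Module A M] [Subsingleton M] :
    LocCoh.depth A M = ⊤ :=
  Groth.LocCohBase.idealDepth_eq_top_of_smul_top_eq_top (Subsingleton.elim _ _)

/-- Tensoring with a flat module does not lower the depth. -/
theorem depth_le_flat_tensor (F N : Type u) [AddCommGroup F] [Module A F] [Module.Flat A F]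
    [AddCommGroup N] [Module A N] [Module.Finite A N] :
    LocCoh.depth A N ≤ LocCoh.depth A (F ⊗[A] N) := by
  cases subsingleton_or_nontrivial N with
  | inl h =>
    rw [depth_eq_top (F ⊗[A] N)]
    exact le_top
  | inr h =>
    unfold LocCoh.depth LocCoh.idealDepth
    rw [if_neg (Groth.LocCohBase.smul_maximalIdeal_ne_top N (maximalIdeal.isMaximal A).ne_top)]
    split_ifs
    · exact le_top
    · exact iSup₂_le fun rs hrs => le_iSup₂_of_le rs ⟨hrs.1.isWeaklyRegular_lTensor, hrs.2⟩ le_rfl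

theorem injective_of_ker_finiteLength {T P Q : Type u} [AddCommGroup T] [Module A T] [AddCommGroup P]
    [Module A P] [Module.Finite A P] [AddCommGroup Q] [Module A Q] (v : P →ₗ[A] Q)
    (g : T ≃ₗ[A] LinearMap.ker v) (hT : IsFiniteLength A T) (hP : LocCoh.depth A P ≠ 0) :
    Function.Injective v := by
  obtain ⟨h1, h2⟩ := isFiniteLength_iff_isNoetherian_isArtinian.1 hT
  refine LinearMap.ker_eq_bot.1 (by_contra fun hne => hP ?_)
  exact Groth.FrobLCI.depth_eq_zero_of_finiteLength_le _
    (isFiniteLength_iff_isNoetherian_isArtinian.2 ⟨isNoetherian_of_linearEquiv g, g.isArtinian_iff.1 h2⟩) hne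

/-- The inductive step: a syzygy. -/
theorem tor_vanish_step (e : ℕ) {K F M : Type u} [AddCommGroup K] [Module A K] [Module.Finite A K]
    [AddCommGroup F] [Module A F] [Module.Finite A F] [Module.Flat A F] [AddCommGroup M] [Module A M]
    [Module.Finite A M] (N : Type u) [AddCommGroup N] [Module A N] [Module.Finite A N]
    (u : K →ₗ[A] F) (ρ : F →ₗ[A] M) (hu : Function.Injective u) (hρ : Function.Surjective ρ)
    (huρ : Function.Exact u ρ) (hdep : ((e + 1 : ℕ) : ℕ∞) ≤ LocCoh.depth A N)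
    (hK0 : ∀ i : ℕ, Subsingleton (DRing.Tor A (i + 1) K N))
    (hKd : LocCoh.depth A N ≤ LocCoh.depth A (K ⊗[A] N) + e)
    (hfl : IsFiniteLength A (DRing.Tor A 1 M N)) :
    (∀ i : ℕ, Subsingleton (DRing.Tor A (i + 1) M N)) ∧
      LocCoh.depth A N ≤ LocCoh.depth A (M ⊗[A] N) + (e + 1 : ℕ) := by
  let S := Groth.HTorLib.Syz.free (ModuleCat.of A N)
  have := S.proj 0
  obtain ⟨e₁⟩ := S.tor_succ (ModuleCat.of A M) 0
  obtain ⟨e₃⟩ := Groth.HTorLib.snake (M := M) (N := N) hu hρ huρ (S.inj 0) (S.surj 0) (S.exact 0)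
  have g : DRing.Tor A 1 M N ≃ₗ[A] LinearMap.ker (u.rTensor N) := e₁.trans e₃
  have hne0 : LocCoh.depth A (K ⊗[A] N) ≠ 0 := fun h0 => by
    rw [h0, zero_add] at hKd
    have := hdep.trans hKd
    norm_cast at this
    omega
  have hinj : Function.Injective (u.rTensor N) := injective_of_ker_finiteLength _ g hfl hne0
  refine ⟨fun i => ?_, ?_⟩
  · cases i with
    | zero => exact (g.trans (LinearEquiv.ofEq _ _ (LinearMap.ker_eq_bot.2 hinj))).toEquiv.subsingleton
    | succ i =>
      have := hK0 i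
      exact (Groth.HTorLib.tor_shift_left hu hρ huρ N i).elim fun g' => g'.toEquiv.subsingleton
  · have h := (Groth.LocCohBase.idealDepth_shortExact (maximalIdeal A) (u.rTensor N) (ρ.rTensor N)
      hinj (LinearMap.rTensor_surjective N hρ) (rTensor_exact N huρ hρ)).2.1
    rcases min_le_iff.1 h with h1 | h1
    · exact ((depth_le_flat_tensor F N).trans h1).trans le_self_add
    · refine hKd.trans ((add_le_add (tsub_le_iff_right.1 h1) le_rfl).trans ?_)
      rw [add_assoc, Nat.cast_succ, add_comm (1 : ℕ∞)]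
      rfl

/-- Higher Tor of finite length vanishes when depth is at least the projective dimension. -/
theorem tor_vanish : ∀ (e : ℕ) (M N : Type u) [AddCommGroup M] [Module A M] [Module.Finite A M]
    [AddCommGroup N] [Module A N] [Module.Finite A N], Groth.Ega4Algebra1.PdLT A M (e + 1) →
    (e : ℕ∞) ≤ LocCoh.depth A N → (∀ i : ℕ, IsFiniteLength A (DRing.Tor A (i + 1) M N)) →
    (∀ i : ℕ, Subsingleton (DRing.Tor A (i + 1) M N)) ∧
      LocCoh.depth A N ≤ LocCoh.depth A (M ⊗[A] N) + e := by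
  intro e
  induction e with
  | zero =>
    intro M N _ _ _ _ _ _ hpd _ _
    have : Module.Projective A M := Groth.Ega4Algebra1.PdLT.one_iff.1 hpd
    refine ⟨fun i => ?_, by simpa using depth_le_flat_tensor M N⟩
    obtain ⟨e₂⟩ := (Groth.HTorLib.Syz.free (ModuleCat.of A N)).tor_succ (ModuleCat.of A M) i
    have h0 : LinearMap.ker (((Groth.HTorLib.Syz.free (ModuleCat.of A N)).u i).lTensor M) = ⊥ :=
      LinearMap.ker_eq_bot.2 (Module.Flat.lTensor_preserves_injective_linearMap _
        ((Groth.HTorLib.Syz.free (ModuleCat.of A N)).inj i))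
    exact (e₂.trans (LinearEquiv.ofEq _ _ h0)).toEquiv.subsingleton
  | succ e ih =>
    intro M N _ _ _ _ _ _ hpd hdep hfl
    obtain ⟨b, ρ, hρ⟩ := Module.Finite.exists_fin' A M
    have hfinK : Module.Finite A (LinearMap.ker ρ) := Module.Finite.iff_fg.2 (IsNoetherian.noetherian _)
    have hK : Groth.Ega4Algebra1.PdLT A (LinearMap.ker ρ) (e + 1) :=
      (Groth.Ega4Algebra1.PdLT.ker_iff ρ hρ e).1 hpd
    have hvρ : Function.Exact (LinearMap.ker ρ).subtype ρ := LinearMap.exact_subtype_ker_map ρ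
    obtain ⟨hK0, hKd⟩ := ih (LinearMap.ker ρ) N hK (le_trans (by exact_mod_cast e.le_succ) hdep)
      (fun i => (Groth.HTorLib.tor_shift_left (LinearMap.ker ρ).subtype_injective hρ hvρ N i).elim fun g =>
        isFiniteLength_iff_isNoetherian_isArtinian.2 (by
          obtain ⟨h1, h2⟩ := isFiniteLength_iff_isNoetherian_isArtinian.1 (hfl (i + 1))
          exact ⟨isNoetherian_of_linearEquiv g, g.isArtinian_iff.1 h2⟩))
    exact tor_vanish_step e N (LinearMap.ker ρ).subtype ρ (LinearMap.ker ρ).subtype_injective hρ hvρ hdep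
      hK0 hKd (hfl 0)

/-- The intersection number is the length of the tensor product. -/
theorem chi_eq_length (e : ℕ) (M N : Type u) [AddCommGroup M] [Module A M] [Module.Finite A M]
    [AddCommGroup N] [Module A N] [Module.Finite A N] (hpd : Groth.Ega4Algebra1.PdLT A M (e + 1))
    (hdep : (e : ℕ∞) ≤ LocCoh.depth A N) (hfl : IsFiniteLength A (M ⊗[A] N)) :
    IntMult.chi A N M = ((Module.length A (M ⊗[A] N)).toNat : ℤ) := by
  have h := (tor_vanish e M N hpd hdep fun i => Groth.GrInt.isFiniteLength_tor hfl (i + 1)).1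
  rw [IntMult.chi, finsum_eq_single _ 0 fun i hi => ?_]
  · obtain ⟨e₁⟩ := Groth.HTorLib.tor_zero_equiv (A := A) N M
    rw [pow_zero, one_mul, (e₁.trans (TensorProduct.comm A N M)).length_eq]
  · obtain ⟨j, rfl⟩ := Nat.exists_eq_succ_of_ne_zero hi
    obtain ⟨e₁⟩ := Groth.HTorLib.tor_symm (A := A) (j + 1) N M
    have := h j
    rw [e₁.length_eq, Module.length_eq_zero]
    simp

theorem exists_tensor_quotient_equiv (I J : Ideal A) :
    Nonempty ((A ⧸ I) ⊗[A] (A ⧸ J) ≃ₗ[A] A ⧸ (I ⊔ J)) := by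
  have h : J • (⊤ : Submodule A (A ⧸ I)) = Submodule.map (Submodule.mkQ I : A →ₗ[A] A ⧸ I) J := by
    rw [← Submodule.range_mkQ I, ← Submodule.map_top, ← Submodule.map_smul'', smul_eq_mul, Ideal.mul_top]
  exact ⟨(TensorProduct.tensorQuotEquivQuotSMul (A ⧸ I) J).trans ((Submodule.quotEquivOfEq _ _ h).trans
    (Submodule.quotientQuotientEquivQuotientSup I J))⟩

theorem chi_quot (e : ℕ) (I J : Ideal A) (hpd : Groth.Ega4Algebra1.PdLT A (A ⧸ I) (e + 1))
    (hdep : (e : ℕ∞) ≤ LocCoh.depth A (A ⧸ J)) (hfl : IsFiniteLength A (A ⧸ (I ⊔ J))) :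
    IntMult.chi A (A ⧸ J) (A ⧸ I) = ((Module.length A (A ⧸ (I ⊔ J))).toNat : ℤ) := by
  obtain ⟨q⟩ := exists_tensor_quotient_equiv I J
  have hfl' : IsFiniteLength A ((A ⧸ I) ⊗[A] (A ⧸ J)) := by
    obtain ⟨h1, h2⟩ := isFiniteLength_iff_isNoetherian_isArtinian.1 hfl
    exact isFiniteLength_iff_isNoetherian_isArtinian.2 ⟨isNoetherian_of_linearEquiv q.symm, q.symm.isArtinian_iff.1 h2⟩
  rw [chi_eq_length e (A ⧸ I) (A ⧸ J) hpd hdep hfl', q.length_eq]

/-- Depth of a Cohen-Macaulay quotient ring over the ambient ring. -/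
theorem depth_quotient_of_CM (I : Ideal A) (h : LocCoh.IsCohenMacaulayLocalRing (A ⧸ I)) {a : ℕ}
    (ha : ringKrullDim (A ⧸ I) = a) : LocCoh.depth A (A ⧸ I) = a := by
  rw [Groth.Ega4b.depth_eq_of_surjective_algebraMap (B := A ⧸ I) Ideal.Quotient.mk_surjective (A ⧸ I)]
  have h' := h.supportDim_eq_depth
  rw [Module.supportDim_self_eq_ringKrullDim, ha] at h'
  exact (WithBot.coe_inj.1 h').symm

omit [IsLocalRing A] [IsNoetherianRing A] in
/-- A quotient of a regular local ring by a regular sequence is Cohen-Macaulay. -/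
theorem isCM_quotient_regularSeq (S : Type u) [CommRing S] [IsRegularLocalRing S] (l : List S)
    (hl : RingTheory.Sequence.IsRegular S l) : LocCoh.IsCohenMacaulayLocalRing (S ⧸ Ideal.ofList l) := by
  have hne : Ideal.ofList l ≠ ⊤ := fun h => hl.2 (by rw [h, Submodule.top_smul])
  obtain ⟨d, hd⟩ : ∃ d : ℕ, ringKrullDim S = d :=
    ⟨_, (IsRegularLocalRing.spanFinrank_maximalIdeal (R := S)).symm⟩
  have hS : LocCoh.IsCohenMacaulayModule S S := by
    change Module.supportDim S S = _
    rw [Module.supportDim_self_eq_ringKrullDim, hd, Groth.FrobLCI.depth_eq_of_isRegularLocalRing S hd]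
    rfl
  have hmem : ∀ x ∈ l, x ∈ maximalIdeal S := fun x hx =>
    IsLocalRing.le_maximalIdeal hne (Ideal.subset_span hx)
  have h := Groth.EGA41Two.isCM_of_equiv (Submodule.quotEquivOfEq (Ideal.ofList l • (⊤ : Submodule S S))
    (Ideal.ofList l) (by rw [smul_eq_mul, Ideal.mul_top]))
    (Groth.EGA41Two.isCM_quotient_ofList l S hS hmem hl.toIsWeaklyRegular)
  have : Nontrivial (S ⧸ Ideal.ofList l) := Ideal.Quotient.nontrivial_iff.2 hne
  have : IsLocalRing (S ⧸ Ideal.ofList l) :=
    IsLocalRing.of_surjective' (Ideal.Quotient.mk _) Ideal.Quotient.mk_surjective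
  change Module.supportDim S (S ⧸ Ideal.ofList l) = _ at h
  rw [Module.supportDim_quotient_eq_ringKrullDim,
    Groth.Ega4b.depth_eq_of_surjective_algebraMap (B := S ⧸ Ideal.ofList l) Ideal.Quotient.mk_surjective] at h
  exact { supportDim_eq_depth := by rw [Module.supportDim_self_eq_ringKrullDim]; exact h }

end Groth.Calg6.TorCM
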