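import Groth.Agent.HTopHyper.HTor.Balance

/-!
Dimension shifting of Tor along an acyclic middle term in the first variable.
-/

set_option autoImplicit false
set_option backward.isDefEq.respectTransparency false

universe u

open CategoryTheory
open scoped TensorProduct

namespace Groth.Calg6.TorAcyclic

open Groth.HTorLib (snakeW mem_snakeW Syz)

variable {A : Type u} [CommRing A]

section Snake

variable {M M₁ F N N₁ Q : Type u} [AddCommGroup M] [Module A M] [AddCommGroup M₁] [Module A M₁]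
  [AddCommGroup F] [Module A F] [AddCommGroup N] [Module A N] [AddCommGroup N₁]
  [Module A N₁] [AddCommGroup Q] [Module A Q] [Module.Flat A Q]
  {v : M₁ →ₗ[A] F} {ρ : F →ₗ[A] M} {u : N₁ →ₗ[A] Q} {π : Q →ₗ[A] N}

theorem snake (huF : Function.Injective (u.lTensor F)) (hv : Function.Injective v) (hρ : Function.Surjective ρ) (hvρ : Function.Exact v ρ)
    (hu : Function.Injective u) (hπ : Function.Surjective π) (huπ : Function.Exact u π) :
    Nonempty (LinearMap.ker (u.lTensor M) ≃ₗ[A] LinearMap.ker (v.rTensor N)) := by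
  have hvQ : Function.Injective (v.rTensor Q) :=
    Module.Flat.rTensor_preserves_injective_linearMap v hv
  have c₁ : ∀ b, u.lTensor M (ρ.rTensor N₁ b) = ρ.rTensor Q (u.lTensor F b) := fun b => by
    rw [← LinearMap.comp_apply, LinearMap.lTensor_comp_rTensor, ← LinearMap.rTensor_comp_lTensor,
      LinearMap.comp_apply]
  have c₂ : ∀ c, v.rTensor N (π.lTensor M₁ c) = π.lTensor F (v.rTensor Q c) := fun c => by
    rw [← LinearMap.comp_apply, LinearMap.rTensor_comp_lTensor, ← LinearMap.lTensor_comp_rTensor,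
      LinearMap.comp_apply]
  have c₃ : ∀ a, v.rTensor Q (u.lTensor M₁ a) = u.lTensor F (v.rTensor N₁ a) := fun a => by
    rw [← LinearMap.comp_apply, LinearMap.rTensor_comp_lTensor, ← LinearMap.lTensor_comp_rTensor,
      LinearMap.comp_apply]
  let g₁ : snakeW v u →ₗ[A] LinearMap.ker (u.lTensor M) :=
    LinearMap.codRestrict _ ((ρ.rTensor N₁).comp ((LinearMap.fst A _ _).comp (snakeW v u).subtype))
      fun x => by
        rw [LinearMap.mem_ker]
        refine (c₁ x.1.1).trans ?_
        rw [mem_snakeW.1 x.2]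
        exact (rTensor_exact Q hvρ hρ).apply_apply_eq_zero _
  let g₂ : snakeW v u →ₗ[A] LinearMap.ker (v.rTensor N) :=
    LinearMap.codRestrict _ ((π.lTensor M₁).comp ((LinearMap.snd A _ _).comp (snakeW v u).subtype))
      fun x => by
        rw [LinearMap.mem_ker]
        refine (c₂ x.1.2).trans ?_
        rw [← mem_snakeW.1 x.2]
        exact (lTensor_exact F huπ hπ).apply_apply_eq_zero _
  have h₁ : Function.Surjective g₁ := fun a => by
    obtain ⟨b, hb⟩ := LinearMap.rTensor_surjective N₁ hρ a.1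
    obtain ⟨c, hc⟩ := (rTensor_exact Q hvρ hρ _).1 ((c₁ b).symm.trans (by rw [hb]; exact a.2))
    exact ⟨⟨(b, c), mem_snakeW.2 hc.symm⟩, Subtype.ext hb⟩
  have h₂ : Function.Surjective g₂ := fun a => by
    obtain ⟨c, hc⟩ := LinearMap.lTensor_surjective M₁ hπ a.1
    obtain ⟨b, hb⟩ := (lTensor_exact F huπ hπ _).1 ((c₂ c).symm.trans (by rw [hc]; exact a.2))
    exact ⟨⟨(b, c), mem_snakeW.2 hb⟩, Subtype.ext hc⟩
  have hk : LinearMap.ker g₁ = LinearMap.ker g₂ := by
    ext ⟨⟨b, c⟩, hx⟩
    have hx' : u.lTensor F b = v.rTensor Q c := mem_snakeW.1 hx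
    simp only [LinearMap.mem_ker, ← Subtype.coe_inj]
    change ρ.rTensor N₁ b = 0 ↔ π.lTensor M₁ c = 0
    constructor
    · intro h
      obtain ⟨a, rfl⟩ := (rTensor_exact N₁ hvρ hρ b).1 h
      obtain rfl : u.lTensor M₁ a = c := hvQ ((c₃ a).trans hx')
      exact (lTensor_exact M₁ huπ hπ).apply_apply_eq_zero _
    · intro h
      obtain ⟨a, rfl⟩ := (lTensor_exact M₁ huπ hπ c).1 h
      obtain rfl : v.rTensor N₁ a = b := huF ((c₃ a).symm.trans hx'.symm)
      exact (rTensor_exact N₁ hvρ hρ).apply_apply_eq_zero _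
  exact ⟨(g₁.quotKerEquivOfSurjective h₁).symm.trans
    ((Submodule.quotEquivOfEq _ _ hk).trans (g₂.quotKerEquivOfSurjective h₂))⟩

end Snake

variable {M K F : Type u} [AddCommGroup M] [Module A M] [AddCommGroup K] [Module A K]
  [AddCommGroup F] [Module A F] {v : K →ₗ[A] F} {ρ : F →ₗ[A] M}

theorem lTensor_injective (H : Type u) [AddCommGroup H] [Module A H] (S : Syz A) (hS : S.N 0 = ModuleCat.of A H)
    (p : ℕ) (hF : Subsingleton (DRing.Tor A (p + 1) F H)) : Function.Injective ((S.u p).lTensor F) := by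
  obtain ⟨e⟩ := S.tor_succ (ModuleCat.of A F) p
  rw [hS] at e
  have : Subsingleton (LinearMap.ker ((S.u p).lTensor F)) := e.symm.toEquiv.subsingleton
  exact LinearMap.ker_eq_bot.1 (Submodule.subsingleton_iff_eq_bot.1 this)

/-- `Tor_1` from an acyclic presentation in the first variable. -/
theorem tor_one (hv : Function.Injective v) (hρ : Function.Surjective ρ) (hvρ : Function.Exact v ρ)
    (H : Type u) [AddCommGroup H] [Module A H] (hF : Subsingleton (DRing.Tor A 1 F H)) :
    Nonempty (DRing.Tor A 1 M H ≃ₗ[A] LinearMap.ker (v.rTensor H)) := by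
  let S := Syz.free (ModuleCat.of A H)
  have := S.proj 0
  obtain ⟨e₁⟩ := S.tor_succ (ModuleCat.of A M) 0
  obtain ⟨e₃⟩ := snake (M := M) (N := H) (lTensor_injective H S rfl 0 hF) hv hρ hvρ (S.inj 0) (S.surj 0)
    (S.exact 0)
  exact ⟨e₁.trans e₃⟩

/-- Dimension shift along an acyclic middle term. -/
theorem tor_shift (hv : Function.Injective v) (hρ : Function.Surjective ρ) (hvρ : Function.Exact v ρ)
    (H : Type u) [AddCommGroup H] [Module A H] (p : ℕ) (hF : Subsingleton (DRing.Tor A (p + 1) F H))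
    (hF' : Subsingleton (DRing.Tor A (p + 2) F H)) :
    Nonempty (DRing.Tor A (p + 2) M H ≃ₗ[A] DRing.Tor A (p + 1) K H) := by
  let S := Syz.free (ModuleCat.of A H)
  have := S.proj p
  have := S.proj (p + 1)
  obtain ⟨e₁⟩ := S.tor_succ (ModuleCat.of A M) (p + 1)
  obtain ⟨e₂⟩ := S.tor_succ (ModuleCat.of A K) p
  obtain ⟨e₃⟩ := snake (M := M) (N := S.N (p + 1)) (lTensor_injective H S rfl (p + 1) hF') hv hρ hvρ
    (S.inj (p + 1)) (S.surj (p + 1)) (S.exact (p + 1))
  refine ⟨e₁.trans (e₃.trans ((LinearEquiv.ofEq _ _ ?_).trans e₂.symm))⟩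
  have huF := lTensor_injective H S rfl p hF
  have hvQ : Function.Injective (v.rTensor (S.P p)) := Module.Flat.rTensor_preserves_injective_linearMap v hv
  have c₃ : ∀ a, v.rTensor (S.P p) ((S.u p).lTensor K a) = (S.u p).lTensor F (v.rTensor (S.N (p + 1)) a) :=
    fun a => by
      rw [← LinearMap.comp_apply, LinearMap.rTensor_comp_lTensor, ← LinearMap.lTensor_comp_rTensor,
        LinearMap.comp_apply]
  ext a
  simp only [LinearMap.mem_ker]
  refine ⟨fun h => hvQ ?_, fun h => huF ?_⟩
  · rw [map_zero]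
    exact (c₃ a).trans ((congrArg _ h).trans (map_zero _))
  · rw [map_zero]
    exact (c₃ a).symm.trans ((congrArg _ h).trans (map_zero _))

end Groth.Calg6.TorAcyclic
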