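import Mathlib
import Groth.Agent.EtaleAlgebra.HensDomain
import Groth.Agent.Calg1.Completion
import Groth.Agent.Ega4Algebra1.RegularLocal

/-! Branches of a one-dimensional reduced local ring with finite normalization. -/

set_option autoImplicit false
universe u

open IsLocalRing
open scoped TensorProduct

namespace Groth.Calg6.Branch

theorem henselianLocalRing_of_isAdicComplete (C : Type u) [CommRing C] [IsLocalRing C]
    [IsAdicComplete (maximalIdeal C) C] : HenselianLocalRing C where
  is_henselian f hf a₀ h₁ h₂ :=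
    HenselianRing.is_henselian (I := maximalIdeal C) f hf a₀ h₁
      (h₂.map (Ideal.Quotient.mk (maximalIdeal C)))

theorem exists_nonZeroDivisor (A : Type u) [CommRing A] [IsNoetherianRing A] [IsLocalRing A] [IsReduced A]
    (hdim : ringKrullDim A = 1) : ∃ s ∈ maximalIdeal A, s ∈ nonZeroDivisors A := by
  classical
  have hfin := minimalPrimes.finite_of_isNoetherianRing A
  have hmax : maximalIdeal A ∉ minimalPrimes A := by
    intro h
    have h0 : (maximalIdeal A).height = 0 := by
      rw [Ideal.height_eq_zero_iff]; exact h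
    have := IsLocalRing.maximalIdeal_height_eq_ringKrullDim (R := A)
    rw [h0, hdim] at this
    simp at this
  have hsub : ¬ (maximalIdeal A : Set A) ⊆ ⋃ P ∈ (hfin.toFinset : Set (Ideal A)), (P : Set A) := by
    intro hsub
    obtain ⟨P, hP, hle⟩ := (Ideal.subset_union_prime (f := id) ⊥ ⊥
      (fun P hP _ _ => (hfin.mem_toFinset.mp hP).1.1)).mp hsub
    have hP' := hfin.mem_toFinset.mp hP
    exact hmax (le_antisymm hle (le_maximalIdeal hP'.1.1.ne_top) ▸ hP')
  obtain ⟨s, hs, hs'⟩ := Set.not_subset.mp hsub
  refine ⟨s, hs, mem_nonZeroDivisors_iff_right.mpr fun x hx => ?_⟩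
  have : x ∈ nilradical A := by
    rw [nilradical, ← Ideal.sInf_minimalPrimes, Ideal.mem_sInf]
    intro P hP
    exact (hP.1.1.mem_or_mem (hx ▸ P.zero_mem)).resolve_right fun h =>
      hs' (Set.mem_biUnion (hfin.mem_toFinset.mpr hP) h)
  rwa [nilradical_eq_zero] at this

variable (A : Type u) [CommRing A] [IsNoetherianRing A] [IsLocalRing A] [IsReduced A]

/-- An element `x` outside `B` multiplying the maximal ideal `m` into `B` inverts it. -/
theorem exists_uniformizer (hdim : ringKrullDim A = 1) (F : Type u) [CommRing F] [Algebra A F]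
    [IsFractionRing A F] [Module.Finite A (integralClosure A F)]
    (m : Ideal (integralClosure A F)) [m.IsMaximal] :
    ∃ (π u : integralClosure A F) (x : F), π ∈ m ∧ u ∉ m ∧ x * (π : F) = (u : F) ∧
      ∀ z ∈ m, ∃ w : integralClosure A F, x * (z : F) = (w : F) := by
  classical
  let B := integralClosure A F
  haveI : IsNoetherianRing B := IsNoetherianRing.of_finite A B
  haveI : Algebra.IsIntegral A B := Algebra.IsIntegral.of_finite A B
  obtain ⟨s, hs, hsreg⟩ := exists_nonZeroDivisor A hdim
  have hinj : Function.Injective (algebraMap A F) := IsFractionRing.injective A F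
  have hsF : IsUnit ((algebraMap A B s : B) : F) := IsLocalization.map_units F ⟨s, hsreg⟩
  let I : Ideal B := Ideal.span {algebraMap A B s}
  have hIm : I ≤ m := by
    rw [Ideal.span_le, Set.singleton_subset_iff]
    haveI : (m.comap (algebraMap A B)).IsMaximal :=
      Ideal.isMaximal_comap_of_isIntegral_of_isMaximal m
    have := IsLocalRing.eq_maximalIdeal (I := m.comap (algebraMap A B)) inferInstance
    exact (this ▸ hs : s ∈ m.comap (algebraMap A B))
  have hmin : m ∈ I.minimalPrimes := by
    refine ⟨⟨inferInstance, hIm⟩, fun Q hQ hQm => ?_⟩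
    have hQp := hQ.1
    haveI : (Q.comap (algebraMap A B)).IsPrime := hQp.comap _
    have hmaxc : (Q.comap (algebraMap A B)).IsMaximal := by
      haveI : Ring.KrullDimLE 1 A := Ring.krullDimLE_iff.mpr hdim.le
      refine (Ring.krullDimLE_one_iff.mp inferInstance _ inferInstance).resolve_left fun h => ?_
      exact Set.disjoint_left.mp (Ideal.disjoint_nonZeroDivisors_of_mem_minimalPrimes h)
        (hQ.2 (Ideal.mem_span_singleton_self _) : algebraMap A B s ∈ Q) hsreg
    haveI := hQp
    exact (((Ideal.isMaximal_of_isIntegral_of_isMaximal_comap Q hmaxc).eq_of_le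
      (Ideal.IsMaximal.ne_top inferInstance) hQm)).ge
  have hass : m ∈ associatedPrimes B (B ⧸ I) := by
    refine Module.associatedPrimes.minimalPrimes_annihilator_subset_associatedPrimes B (B ⧸ I) ?_
    rwa [Ideal.annihilator_quotient]
  obtain ⟨-, y, hy⟩ := Submodule.isAssociatedPrime_iff.mp hass
  obtain ⟨y, rfl⟩ := Ideal.Quotient.mk_surjective y
  have hym : ∀ z : B, z ∈ m ↔ z * y ∈ I := fun z => by
    rw [hy, Submodule.mem_colon_singleton, Submodule.mem_bot,
      show z • Ideal.Quotient.mk I y = Ideal.Quotient.mk I (z * y) from rfl, Ideal.Quotient.eq_zero_iff_mem]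
  let x : F := (y : F) * ↑hsF.unit⁻¹
  have hxs : x * ((algebraMap A B s : B) : F) = (y : F) := by
    simp only [x, mul_assoc, IsUnit.val_inv_mul, mul_one]
  have hw : ∀ z ∈ m, ∃ w : B, x * (z : F) = (w : F) := by
    intro z hz
    obtain ⟨w, hw⟩ := Ideal.mem_span_singleton'.mp ((hym z).mp hz)
    refine ⟨w, ?_⟩
    apply hsF.mul_right_cancel
    rw [mul_right_comm, hxs, mul_comm]
    exact congrArg Subtype.val hw.symm
  by_cases hcase : ∀ z ∈ m, ∀ w : B, x * (z : F) = (w : F) → w ∈ m
  · exfalso
    let N : Submodule A F := (m.restrictScalars A).map B.val.toLinearMap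
    haveI : Module.Finite A (m.restrictScalars A) := Module.Finite.of_fg (IsNoetherian.noetherian _)
    haveI : Module.Finite A N := Module.Finite.map _ _
    let g : N →ₗ[A] N := (LinearMap.mulLeft A x).restrict fun v hv => by
      obtain ⟨z, hz, rfl⟩ := hv
      obtain ⟨w, hw'⟩ := hw z hz
      exact ⟨w, hcase z hz w hw', hw'.symm⟩
    obtain ⟨p, hp, hp0⟩ := LinearMap.exists_monic_and_aeval_eq_zero A g
    have hg : ∀ (q : Polynomial A) (v : N), ((Polynomial.aeval g q v : N) : F) =
        Polynomial.aeval x q * (v : F) := by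
      intro q v
      induction q using Polynomial.induction_on generalizing v with
      | C a => simp [Algebra.smul_def]
      | add a b ha hb => simp [ha, hb, add_mul]
      | monomial n a ih =>
        rw [pow_succ, ← mul_assoc, map_mul, map_mul (Polynomial.aeval x), Module.End.mul_apply, ih,
          Polynomial.aeval_X, Polynomial.aeval_X]
        show _ * (x * (v : F)) = _
        ring
    have hxint : IsIntegral A x := by
      refine ⟨p, hp, ?_⟩
      have h := hg p ⟨_, ⟨algebraMap A B s, hIm (Ideal.mem_span_singleton_self _), rfl⟩⟩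
      rw [hp0] at h
      simp only [LinearMap.zero_apply, ZeroMemClass.coe_zero] at h
      rw [← Polynomial.aeval_def]
      exact hsF.mul_left_eq_zero.mp h.symm
    have : y ∈ I := by
      rw [Ideal.mem_span_singleton']
      exact ⟨⟨x, hxint⟩, Subtype.ext hxs⟩
    have h1 := (hym 1).mpr (by rwa [one_mul])
    exact (Ideal.IsMaximal.ne_top (I := m) inferInstance) ((Ideal.eq_top_iff_one m).mpr h1)
  · push Not at hcase
    obtain ⟨π, hπ, u, hu, hu'⟩ := hcase
    exact ⟨π, u, x, hπ, hu', hu, hw⟩

theorem exists_conductor (F : Type u) [CommRing F] [Algebra A F] [IsFractionRing A F]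
    [Module.Finite A (integralClosure A F)] :
    ∃ s ∈ nonZeroDivisors A, ∀ b : integralClosure A F, ∃ a : A,
      algebraMap A (integralClosure A F) s * b = algebraMap A (integralClosure A F) a := by
  classical
  obtain ⟨T, hT⟩ := Module.Finite.fg_top (R := A) (M := integralClosure A F)
  obtain ⟨⟨s, hs⟩, hsT⟩ := IsLocalization.exist_integer_multiples_of_finset (nonZeroDivisors A)
    (T.image fun b : integralClosure A F => (b : F))
  refine ⟨s, hs, fun b => ?_⟩
  have hb : b ∈ Submodule.span A (T : Set (integralClosure A F)) := by rw [hT]; trivial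
  induction hb using Submodule.span_induction with
  | mem b hb =>
    obtain ⟨a, ha⟩ := hsT (b : F) (Finset.mem_image_of_mem _ hb)
    refine ⟨a, Subtype.ext ?_⟩
    rw [Algebra.smul_def] at ha
    exact ha.symm
  | zero => exact ⟨0, by simp⟩
  | add b c _ _ hb hc =>
    obtain ⟨a, ha⟩ := hb
    obtain ⟨a', ha'⟩ := hc
    exact ⟨a + a', by rw [mul_add, ha, ha', map_add]⟩
  | smul r b _ hb =>
    obtain ⟨a, ha⟩ := hb
    exact ⟨r * a, by rw [Algebra.smul_def, mul_left_comm, ha, map_mul]⟩

theorem ncard_eq (hdim : ringKrullDim A = 1) (F : Type u) [CommRing F] [Algebra A F]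
    [IsFractionRing A F] (hfin : Module.Finite A (integralClosure A F))
    (C : Type u) [CommRing C] [IsLocalRing C] [IsNoetherianRing C] [Algebra A C] [Module.Flat A C]
    [IsAdicComplete (maximalIdeal C) C] [IsLocalHom (algebraMap A C)]
    (hC : maximalIdeal C = (maximalIdeal A).map (algebraMap A C))
    (ρ : C →ₐ[A] A ⧸ maximalIdeal A) :
    {P : Ideal (integralClosure A F) | P.IsMaximal}.ncard = (minimalPrimes C).ncard := by
  classical
  let B := integralClosure A F
  let D := C ⊗[A] B
  let incB : B →ₐ[A] D := Algebra.TensorProduct.includeRight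
  haveI : IsNoetherianRing D := IsNoetherianRing.of_finite C D
  haveI : Algebra.IsIntegral C D := Algebra.IsIntegral.of_finite C D
  haveI : Algebra.IsIntegral A B := Algebra.IsIntegral.of_finite A B
  obtain ⟨s, hs, hcond⟩ := exists_conductor A F
  -- regularity
  have hregD : ∀ a ∈ nonZeroDivisors A, ∀ d : D, algebraMap A D a * d = 0 → d = 0 := by
    intro a ha d hd
    have hmul : Function.Injective (LinearMap.mulLeft A (algebraMap A B a)) := by
      intro b b' hbb
      apply Subtype.ext
      have hu : IsUnit (algebraMap A F a) := IsLocalization.map_units F ⟨a, ha⟩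
      exact hu.mul_left_cancel (congrArg Subtype.val hbb)
    have h := Module.Flat.lTensor_preserves_injective_linearMap (M := C) _ hmul
    refine h (Eq.trans ?_ (map_zero _).symm)
    rw [← hd]
    clear hd
    induction d using TensorProduct.induction_on with
    | zero => simp
    | add x y hx hy => rw [map_add, hx, hy, mul_add]
    | tmul c b =>
      rw [LinearMap.lTensor_tmul, show algebraMap A D a = incB (algebraMap A B a) from (incB.commutes a).symm]
      show c ⊗ₜ[A] (algebraMap A B a * b) = ((1 : C) ⊗ₜ[A] algebraMap A B a) * (c ⊗ₜ[A] b)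
      rw [Algebra.TensorProduct.tmul_mul_tmul, one_mul]
  have hi : Function.Injective (algebraMap C D) := by
    have hABinj : Function.Injective (algebraMap A B) := fun a b h =>
      IsFractionRing.injective A F (congrArg Subtype.val h)
    exact Algebra.TensorProduct.includeLeft_injective (R := A) (S := A) (A := C) (B := B) hABinj
  have hcondD : ∀ d : D, ∃ c : C, algebraMap A D s * d = algebraMap C D c := by
    intro d
    induction d using TensorProduct.induction_on with
    | zero => exact ⟨0, by simp⟩
    | add x y hx hy =>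
      obtain ⟨c, hc⟩ := hx
      obtain ⟨c', hc'⟩ := hy
      exact ⟨c + c', by rw [mul_add, hc, hc', map_add]⟩
    | tmul c b =>
      obtain ⟨a, ha⟩ := hcond b
      refine ⟨algebraMap A C a * c, ?_⟩
      rw [show algebraMap A D s = incB (algebraMap A B s) from (incB.commutes s).symm]
      show ((1 : C) ⊗ₜ[A] algebraMap A B s) * (c ⊗ₜ[A] b) = (algebraMap A C a * c) ⊗ₜ[A] (1 : B)
      rw [Algebra.TensorProduct.tmul_mul_tmul, one_mul, ha, Algebra.algebraMap_eq_smul_one,
        TensorProduct.tmul_smul, TensorProduct.smul_tmul', Algebra.smul_def]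
  have hsmin : ∀ P ∈ minimalPrimes D, algebraMap A D s ∉ P := fun P hP h =>
    Set.disjoint_left.mp (Ideal.disjoint_nonZeroDivisors_of_mem_minimalPrimes hP) h
      (mem_nonZeroDivisors_iff_right.mpr fun d hd => hregD s hs d (by rwa [mul_comm]))
  have hsminC : ∀ p ∈ minimalPrimes C, algebraMap A C s ∉ p := fun p hp h =>
    Set.disjoint_left.mp (Ideal.disjoint_nonZeroDivisors_of_mem_minimalPrimes hp) h
      (mem_nonZeroDivisors_iff_right.mpr fun c hc => hi (by
        rw [map_zero]
        refine hregD s hs _ ?_
        rw [IsScalarTower.algebraMap_apply A C D, ← map_mul, mul_comm, hc, map_zero]))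
  have hsD : algebraMap A D s = algebraMap C D (algebraMap A C s) :=
    IsScalarTower.algebraMap_apply A C D s
  -- transfer along `C → D`
  have hle : ∀ (p : Ideal C) (P P' : Ideal D), P.IsPrime → P'.IsPrime → algebraMap A D s ∉ P →
      P'.comap (algebraMap C D) ≤ p → p ≤ P.comap (algebraMap C D) → P' ≤ P := by
    intro p P P' hP hP' hsP h1 h2 d hd
    obtain ⟨c, hc⟩ := hcondD d
    have hcP' : c ∈ P'.comap (algebraMap C D) := by
      rw [Ideal.mem_comap, ← hc]; exact Ideal.mul_mem_left _ _ hd
    have hcP : algebraMap C D c ∈ P := h2 (h1 hcP')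
    rw [← hc] at hcP
    exact (hP.mem_or_mem hcP).resolve_left hsP
  have hbij : Set.BijOn (fun P : Ideal D => P.comap (algebraMap C D)) (minimalPrimes D) (minimalPrimes C) := by
    refine ⟨?_, ?_, ?_⟩
    · intro P hP
      haveI := hP.1.1
      refine ⟨⟨hP.1.1.comap _, bot_le⟩, fun p' hp' hle' => ?_⟩
      haveI := hp'.1
      obtain ⟨P', -, hP', hP'p⟩ := Ideal.exists_ideal_over_prime_of_isIntegral p' (⊥ : Ideal D) (by
        rw [← RingHom.ker_eq_comap_bot, (RingHom.injective_iff_ker_eq_bot _).mp hi]; exact bot_le)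
      have h1 : P' ≤ P := hle p' P P' hP.1.1 hP' (hsmin P hP) hP'p.le hle'
      exact (Ideal.comap_mono (f := algebraMap C D) (hP.2 ⟨hP', bot_le⟩ h1)).trans hP'p.le
    · intro P hP P' hP' h
      exact le_antisymm (hle _ P' P hP'.1.1 hP.1.1 (hsmin P' hP') le_rfl h.le)
        (hle _ P P' hP.1.1 hP'.1.1 (hsmin P hP) le_rfl h.ge)
    · intro p hp
      haveI := hp.1.1
      obtain ⟨P', -, hP', hP'p⟩ := Ideal.exists_ideal_over_prime_of_isIntegral p (⊥ : Ideal D) (by
        rw [← RingHom.ker_eq_comap_bot, (RingHom.injective_iff_ker_eq_bot _).mp hi]; exact bot_le)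
      haveI := hP'
      obtain ⟨P, hP, hPP'⟩ := Ideal.exists_minimalPrimes_le (I := (⊥ : Ideal D)) (J := P') bot_le
      refine ⟨P, hP, ?_⟩
      show P.comap (algebraMap C D) = p
      have h1 : P.comap (algebraMap C D) ≤ p := (Ideal.comap_mono hPP').trans hP'p.le
      exact le_antisymm h1 (hp.2 ⟨hP.1.1.comap _, bot_le⟩ h1)
  rw [← hbij.image_eq, Set.ncard_image_of_injOn hbij.injOn]
  -- maximal ideals of `D`
  let mD : Ideal D := (maximalIdeal A).map (algebraMap A D)
  have hdec : ∀ d : D, ∃ b : B, d - incB b ∈ mD := by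
    intro d
    induction d using TensorProduct.induction_on with
    | zero => exact ⟨0, by simp⟩
    | add x y hx hy =>
      obtain ⟨a, ha⟩ := hx
      obtain ⟨b, hb⟩ := hy
      exact ⟨a + b, by rw [map_add, add_sub_add_comm]; exact add_mem ha hb⟩
    | tmul c b =>
      obtain ⟨a, ha⟩ := Ideal.Quotient.mk_surjective (ρ c)
      refine ⟨algebraMap A B a * b, ?_⟩
      have hmem : c - algebraMap A C a ∈ maximalIdeal C := by
        rw [mem_maximalIdeal, mem_nonunits_iff]
        intro hu
        have := hu.map ρ
        rw [map_sub, AlgHom.commutes, Ideal.Quotient.algebraMap_eq, ha, sub_self] at this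
        exact not_isUnit_zero this
      have h1 : c ⊗ₜ[A] b - incB (algebraMap A B a * b) = algebraMap C D (c - algebraMap A C a) * incB b := by
        rw [map_sub, sub_mul, map_mul, AlgHom.commutes, IsScalarTower.algebraMap_apply A C D]
        congr 1
        show c ⊗ₜ[A] b = (c ⊗ₜ[A] (1 : B)) * ((1 : C) ⊗ₜ[A] b)
        simp
      rw [h1]
      refine Ideal.mul_mem_right _ _ ?_
      have := Ideal.mem_map_of_mem (algebraMap C D) hmem
      rw [hC, Ideal.map_map, ← IsScalarTower.algebraMap_eq] at this
      exact this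
  haveI := henselianLocalRing_of_isAdicComplete C
  have hmD : ∀ Q : Ideal D, Q.IsMaximal → mD ≤ Q := fun Q hQ => by
    haveI := hQ
    haveI : (Q.comap (algebraMap C D)).IsMaximal := Ideal.isMaximal_comap_of_isIntegral_of_isMaximal Q
    have h := IsLocalRing.eq_maximalIdeal (I := Q.comap (algebraMap C D)) inferInstance
    show (maximalIdeal A).map (algebraMap A D) ≤ Q
    rw [IsScalarTower.algebraMap_eq A C D, ← Ideal.map_map, ← hC, ← h]
    exact Ideal.map_comap_le
  have hQcomap : ∀ Q : Ideal D, Q.IsMaximal → (Q.comap incB).IsMaximal := fun Q hQ => by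
    haveI := hQ
    haveI hPr : (Q.comap incB).IsPrime := Ideal.IsPrime.comap _
    refine Ideal.isMaximal_of_isIntegral_of_isMaximal_comap (R := A) _ ?_
    have : (Q.comap incB).comap (algebraMap A B) = maximalIdeal A := by
      refine le_antisymm (le_maximalIdeal (Ideal.IsPrime.comap _).ne_top) fun a ha => ?_
      rw [Ideal.mem_comap, Ideal.mem_comap, AlgHom.commutes]
      exact hmD Q hQ (Ideal.mem_map_of_mem _ ha)
    rw [this]; infer_instance
  -- uniqueness of the minimal prime in a maximal ideal
  have hlocal : ∀ Q : Ideal D, Q.IsMaximal →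
      ∃ P ∈ minimalPrimes D, P ≤ Q ∧ ∀ P' ∈ minimalPrimes D, P' ≤ Q → P' = P := by
    intro Q hQ
    haveI := hQ
    haveI := hQcomap Q hQ
    obtain ⟨π, u, x, hπ, hu, hxπ, hw⟩ := exists_uniformizer A hdim F (Q.comap incB)
    have hu' : IsUnit (algebraMap D (Localization.AtPrime Q) (incB u)) :=
      IsLocalization.map_units (Localization.AtPrime Q) (⟨incB u, hu⟩ : Q.primeCompl)
    have hgen : ∀ z ∈ Q, algebraMap D (Localization.AtPrime Q) z ∈ Ideal.span {algebraMap D (Localization.AtPrime Q) (incB π)} := by
      have hsub : mD ≤ (Ideal.span {algebraMap D (Localization.AtPrime Q) (incB π)}).comap (algebraMap D (Localization.AtPrime Q)) ∧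
          ∀ z ∈ Q.comap incB, algebraMap D (Localization.AtPrime Q) (incB z) ∈ Ideal.span {algebraMap D (Localization.AtPrime Q) (incB π)} := by
        have h2 : ∀ z ∈ Q.comap incB, algebraMap D (Localization.AtPrime Q) (incB z) ∈ Ideal.span {algebraMap D (Localization.AtPrime Q) (incB π)} := by
          intro z hz
          obtain ⟨w, hw'⟩ := hw z hz
          rw [← Ideal.unit_mul_mem_iff_mem _ hu', ← map_mul, ← map_mul]
          have : u * z = π * w := Subtype.ext (by
            show (u : F) * (z : F) = (π : F) * (w : F)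
            rw [← hxπ, ← hw']; ring)
          rw [this, map_mul, map_mul]
          exact Ideal.mul_mem_right _ _ (Ideal.mem_span_singleton_self _)
        refine ⟨?_, h2⟩
        rw [Ideal.map_le_iff_le_comap]
        intro a ha
        rw [Ideal.mem_comap, Ideal.mem_comap, ← incB.commutes]
        exact h2 _ (by rw [Ideal.mem_comap, incB.commutes]; exact hmD Q hQ (Ideal.mem_map_of_mem _ ha))
      intro z hz
      obtain ⟨b, hb⟩ := hdec z
      have hbQ : b ∈ Q.comap incB := by
        rw [Ideal.mem_comap, show incB b = z - (z - incB b) by ring]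
        exact sub_mem hz (hmD Q hQ hb)
      rw [show z = (z - incB b) + incB b by ring, map_add]
      exact add_mem (hsub.1 hb) (hsub.2 b hbQ)
    have hmax : maximalIdeal (Localization.AtPrime Q) = Ideal.span {algebraMap D (Localization.AtPrime Q) (incB π)} := by
      refine le_antisymm ?_ ?_
      · rw [← Localization.AtPrime.map_eq_maximalIdeal, Ideal.map_le_iff_le_comap]
        exact hgen
      · rw [Ideal.span_le, Set.singleton_subset_iff]
        exact (IsLocalization.AtPrime.to_map_mem_maximal_iff (Localization.AtPrime Q) Q _).mpr hπ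
    have hreg : algebraMap D (Localization.AtPrime Q) (incB π) ∈ nonZeroDivisors (Localization.AtPrime Q) := by
      refine mem_nonZeroDivisors_iff_right.mpr fun w hw0 => ?_
      obtain ⟨⟨w, t⟩, hwt⟩ := IsLocalization.surj Q.primeCompl w
      have h1 : algebraMap D (Localization.AtPrime Q) (w * incB π) = 0 := by
        rw [map_mul, ← hwt, mul_right_comm, hw0, zero_mul]
      obtain ⟨t', ht'⟩ := (IsLocalization.map_eq_zero_iff Q.primeCompl (Localization.AtPrime Q) _).mp h1
      obtain ⟨a, b, hb, hxab⟩ : ∃ (a : B) (b : A), b ∈ nonZeroDivisors A ∧ x * algebraMap A F b = (a : F) := by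
        obtain ⟨⟨a, b⟩, hab⟩ := IsLocalization.surj (nonZeroDivisors A) x
        exact ⟨algebraMap A B a, b, b.2, hab⟩
      have hrel : algebraMap A B b * u = a * π := Subtype.ext (by
        show algebraMap A F b * (u : F) = (a : F) * (π : F)
        rw [← hxπ, ← hxab]; ring)
      have h2 : algebraMap A D b * (incB u * ((t' : D) * w)) = 0 := by
        rw [← mul_assoc, ← incB.commutes, ← map_mul, hrel, map_mul]
        calc incB a * incB π * ((t' : D) * w) = incB a * ((t' : D) * (w * incB π)) := by ring
          _ = 0 := by rw [ht', mul_zero]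
      have h3 := hregD b hb _ h2
      have h4 : algebraMap D (Localization.AtPrime Q) w = 0 := by
        rw [IsLocalization.map_eq_zero_iff Q.primeCompl (Localization.AtPrime Q)]
        exact ⟨⟨incB u * (t' : D), Q.primeCompl.mul_mem hu t'.2⟩, by rw [← h3]; exact mul_assoc _ _ _⟩
      rw [h4] at hwt
      exact (IsLocalization.map_units (Localization.AtPrime Q) t).mul_left_eq_zero.mp hwt
    haveI : IsRegularLocalRing (Localization.AtPrime Q) := by
      refine IsRegularLocalRing.of_spanFinrank_maximalIdeal_le _ ?_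
      have h1 : ((maximalIdeal (Localization.AtPrime Q)).spanFinrank : WithBot ℕ∞) ≤ 1 := by
        rw [hmax]
        have := Submodule.spanFinrank_span_le_ncard_of_finite (R := (Localization.AtPrime Q))
          (Set.finite_singleton (algebraMap D (Localization.AtPrime Q) (incB π)))
        rw [Set.ncard_singleton] at this
        exact_mod_cast this
      refine h1.trans ?_
      letI : CommRing (Localization.AtPrime Q) := inferInstance
      haveI : Nontrivial ((Localization.AtPrime Q) ⧸ Ideal.span {algebraMap D (Localization.AtPrime Q) (incB π)}) := by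
        rw [Ideal.Quotient.nontrivial_iff, ← hmax]
        exact (maximalIdeal.isMaximal (Localization.AtPrime Q)).ne_top
      exact le_trans (le_add_of_nonneg_left ringKrullDim_nonneg_of_nontrivial)
        (ringKrullDim_quotient_succ_le_of_nonZeroDivisor hreg)
    haveI := Groth.Ega4Algebra1.isDomain_of_isRegularLocalRing (Localization.AtPrime Q)
    have hkerle : ∀ P : Ideal D, P.IsPrime → P ≤ Q → RingHom.ker (algebraMap D (Localization.AtPrime Q)) ≤ P := by
      intro P hP hPQ d hd
      obtain ⟨t, ht⟩ := (IsLocalization.map_eq_zero_iff Q.primeCompl (Localization.AtPrime Q) _).mp hd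
      exact (hP.mem_or_mem (ht ▸ P.zero_mem)).resolve_left fun h => t.2 (hPQ h)
    haveI : (RingHom.ker (algebraMap D (Localization.AtPrime Q))).IsPrime := RingHom.ker_isPrime _
    have hkQ : RingHom.ker (algebraMap D (Localization.AtPrime Q)) ≤ Q := hkerle Q inferInstance le_rfl
    refine ⟨RingHom.ker (algebraMap D (Localization.AtPrime Q)), ⟨⟨inferInstance, bot_le⟩, fun P hP hle' => hkerle P hP.1 (hle'.trans hkQ)⟩, hkQ, ?_⟩
    intro P hP hPQ
    have h := hkerle P hP.1.1 hPQ
    exact le_antisymm (hP.2 ⟨inferInstance, bot_le⟩ h) h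
  -- the bijection
  have hnum : {m : Ideal B | m.IsMaximal}.ncard = {Q : Ideal D | Q.IsMaximal}.ncard := by
    symm
    refine Set.ncard_congr (fun Q _ => Q.comap incB) (fun Q hQ => hQcomap Q hQ) ?_ ?_
    · intro Q Q' hQ hQ' h
      have key : ∀ R R' : Ideal D, R.IsMaximal → R'.IsMaximal → R.comap incB = R'.comap incB → R ≤ R' := by
        intro R R' hR hR' h d hd
        obtain ⟨b, hb⟩ := hdec d
        have hbR : b ∈ R.comap incB := by
          rw [Ideal.mem_comap, show incB b = d - (d - incB b) by ring]
          exact sub_mem hd (hmD R hR hb)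
        rw [h, Ideal.mem_comap] at hbR
        rw [show d = (d - incB b) + incB b by ring]
        exact add_mem (hmD R' hR' hb) hbR
      exact le_antisymm (key Q Q' hQ hQ' h) (key Q' Q hQ' hQ h.symm)
    · intro m hm
      haveI : m.IsMaximal := hm
      letI := Ideal.Quotient.field m
      let σ : A ⧸ maximalIdeal A →ₐ[A] B ⧸ m := Ideal.Quotient.liftₐ _ (Algebra.ofId A (B ⧸ m)) fun a ha => by
        show algebraMap A (B ⧸ m) a = 0
        rw [IsScalarTower.algebraMap_apply A B (B ⧸ m), Ideal.Quotient.algebraMap_eq,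
          Ideal.Quotient.eq_zero_iff_mem]
        haveI : (m.comap (algebraMap A B)).IsMaximal := Ideal.isMaximal_comap_of_isIntegral_of_isMaximal m
        exact (IsLocalRing.eq_maximalIdeal (I := m.comap (algebraMap A B)) inferInstance ▸ ha : a ∈ m.comap (algebraMap A B))
      let θ : D →ₐ[A] B ⧸ m := Algebra.TensorProduct.lift (σ.comp ρ) (Ideal.Quotient.mkₐ A m)
        fun _ _ => Commute.all _ _
      have hθ : ∀ b, θ (incB b) = Ideal.Quotient.mk m b := fun b => by
        show Algebra.TensorProduct.lift _ _ _ ((1 : C) ⊗ₜ[A] b) = _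
        rw [Algebra.TensorProduct.lift_tmul, map_one, one_mul]
        rfl
      have hθs : Function.Surjective θ := fun y => by
        obtain ⟨b, rfl⟩ := Ideal.Quotient.mk_surjective y
        exact ⟨incB b, hθ b⟩
      refine ⟨RingHom.ker θ, RingHom.ker_isMaximal_of_surjective θ hθs, ?_⟩
      ext b
      rw [Ideal.mem_comap, RingHom.mem_ker, hθ, Ideal.Quotient.eq_zero_iff_mem]
  rw [hnum]
  refine Set.ncard_congr (fun Q hQ => (hlocal Q hQ).choose) (fun Q hQ => (hlocal Q hQ).choose_spec.1) ?_ ?_
  · intro Q Q' hQ hQ' h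
    obtain ⟨hP, hPQ, -⟩ := (hlocal Q hQ).choose_spec
    have hPQ' := (hlocal Q' hQ').choose_spec.2.1
    rw [← h] at hPQ'
    set P := (hlocal Q hQ).choose
    haveI := hP.1.1
    haveI := Groth.EtaleAlgebra.isLocalRing_of_finite_domain C (D ⧸ P)
    haveI : Q.IsMaximal := hQ
    haveI : Q'.IsMaximal := hQ'
    have e : ∀ R : Ideal D, R.IsMaximal → P ≤ R → R = (maximalIdeal (D ⧸ P)).comap (Ideal.Quotient.mk P) := by
      intro R hR hle'
      refine hR.eq_of_le (Ideal.IsPrime.comap _).ne_top ?_
      rw [← Ideal.map_le_iff_le_comap]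
      refine le_maximalIdeal fun htop => hR.ne_top ?_
      have := congrArg (Ideal.comap (Ideal.Quotient.mk P)) htop
      rwa [Ideal.comap_map_of_surjective _ Ideal.Quotient.mk_surjective, ← RingHom.ker_eq_comap_bot,
        Ideal.mk_ker, sup_eq_left.mpr hle', Ideal.comap_top] at this
    exact (e Q hQ hPQ).trans (e Q' hQ' hPQ').symm
  · intro P hP
    obtain ⟨Q, hQ, hPQ⟩ := Ideal.exists_le_maximal P hP.1.1.ne_top
    exact ⟨Q, hQ, ((hlocal Q hQ).choose_spec.2.2 P hP hPQ).symm⟩

end Groth.Calg6.Branch
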