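import Mathlib
import Groth.Agent.Calg2.CompleteStructure
import Groth.Agent.Calg2.CohenRing
import Groth.Agent.Calg5.CohenStructure
import Groth.Agent.Gorenstein.BaseChange
import Groth.Agent.Gorenstein.RingEquiv
import Groth.Agent.AdicLinTop.RigClosed
import Groth.Agent.AdicLinTop.Adic
import Groth.Agent.Ega41Sep.Separable
import Groth.Agent.Calg1.CoefficientField

/-!
# Cohen factorisations of maps of Artinian local rings
-/

set_option autoImplicit false
universe u

open IsLocalRing TensorProduct

namespace Groth.Calg6.ArtinCohen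

/-- A ring is local when a quotient by a nil ideal is. -/
theorem isLocalRing_of_nilKer {B C : Type*} [CommRing B] [CommRing C] [IsLocalRing C] (e : B →+* C)
    (hsurj : Function.Surjective e) (hnil : ∀ x, e x = 0 → IsNilpotent x) : IsLocalRing B := by
  haveI : IsLocalHom e := ⟨fun b hb => by
    obtain ⟨b', hb'⟩ := hsurj (↑hb.unit⁻¹ : C)
    have h1 : IsNilpotent (b * b' - 1) := hnil _ (by rw [map_sub, map_mul, hb', map_one, IsUnit.mul_val_inv, sub_self])
    have h2 : IsUnit (b * b') := by simpa using h1.isUnit_add_one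
    exact isUnit_of_mul_isUnit_left h2⟩
  exact RingHom.domain_isLocalRing e

theorem isGorensteinLocalRing_of_isGorensteinRing (F : Type u) [CommRing F] [IsLocalRing F]
    [LocCoh.IsGorensteinRing F] : LocCoh.IsGorensteinLocalRing F := by
  haveI := LocCoh.IsGorensteinRing.isGorensteinLocalRing_localization (A := F) (maximalIdeal F)
  let e : F ≃ₐ[F] Localization.AtPrime (maximalIdeal F) :=
    IsLocalization.atUnits F (maximalIdeal F).primeCompl fun x hx =>
      IsLocalRing.notMem_maximalIdeal.mp hx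
  have h := (GrothGoren.isGorenstein_iff (R := Localization.AtPrime (maximalIdeal F))).1 inferInstance
  haveI : IsNoetherianRing F := isNoetherianRing_of_ringEquiv _ e.symm.toRingEquiv
  exact (GrothGoren.isGorenstein_iff (R := F)).2
    ((GrothGoren.exists_injLT_iff_of_ringEquiv e.toRingEquiv).2 h)

open Polynomial in
/-- Adjoining nilpotent variables to hit given elements. -/
theorem exists_tower {L S : Type u} [CommRing L] [IsLocalRing L] [IsNoetherianRing L] [CommRing S]
    (κ : L →+* S) (N : ℕ) (hN : 0 < N) (s : List S) (hs : ∀ x ∈ s, x ^ N = 0) :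
    ∃ (A : Type u) (_ : CommRing A) (_ : Algebra L A) (F : Type u) (_ : CommRing F) (φ : A →+* S)
      (π : A →+* F), φ.comp (algebraMap L A) = κ ∧ (∀ x ∈ s, x ∈ φ.range) ∧ IsLocalRing A ∧
        Module.Finite L A ∧ Module.Flat L A ∧ Function.Surjective π ∧
        RingHom.ker π = (maximalIdeal L).map (algebraMap L A) ∧ LocCoh.IsGorensteinRing F := by
  induction s with
  | nil =>
    letI := Ideal.Quotient.field (maximalIdeal L)
    refine ⟨L, inferInstance, inferInstance, L ⧸ maximalIdeal L, inferInstance, κ,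
      Ideal.Quotient.mk (maximalIdeal L), by rw [Algebra.algebraMap_self, RingHom.comp_id], by simp,
      inferInstance, inferInstance, inferInstance, Ideal.Quotient.mk_surjective, ?_,
      GrothGoren.isGorensteinRing_of_isRegularRing _⟩
    rw [Ideal.mk_ker, Algebra.algebraMap_self, Ideal.map_id]
  | cons x s ih =>
    obtain ⟨A, _, _, F, _, φ, π, hφ, hrange, hloc, hfin, hflat, hπ, hker, hG⟩ :=
      ih fun y hy => hs y (List.mem_cons_of_mem x hy)
    let f : A[X] := X ^ N
    let A₂ := AdjoinRoot f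
    let f' : F[X] := X ^ N
    have hf : f.Monic := monic_X_pow N
    let φ₂ : A₂ →+* S := AdjoinRoot.lift φ x (by simp [f, hs x (by simp)])
    let π₂ : A₂ →+* AdjoinRoot f' := AdjoinRoot.lift ((AdjoinRoot.of f').comp π) (AdjoinRoot.root f') (by
      have h := AdjoinRoot.eval₂_root f'
      simp only [f', eval₂_X_pow] at h
      simp only [f, eval₂_X_pow]
      exact h)
    let e : A₂ →+* A := AdjoinRoot.lift (RingHom.id A) 0 (by simp [f, hN.ne'])
    haveI : IsLocalRing A₂ := by
      refine isLocalRing_of_nilKer e (fun a => ⟨AdjoinRoot.of f a, AdjoinRoot.lift_of _⟩) fun z hz => ?_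
      obtain ⟨q, rfl⟩ := AdjoinRoot.mk_surjective z
      have hq : X ∣ q := by
        rw [X_dvd_iff]
        have : q.eval₂ (RingHom.id A) 0 = 0 := by rwa [← AdjoinRoot.lift_mk]
        simpa [eval₂_at_zero] using this
      obtain ⟨q, rfl⟩ := hq
      refine ⟨N, ?_⟩
      rw [← map_pow, AdjoinRoot.mk_eq_zero, mul_pow]
      exact dvd_mul_right _ _
    haveI : Module.Free A A₂ := Module.Free.of_basis (AdjoinRoot.powerBasis' hf).basis
    haveI : Module.Finite A A₂ := Module.Finite.of_basis (AdjoinRoot.powerBasis' hf).basis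
    haveI : Module.Finite L A₂ := Module.Finite.trans A A₂
    haveI : Module.Flat L A₂ := Module.Flat.trans L A A₂
    have hπ₂mk : ∀ q : A[X], π₂ (AdjoinRoot.mk f q) = AdjoinRoot.mk f' (q.map π) := fun q => by
      show AdjoinRoot.lift _ _ _ (AdjoinRoot.mk f q) = _
      rw [AdjoinRoot.lift_mk, ← eval₂_map]
      exact AdjoinRoot.aeval_eq _
    have hπ₂ : Function.Surjective π₂ := by
      intro z
      obtain ⟨q, rfl⟩ := AdjoinRoot.mk_surjective z
      obtain ⟨q, rfl⟩ := Polynomial.map_surjective π hπ q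
      exact ⟨AdjoinRoot.mk f q, hπ₂mk q⟩
    have hker₂ : RingHom.ker π₂ = (maximalIdeal L).map (algebraMap L A₂) := by
      have h1 : (maximalIdeal L).map (algebraMap L A₂) = (RingHom.ker π).map (algebraMap A A₂) := by
        rw [hker, Ideal.map_map, ← IsScalarTower.algebraMap_eq]
      rw [h1]
      refine le_antisymm (fun z hz => ?_) ?_
      · obtain ⟨q, rfl⟩ := AdjoinRoot.mk_surjective z
        rw [RingHom.mem_ker, hπ₂mk, AdjoinRoot.mk_eq_zero] at hz
        obtain ⟨c, hc⟩ := hz
        obtain ⟨c, rfl⟩ := Polynomial.map_surjective π hπ c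
        have hmem : q - X ^ N * c ∈ (RingHom.ker π).map Polynomial.C := by
          rw [Ideal.mem_map_C_iff]
          intro i
          rw [RingHom.mem_ker, ← coeff_map, Polynomial.map_sub, Polynomial.map_mul, Polynomial.map_pow, map_X,
            hc, sub_self, coeff_zero]
        have := Ideal.mem_map_of_mem (AdjoinRoot.mk f) hmem
        rw [Ideal.map_map] at this
        rwa [map_sub, map_mul, show AdjoinRoot.mk f (X ^ N) = 0 from AdjoinRoot.mk_self, zero_mul,
          sub_zero] at this
      · rw [Ideal.map_le_iff_le_comap]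
        intro a ha
        rw [Ideal.mem_comap, RingHom.mem_ker, show algebraMap A A₂ a = AdjoinRoot.of f a from rfl,
          AdjoinRoot.lift_of, RingHom.comp_apply, RingHom.mem_ker.mp ha, map_zero]
    haveI := hG
    haveI := GrothGoren.isGorensteinRing_polynomial F
    have hG₂ : LocCoh.IsGorensteinRing (AdjoinRoot f') := by
      refine GrothGoren.isGorensteinRing_quotient_span (R := F[X]) (f := f') ?_
      intro u v huv
      exact (monic_X_pow (R := F) N).isRegular.left huv
    refine ⟨A₂, inferInstance, inferInstance, AdjoinRoot f', inferInstance, φ₂, π₂, ?_, ?_,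
      inferInstance, inferInstance, inferInstance, hπ₂, hker₂, hG₂⟩
    · ext l
      rw [RingHom.comp_apply, IsScalarTower.algebraMap_apply L A A₂,
        show algebraMap A A₂ (algebraMap L A l) = AdjoinRoot.of f (algebraMap L A l) from rfl,
        AdjoinRoot.lift_of, ← RingHom.comp_apply, hφ]
    · intro y hy
      rcases List.mem_cons.mp hy with rfl | hy
      · exact ⟨AdjoinRoot.root f, AdjoinRoot.lift_root _⟩
      · obtain ⟨a, rfl⟩ := hrange y hy
        exact ⟨AdjoinRoot.of f a, AdjoinRoot.lift_of _⟩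

/-- Primes of a finite algebra over the maximal ideal are maximal. -/
theorem radical_map_eq {L A : Type u} [CommRing L] [IsLocalRing L] [CommRing A] [IsLocalRing A]
    [Algebra L A] [Module.Finite L A] :
    maximalIdeal A ≤ ((maximalIdeal L).map (algebraMap L A)).radical := by
  rw [Ideal.radical_eq_sInf]
  refine le_sInf fun P ⟨hP, hPp⟩ => ?_
  haveI := hPp
  haveI : P.IsMaximal := by
    refine Ideal.IsIntegral.isMaximal_of_isMaximal_comap (R := L) P ?_
    rw [← (maximalIdeal.isMaximal L).eq_of_le (Ideal.IsPrime.ne_top inferInstance)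
      (Ideal.map_le_iff_le_comap.mp hP)]
    exact maximalIdeal.isMaximal L
  exact (IsLocalRing.eq_maximalIdeal this).ge

/-- The general construction, given coefficient data on both sides. -/
theorem exists_factor {R S Λ A F : Type u} [CommRing R] [CommRing S] [IsArtinianRing R] [IsLocalRing R]
    [IsLocalRing S] [Algebra R S] [IsLocalHom (algebraMap R S)] [CommRing Λ] [IsLocalRing Λ]
    [Algebra Λ R] (hι : Function.Surjective ((residue R).comp (algebraMap Λ R)))
    [CommRing A] [IsLocalRing A] [IsNoetherianRing A] [CommRing F] (hG : LocCoh.IsGorensteinRing F)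
    [Algebra Λ A] [Module.Flat Λ A] (φ : A →+* S) (hφ : Function.Surjective φ)
    (hcompat : φ.comp (algebraMap Λ A) = (algebraMap R S).comp (algebraMap Λ R))
    (π : A →+* F) (hπ : Function.Surjective π)
    (hker : RingHom.ker π = (maximalIdeal Λ).map (algebraMap Λ A))
    (hprimes : ∀ P : Ideal A, P.IsPrime → RingHom.ker π ≤ P → P = maximalIdeal A) :
    ∃ (R' : Type u) (_ : CommRing R') (_ : Algebra R R'), IsArtinianRing R' ∧ IsLocalRing R' ∧
      Module.Flat R R' ∧ IsLocalHom (algebraMap R R') ∧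
      LocCoh.IsGorensteinLocalRing (R' ⧸ (maximalIdeal R).map (algebraMap R R')) ∧
      ∃ g : R' →ₐ[R] S, Function.Surjective g := by
  let R' := R ⊗[Λ] A
  set mR' := (maximalIdeal R).map (algebraMap R R') with hmR'
  -- the map to `S`
  letI : Algebra Λ S := ((algebraMap R S).comp (algebraMap Λ R)).toAlgebra
  haveI : IsScalarTower Λ R S := IsScalarTower.of_algebraMap_eq fun _ => rfl
  let φa : A →ₐ[Λ] S := { φ with commutes' := RingHom.congr_fun hcompat }
  let g : R' →ₐ[R] S :=
    Algebra.TensorProduct.lift (Algebra.ofId R S) φa (fun _ _ => Commute.all _ _)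
  have hg : Function.Surjective g := fun s => by
    obtain ⟨a, ha⟩ := hφ s
    refine ⟨1 ⊗ₜ a, ?_⟩
    show Algebra.TensorProduct.lift (Algebra.ofId R S) φa _ (1 ⊗ₜ a) = s
    rw [Algebra.TensorProduct.lift_tmul, map_one, one_mul]
    exact ha
  -- the closed fibre
  have hlmem : ∀ l : Λ, algebraMap Λ R l ∈ maximalIdeal R ↔ l ∈ maximalIdeal Λ := fun l => by
    have h := IsLocalRing.eq_maximalIdeal (RingHom.ker_isMaximal_of_surjective _ hι)
    rw [← h, RingHom.mem_ker, RingHom.comp_apply, residue_eq_zero_iff]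
  let μ : Λ →+* R ⧸ maximalIdeal R := (Ideal.Quotient.mk _).comp (algebraMap Λ R)
  have hμker : ∀ l, μ l = 0 → π (algebraMap Λ A l) = 0 := fun l hl =>
    RingHom.mem_ker.mp (hker.ge (Ideal.mem_map_of_mem _
      ((hlmem l).mp (Ideal.Quotient.eq_zero_iff_mem.mp hl))))
  let ψ₀ : R ⧸ maximalIdeal R →+* F :=
    RingHom.liftOfSurjective μ (fun y => by
      obtain ⟨y, rfl⟩ := Ideal.Quotient.mk_surjective y
      exact hι (residue R y)) ⟨π.comp (algebraMap Λ A), hμker⟩
  have hψ₀ : ∀ l, ψ₀ (μ l) = π (algebraMap Λ A l) := fun l =>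
    RingHom.liftOfRightInverse_comp_apply _ _ _ ⟨π.comp (algebraMap Λ A), hμker⟩ l
  letI : Algebra Λ F := (π.comp (algebraMap Λ A)).toAlgebra
  let πa : A →ₐ[Λ] F := { π with commutes' := fun _ => rfl }
  let ψR : R →ₐ[Λ] F := { ψ₀.comp (Ideal.Quotient.mk _) with commutes' := hψ₀ }
  let Ψ : R' →ₐ[Λ] F := Algebra.TensorProduct.lift ψR πa (fun _ _ => Commute.all _ _)
  have hΨ1 : ∀ a : A, Ψ ((1 : R) ⊗ₜ[Λ] a) = π a := fun a => by
    show Algebra.TensorProduct.lift ψR πa _ ((1 : R) ⊗ₜ a) = π a
    rw [Algebra.TensorProduct.lift_tmul, map_one, one_mul]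
    rfl
  have hΨR : ∀ r : R, Ψ (algebraMap R R' r) = ψ₀ (Ideal.Quotient.mk _ r) := fun r => by
    show Algebra.TensorProduct.lift ψR πa _ (r ⊗ₜ (1 : A)) = _
    rw [Algebra.TensorProduct.lift_tmul, map_one, mul_one]
    rfl
  have hΨsurj : Function.Surjective Ψ := fun y => by
    obtain ⟨a, rfl⟩ := hπ y
    exact ⟨1 ⊗ₜ a, hΨ1 a⟩
  have hmA : ∀ a ∈ RingHom.ker π, ((1 : R) ⊗ₜ[Λ] a : R') ∈ mR' := by
    intro a ha
    have hle : RingHom.ker π ≤ mR'.comap
        (Algebra.TensorProduct.includeRight : A →ₐ[Λ] R').toRingHom := by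
      rw [hker, Ideal.map_le_iff_le_comap]
      intro l hl
      simp only [Ideal.mem_comap]
      have : (Algebra.TensorProduct.includeRight : A →ₐ[Λ] R').toRingHom (algebraMap Λ A l) =
          algebraMap R R' (algebraMap Λ R l) := by
        rw [← IsScalarTower.algebraMap_apply]
        exact (Algebra.TensorProduct.includeRight : A →ₐ[Λ] R').commutes l
      rw [this]
      exact Ideal.mem_map_of_mem _ ((hlmem l).mpr hl)
    exact hle ha
  have hsplit : ∀ z : R', ∃ a : A, z - (1 : R) ⊗ₜ[Λ] a ∈ mR' := by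
    intro z
    induction z using TensorProduct.induction_on with
    | zero => exact ⟨0, by simp⟩
    | tmul r a =>
      obtain ⟨l, hl⟩ := hι (residue R r)
      refine ⟨l • a, ?_⟩
      rw [TensorProduct.tmul_smul, TensorProduct.smul_tmul', ← TensorProduct.sub_tmul]
      have hmem : r - l • (1 : R) ∈ maximalIdeal R := by
        rw [← residue_eq_zero_iff, map_sub, ← hl, Algebra.smul_def, mul_one, sub_eq_zero]
        rfl
      rw [show ((r - l • (1 : R)) ⊗ₜ[Λ] a : R') = algebraMap R R' (r - l • (1 : R)) * ((1 : R) ⊗ₜ[Λ] a) by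
        rw [Algebra.TensorProduct.algebraMap_apply, Algebra.TensorProduct.tmul_mul_tmul,
          Algebra.algebraMap_self, RingHom.id_apply, mul_one, one_mul]]
      exact Ideal.mul_mem_right _ _ (Ideal.mem_map_of_mem _ hmem)
    | add x y hx hy =>
      obtain ⟨a, ha⟩ := hx
      obtain ⟨b, hb⟩ := hy
      exact ⟨a + b, by rw [TensorProduct.tmul_add, add_sub_add_comm]; exact add_mem ha hb⟩
  have hΨker : RingHom.ker Ψ.toRingHom = mR' := by
    have hle : mR' ≤ RingHom.ker Ψ.toRingHom := by
      rw [hmR', Ideal.map_le_iff_le_comap]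
      intro r hr
      rw [Ideal.mem_comap, RingHom.mem_ker]
      show Ψ (algebraMap R R' r) = 0
      rw [hΨR, Ideal.Quotient.eq_zero_iff_mem.mpr hr, map_zero]
    refine le_antisymm (fun z hz => ?_) hle
    obtain ⟨a, ha⟩ := hsplit z
    have h1 : Ψ (z - (1 : R) ⊗ₜ[Λ] a) = 0 := hle ha
    rw [map_sub, show Ψ z = 0 from hz, zero_sub, neg_eq_zero] at h1
    have : π a = 0 := (hΨ1 a).symm.trans h1
    have := hmA a this
    simpa using add_mem ha this
  -- `R'` is Artinian local
  obtain ⟨M, hM⟩ := ((isArtinianRing_iff_isNilpotent_maximalIdeal R).mp inferInstance)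
  have hnilR : ∀ z ∈ mR', IsNilpotent z := fun z hz => ⟨M, by
    have := Ideal.pow_mem_pow hz M
    rw [hmR', ← Ideal.map_pow, hM, Ideal.zero_eq_bot, Ideal.map_bot] at this
    exact Ideal.mem_bot.mp this⟩
  haveI : Nontrivial F := by
    refine ⟨⟨1, 0, fun h => ?_⟩⟩
    have : (1 : A) ∈ RingHom.ker π := by rw [RingHom.mem_ker, map_one, h]
    rw [hker] at this
    have h2 : (maximalIdeal Λ).map (algebraMap Λ A) ≤ RingHom.ker ((residue S).comp φ) := by
      rw [Ideal.map_le_iff_le_comap]
      intro l hl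
      have h3 : φ (algebraMap Λ A l) = algebraMap R S (algebraMap Λ R l) := RingHom.congr_fun hcompat l
      rw [Ideal.mem_comap, RingHom.mem_ker, RingHom.comp_apply, h3, residue_eq_zero_iff]
      exact fun hu => (hlmem l).mpr hl (IsUnit.of_map (algebraMap R S) _ hu)
    have := RingHom.mem_ker.mp (h2 this)
    rw [map_one] at this
    exact one_ne_zero this
  haveI : IsLocalRing F := IsLocalRing.of_surjective' π hπ
  haveI : IsLocalRing R' := isLocalRing_of_nilKer Ψ.toRingHom hΨsurj fun z hz => hnilR z (hΨker.le hz)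
  haveI : Module.Finite Λ R := by
    obtain ⟨M, hM⟩ := ((isArtinianRing_iff_isNilpotent_maximalIdeal R).mp inferInstance)
    haveI := Groth.Calg2.CompleteStructure.finite_quotient_of_pow_le (Λ := Λ) hι (⊥ : Ideal R) M (by rw [hM]; exact le_rfl)
    exact Module.Finite.equiv ((RingEquiv.quotientBot R).toAddEquiv.toLinearEquiv fun l x => by
      obtain ⟨x, rfl⟩ := Ideal.Quotient.mk_surjective x
      rfl)
  letI : Algebra A R' := Algebra.TensorProduct.rightAlgebra
  haveI : Module.Finite A R' := Module.Finite.equiv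
    (Algebra.TensorProduct.commRight Λ A R).toLinearEquiv
  haveI : IsNoetherianRing R' := IsNoetherianRing.of_finite A R'
  haveI : IsArtinianRing R' := by
    rw [isArtinianRing_iff_krullDimLE_zero, Ring.krullDimLE_zero_iff]
    intro P hP
    have hPm : mR' ≤ P := fun z hz => hP.radical ▸ (Ideal.mem_radical_iff.mpr
      ((hnilR z hz).imp fun n hn => by rw [hn]; exact zero_mem P))
    haveI : (P.map Ψ.toRingHom).IsPrime := Ideal.map_isPrime_of_surjective hΨsurj (hΨker.le.trans hPm)
    have hcm : (P.map Ψ.toRingHom).comap Ψ.toRingHom = P := by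
      exact (Ideal.comap_map_of_surjective' Ψ.toRingHom hΨsurj P).trans
        (sup_eq_left.mpr (hΨker.le.trans hPm))
    have h1 : (P.map Ψ.toRingHom).comap π = maximalIdeal A :=
      hprimes _ inferInstance (Ideal.comap_mono bot_le)
    have h2 : (P.map Ψ.toRingHom).IsMaximal := by
      rw [← Ideal.map_comap_of_surjective π hπ (P.map Ψ.toRingHom), h1]
      refine (Ideal.map_eq_top_or_isMaximal_of_surjective π hπ (maximalIdeal.isMaximal A)).resolve_left ?_
      rw [← h1, Ideal.map_comap_of_surjective π hπ]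
      exact Ideal.IsPrime.ne_top inferInstance
    rw [← hcm]
    haveI := h2
    exact Ideal.comap_isMaximal_of_surjective _ hΨsurj
  haveI : IsLocalHom (algebraMap R R') := ⟨fun r hr => by
    by_contra hnu
    obtain ⟨n, hn⟩ := hnilR _ (Ideal.mem_map_of_mem (algebraMap R R')
      (show r ∈ maximalIdeal R from hnu))
    exact not_isUnit_zero (hn ▸ hr.pow n)⟩
  refine ⟨R', inferInstance, inferInstance, inferInstance, inferInstance, inferInstance, inferInstance,
    ?_, g, hg⟩
  let e : R' ⧸ mR' ≃+* F := (Ideal.quotEquivOfEq hΨker.symm).trans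
    (RingHom.quotientKerEquivOfSurjective hΨsurj)
  haveI := hG
  haveI : LocCoh.IsGorensteinRing (R' ⧸ mR') := GrothGoren.isGorensteinRing_of_ringEquiv e.symm
  haveI : IsLocalRing (R' ⧸ mR') := e.symm.isLocalRing
  exact isGorensteinLocalRing_of_isGorensteinRing _

/-- The case analysis is reduced to a coefficient ring of `S` and a lifting property. -/
theorem exists_factor_of_lift {R S Λ L : Type u} [CommRing R] [CommRing S] [IsArtinianRing R]
    [IsLocalRing R] [IsArtinianRing S] [IsLocalRing S] [Algebra R S] [IsLocalHom (algebraMap R S)]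
    [CommRing Λ] [IsLocalRing Λ]
    [CommRing L] [IsLocalRing L] [IsNoetherianRing L] [IsAdicComplete (maximalIdeal L) L]
    (ι : Λ →+* R) (hι : Function.Surjective ((residue R).comp ι))
    (κ : L →+* S) (hκ : Function.Surjective ((residue S).comp κ))
    (hlift : ∀ (A : Type u) [CommRing A] [IsLocalRing A] [IsNoetherianRing A]
      [IsAdicComplete (maximalIdeal A) A] [Algebra L A] [Module.Flat L A] (φ : A →+* S),
      φ.comp (algebraMap L A) = κ → Function.Surjective φ →
      (∃ M, maximalIdeal A ^ M ≤ (maximalIdeal L).map (algebraMap L A)) →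
      ∃ g : Λ →+* A, φ.comp g = (algebraMap R S).comp ι ∧
        (maximalIdeal Λ).map g = (maximalIdeal L).map (algebraMap L A) ∧
        (letI := g.toAlgebra; Module.Flat Λ A)) :
    ∃ (R' : Type u) (_ : CommRing R') (_ : Algebra R R'), IsArtinianRing R' ∧ IsLocalRing R' ∧
      Module.Flat R R' ∧ IsLocalHom (algebraMap R R') ∧
      LocCoh.IsGorensteinLocalRing (R' ⧸ (maximalIdeal R).map (algebraMap R R')) ∧
      ∃ g : R' →ₐ[R] S, Function.Surjective g := by
  classical
  obtain ⟨N, hN⟩ := (isArtinianRing_iff_isNilpotent_maximalIdeal S).mp inferInstance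
  obtain ⟨s, hs⟩ := (IsNoetherian.noetherian (maximalIdeal S) : (maximalIdeal S).FG)
  have hsN : ∀ x ∈ s.toList, x ^ (N + 1) = 0 := fun x hx => by
    have h0 : x ∈ maximalIdeal S := hs.le (Submodule.subset_span (Finset.mem_toList.mp hx))
    have := Ideal.pow_mem_pow h0 N
    rw [hN] at this
    rw [pow_succ, Ideal.mem_bot.mp this, zero_mul]
  obtain ⟨A, _, _, F, _, φ, π, hφκ, hrange, hloc, hfin, hflat, hπ, hker, hG⟩ :=
    exists_tower κ (N + 1) (by omega) s.toList hsN
  haveI : IsNoetherianRing A := IsNoetherianRing.of_finite L A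
  obtain ⟨M, hM⟩ := Ideal.exists_pow_le_of_le_radical_of_fg (radical_map_eq (L := L) (A := A))
    (IsNoetherian.noetherian _)
  haveI : IsAdicComplete ((maximalIdeal L).map (algebraMap L A)) A := by
    haveI : IsAdicComplete (maximalIdeal L) A := Groth.AdicLinTop.Adic.isAdicComplete_of_finite
    exact (IsAdicComplete.map_algebraMap_iff (maximalIdeal L) (M := A) (S := A)).mpr inferInstance
  have hmapne : (maximalIdeal L).map (algebraMap L A) ≤ RingHom.ker ((residue S).comp φ) := by
    rw [Ideal.map_le_iff_le_comap]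
    intro l hl
    rw [Ideal.mem_comap, RingHom.mem_ker, RingHom.comp_apply, ← RingHom.comp_apply φ, hφκ]
    rw [← RingHom.comp_apply]
    exact RingHom.mem_ker.mp ((IsLocalRing.eq_maximalIdeal (RingHom.ker_isMaximal_of_surjective _ hκ)).ge hl)
  haveI : IsAdicComplete (maximalIdeal A) A := Groth.AdicLinTop.RigClosed.isAdicComplete_of_pow_le
    (hmapne.trans (IsLocalRing.le_maximalIdeal (RingHom.ker_ne_top _))) hM A
  have hφsurj : Function.Surjective φ := by
    have hmem : ∀ a ∈ maximalIdeal A, φ a ∈ maximalIdeal S := by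
      intro a ha
      obtain ⟨n, hn⟩ := Ideal.mem_radical_iff.mp (radical_map_eq (L := L) (A := A) ha)
      rw [← residue_eq_zero_iff]
      refine eq_zero_of_pow_eq_zero (n := n) ?_
      rw [← map_pow, ← map_pow]
      exact RingHom.mem_ker.mp (hmapne hn)
    have hgen : (maximalIdeal A).map φ = maximalIdeal S := by
      refine le_antisymm (Ideal.map_le_iff_le_comap.mpr hmem) ?_
      rw [← hs, Ideal.submodule_span_eq, Ideal.span_le]
      intro x hx
      obtain ⟨a, rfl⟩ := hrange x (Finset.mem_toList.mpr hx)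
      refine Ideal.mem_map_of_mem φ (fun hu => ?_)
      exact (show φ a ∈ maximalIdeal S from hs.le (Submodule.subset_span hx)) (hu.map φ)
    haveI : IsHausdorff ((maximalIdeal A).map φ) S := by
      rw [hgen]; exact IsHausdorff.of_le_jacobson _ _ (maximalIdeal_le_jacobson _)
    refine surjective_of_mk_map_comp_surjective (f := φ) (I := maximalIdeal A) fun y => ?_
    obtain ⟨y, rfl⟩ := Ideal.Quotient.mk_surjective y
    obtain ⟨l, hl⟩ := hκ (residue S y)
    refine ⟨algebraMap L A l, Ideal.Quotient.eq.mpr ?_⟩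
    rw [hgen, show φ (algebraMap L A l) = κ l from RingHom.congr_fun hφκ l, ← residue_eq_zero_iff, map_sub,
      ← hl, RingHom.comp_apply, sub_self]
  obtain ⟨g, hg, hgm, hgflat⟩ := hlift A φ hφκ hφsurj ⟨M, hM⟩
  letI := ι.toAlgebra
  letI := g.toAlgebra
  haveI : Module.Flat Λ A := hgflat
  refine exists_factor (Λ := Λ) hι hG φ hφsurj hg π hπ (hker.trans hgm.symm) fun P hP hle => ?_
  refine le_antisymm (IsLocalRing.le_maximalIdeal hP.ne_top) ?_
  refine (radical_map_eq (L := L) (A := A)).trans ?_
  rw [← hker]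
  exact hP.radical_le_iff.mpr hle

/-- Residue characteristic zero or equal positive characteristic. -/
theorem exists_factor_of_field {R S Λ : Type u} [CommRing R] [CommRing S] [IsArtinianRing R]
    [IsLocalRing R] [IsArtinianRing S] [IsLocalRing S] [Algebra R S] [IsLocalHom (algebraMap R S)]
    [Field Λ] (ι : Λ →+* R) (hι : Function.Surjective ((residue R).comp ι)) :
    ∃ (R' : Type u) (_ : CommRing R') (_ : Algebra R R'), IsArtinianRing R' ∧ IsLocalRing R' ∧
      Module.Flat R R' ∧ IsLocalHom (algebraMap R R') ∧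
      LocCoh.IsGorensteinLocalRing (R' ⧸ (maximalIdeal R).map (algebraMap R R')) ∧
      ∃ g : R' →ₐ[R] S, Function.Surjective g := by
  obtain ⟨NS, hNS⟩ := (isArtinianRing_iff_isNilpotent_maximalIdeal S).mp inferInstance
  haveI : IsAdicComplete (⊥ : Ideal S) S := inferInstance
  haveI : IsAdicComplete (maximalIdeal S) S :=
    Groth.AdicLinTop.RigClosed.isAdicComplete_of_pow_le (I := (⊥ : Ideal S)) bot_le hNS.le S
  letI : Algebra Λ S := ((algebraMap R S).comp ι).toAlgebra
  obtain ⟨σ, hσ⟩ := Groth.Calg5.CohenStructure.exists_section_of_field S Λ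
  haveI : IsAdicComplete (maximalIdeal (ResidueField S)) (ResidueField S) := by
    rw [IsLocalRing.isField_iff_maximalIdeal_eq.mp (Field.toIsField _)]; infer_instance
  refine exists_factor_of_lift (L := ResidueField S) ι hι σ
    (fun y => ⟨y, RingHom.congr_fun hσ y⟩) ?_
  intro A _ _ _ _ _ _ φ hφσ hφ ⟨M, hM⟩
  have hbot : ∀ (K : Type u) [Field K], maximalIdeal K = ⊥ := fun K _ =>
    IsLocalRing.isField_iff_maximalIdeal_eq.mp (Field.toIsField K)
  rw [hbot, Ideal.map_bot] at hM
  have hnil : IsNilpotent (RingHom.ker φ) := by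
    refine ⟨M, le_bot_iff.mp (le_trans (Ideal.pow_right_mono ?_ M) hM)⟩
    exact IsLocalRing.le_maximalIdeal (RingHom.ker_ne_top φ)
  suffices h : ∃ g : Λ →+* A, φ.comp g = (algebraMap R S).comp ι by
    obtain ⟨g, hg⟩ := h
    refine ⟨g, hg, ?_, ?_⟩
    · rw [hbot, hbot, Ideal.map_bot, Ideal.map_bot]
    · letI := g.toAlgebra; infer_instance
  obtain ⟨q, hq⟩ := CharP.exists Λ
  rcases CharP.char_is_prime_or_zero Λ q with hprime | rfl
  · haveI := Fact.mk hprime
    haveI : CharP A q := by
      haveI : CharP (ResidueField S) q :=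
        charP_of_injective_ringHom ((residue S).comp (algebraMap Λ S)).injective q
      exact charP_of_injective_ringHom (algebraMap (ResidueField S) A).injective q
    letI : Algebra (Ega41Sep.ZModU.{u} q) Λ := Ega41Sep.zmodUAlgebra q Λ
    letI : Algebra (Ega41Sep.ZModU.{u} q) A := Ega41Sep.zmodUAlgebra q A
    letI : Algebra (Ega41Sep.ZModU.{u} q) S := (φ.comp (algebraMap _ A)).toAlgebra
    haveI := Ega41Sep.formallySmooth_zmodU q Λ
    haveI : Subsingleton (Ega41Sep.ZModU.{u} q →+* S) := by
      refine ⟨fun a b => RingHom.ext fun x => ?_⟩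
      obtain ⟨x⟩ := x
      exact RingHom.congr_fun (RingHom.ext_zmod (a.comp ULift.ringEquiv.symm.toRingHom)
        (b.comp ULift.ringEquiv.symm.toRingHom)) x
    let u : Λ →ₐ[Ega41Sep.ZModU.{u} q] S :=
      { (algebraMap R S).comp ι with
        commutes' := RingHom.congr_fun (Subsingleton.elim
          (((algebraMap R S).comp ι).comp (algebraMap _ Λ)) (algebraMap _ S)) }
    let φq : A →ₐ[Ega41Sep.ZModU.{u} q] S := { φ with commutes' := fun _ => rfl }
    refine ⟨(Algebra.FormallySmooth.liftOfSurjective u φq hφ hnil).toRingHom, ?_⟩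
    ext l
    exact Algebra.FormallySmooth.liftOfSurjective_apply u φq hφ hnil l
  · haveI := CharP.charP_to_charZero Λ
    haveI : CharZero (ResidueField S) :=
      charZero_of_injective_ringHom ((residue S).comp (algebraMap Λ S)).injective
    letI : Algebra ℚ A := ((algebraMap (ResidueField S) A).comp (algebraMap ℚ (ResidueField S))).toAlgebra
    letI : Algebra ℚ S := (φ.comp (algebraMap ℚ A)).toAlgebra
    haveI := Groth.Calg1.formallySmooth_rat Λ
    let u : Λ →ₐ[ℚ] S :=
      { (algebraMap R S).comp ι with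
        commutes' := RingHom.congr_fun (Subsingleton.elim
          (((algebraMap R S).comp ι).comp (algebraMap ℚ Λ)) (algebraMap ℚ S)) }
    let φq : A →ₐ[ℚ] S := { φ with commutes' := fun _ => rfl }
    refine ⟨(Algebra.FormallySmooth.liftOfSurjective u φq hφ hnil).toRingHom, ?_⟩
    ext l
    exact Algebra.FormallySmooth.liftOfSurjective_apply u φq hφ hnil l

open Groth.Calg2 in
/-- The case of a Cohen coefficient ring. -/
theorem exists_factor_of_cohen {R S Λ : Type u} [CommRing R] [CommRing S] [IsArtinianRing R]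
    [IsLocalRing R] [IsArtinianRing S] [IsLocalRing S] [Algebra R S] [IsLocalHom (algebraMap R S)]
    [CommRing Λ] (hΛ : CAlg.IsCohenRing Λ) (p : ℕ) (hp : p.Prime) (hpm : (p : R) ∈ maximalIdeal R)
    (hmΛ : ∀ (J : Ideal Λ), J.IsMaximal → J = Ideal.span {(p : Λ)})
    (ι : Λ →+* R) (hι : Function.Surjective ((residue R).comp ι)) :
    ∃ (R' : Type u) (_ : CommRing R') (_ : Algebra R R'), IsArtinianRing R' ∧ IsLocalRing R' ∧
      Module.Flat R R' ∧ IsLocalHom (algebraMap R R') ∧
      LocCoh.IsGorensteinLocalRing (R' ⧸ (maximalIdeal R).map (algebraMap R R')) ∧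
      ∃ g : R' →ₐ[R] S, Function.Surjective g := by
  haveI := Fact.mk hp
  obtain ⟨hdom, hdvr, -, -⟩ := hΛ
  have hmax : maximalIdeal Λ = Ideal.span {(p : Λ)} := hmΛ _ (maximalIdeal.isMaximal Λ)
  haveI : (Ideal.span {(p : Λ)}).IsMaximal := hmax ▸ maximalIdeal.isMaximal Λ
  have hp0 : (p : Λ) ≠ 0 := fun h0 => hdvr.not_a_field' (by rw [hmax, h0]; exact Ideal.span_singleton_eq_bot.2 rfl)
  obtain ⟨NS, hNS⟩ := (isArtinianRing_iff_isNilpotent_maximalIdeal S).mp inferInstance
  haveI : IsAdicComplete (⊥ : Ideal S) S := inferInstance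
  haveI : IsAdicComplete (maximalIdeal S) S :=
    Groth.AdicLinTop.RigClosed.isAdicComplete_of_pow_le (I := (⊥ : Ideal S)) bot_le hNS.le S
  have hpS : (p : S) ∈ maximalIdeal S := by
    rw [← map_natCast (algebraMap R S)]
    exact fun hu => hpm (IsUnit.of_map (algebraMap R S) _ hu)
  haveI : CharP (ResidueField S) p := (CharP.charP_iff_prime_eq_zero hp).2 (by
    rw [← map_natCast (residue S)]; exact (residue_eq_zero_iff _).2 hpS)
  obtain ⟨L, _, _, hL, ⟨e⟩⟩ := CohenRing.exists_cohenRing p (ResidueField S)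
  obtain ⟨hLdom, hLdvr, hLcomp, q, hq, hmq⟩ := hL
  have hqp : q = p := by
    have hq0 : (q : ResidueField S) = 0 := by
      have h0 : residue L (q : L) = 0 :=
        (residue_eq_zero_iff _).2 (hmq ▸ Ideal.mem_span_singleton_self _)
      rw [← map_natCast e q, ← map_natCast (residue L) q, h0, map_zero]
    exact ((Nat.prime_dvd_prime_iff_eq hp hq).1
      ((CharP.cast_eq_zero_iff (ResidueField S) p q).1 hq0)).symm
  subst hqp
  haveI : (Ideal.span {(q : L)}).IsMaximal := hmq ▸ IsLocalRing.maximalIdeal.isMaximal L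
  have hqL : (q : L) ≠ 0 := fun h0 => hLdvr.not_a_field' (by
    rw [hmq, h0]; exact Ideal.span_singleton_eq_bot.2 rfl)
  have hpow : ∀ n x, x ∈ maximalIdeal S ^ (n + 1) → (q : S) * x ∈ maximalIdeal S ^ (n + 2) := fun n x hx => by
    rw [pow_succ' (maximalIdeal S) (n + 1)]; exact Ideal.mul_mem_mul hpS hx
  let g₀ : L →+* S ⧸ maximalIdeal S ^ (0 + 1) :=
    (Ideal.quotEquivOfEq (pow_one (maximalIdeal S)).symm).toRingHom.comp
      (e.toRingHom.comp (residue L))
  obtain ⟨κ, hκ⟩ := CohenRing.exists_lift_filtration (p := q)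
    (fun x hx => (mul_eq_zero.1 hx).resolve_left hqL) (maximalIdeal S)
    (fun n => maximalIdeal S ^ (n + 1)) (fun n => Ideal.pow_le_pow_right (by omega))
    (fun n => Ideal.pow_le_pow_right (by omega))
    (fun n => by rw [← pow_add]; exact Ideal.pow_le_pow_right (by omega)) hpow g₀
  refine exists_factor_of_lift (L := L) ι hι κ (fun y => ?_) ?_
  · obtain ⟨l, hl⟩ := residue_surjective (e.symm y)
    obtain ⟨c, rfl⟩ := residue_surjective y
    refine ⟨l, Ideal.Quotient.eq.2 ?_⟩
    have h := hκ 1 l c (by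
      refine Eq.trans ?_ (congrArg (fun z => Ideal.quotEquivOfEq (pow_one (maximalIdeal S)).symm z)
        (congrArg e hl.symm))
      rw [e.apply_symm_apply]
      exact (Ideal.quotEquivOfEq_mk _ _).symm)
    simpa using h
  intro A _ _ _ _ _ _ φ hφκ hφ _
  have hpA : (q : A) ∈ maximalIdeal A := fun hu => hpS (by simpa using hu.map φ)
  let K₀ := RingHom.ker φ
  have hK₀ : K₀ ≤ maximalIdeal A := IsLocalRing.le_maximalIdeal (RingHom.ker_ne_top φ)
  let Fl : ℕ → Ideal A := fun n => K₀ ⊓ maximalIdeal A ^ n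
  have hF0 : Fl 0 = K₀ := by simp [Fl]
  let e₀ : S ≃+* A ⧸ Fl 0 :=
    (RingHom.quotientKerEquivOfSurjective hφ).symm.trans (Ideal.quotEquivOfEq hF0.symm)
  obtain ⟨g, hg⟩ := CohenRing.exists_lift_filtration (p := q)
    (fun x hx => (mul_eq_zero.1 hx).resolve_left hp0) (maximalIdeal A) Fl
    (fun n => inf_le_inf_left _ (Ideal.pow_le_pow_right n.le_succ))
    (fun n => inf_le_right)
    (fun n => by
      refine le_inf (Ideal.mul_le_left.trans inf_le_left) ?_
      rw [pow_succ]
      exact Ideal.mul_mono inf_le_right (inf_le_left.trans hK₀))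
    (fun n x hx => ⟨Ideal.mul_mem_left _ _ hx.1, by
      rw [pow_succ']; exact Ideal.mul_mem_mul hpA hx.2⟩)
    (e₀.toRingHom.comp ((algebraMap R S).comp ι))
  refine ⟨g, RingHom.ext fun l => ?_, ?_, ?_⟩
  · obtain ⟨c, hc⟩ := hφ (algebraMap R S (ι l))
    have h1 := hg NS l c (by
      rw [RingHom.comp_apply, RingHom.comp_apply, ← hc]
      show Ideal.Quotient.mk (Fl 0) c = e₀ (φ c)
      rw [show φ c = (RingHom.quotientKerEquivOfSurjective hφ) (Ideal.Quotient.mk _ c) from rfl,
        RingEquiv.trans_apply, RingEquiv.symm_apply_apply, Ideal.quotEquivOfEq_mk])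
    have h2 : φ (g l - c) ∈ maximalIdeal S ^ NS := by
      obtain ⟨a, ha, b, hb, hab⟩ := Submodule.mem_sup.mp h1
      rw [← hab, map_add, show φ b = 0 from RingHom.mem_ker.mp (hF0.le hb), add_zero]
      have hmap : (maximalIdeal A).map φ ≤ maximalIdeal S := by
        rw [IsLocalRing.map_maximalIdeal_of_surjective φ hφ]
      exact Ideal.pow_right_mono hmap NS (Ideal.map_pow φ _ _ ▸ Ideal.mem_map_of_mem φ ha)
    rw [hNS, Ideal.zero_eq_bot, Ideal.mem_bot, map_sub, sub_eq_zero] at h2
    rw [RingHom.comp_apply, h2, hc]; rfl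
  · rw [hmax, hmq, Ideal.map_span, Ideal.map_span, Set.image_singleton, Set.image_singleton,
      map_natCast, map_natCast]
  · letI := g.toAlgebra
    have hreg : ∀ a : A, (q : A) * a = 0 → a = 0 := fun a ha => by
      have h := Module.Flat.isSMulRegular_of_isRegular (M := A) (IsRegular.of_ne_zero hqL)
      refine h ?_
      simp only [smul_zero, Algebra.smul_def, map_natCast, mul_zero]
      exact ha
    rw [Module.Flat.flat_iff_torsion_eq_bot_of_isBezout, eq_bot_iff]
    intro a ha
    obtain ⟨⟨l, hl⟩, hla⟩ := (Submodule.mem_torsion_iff a).mp ha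
    have hl0 : l ≠ 0 := nonZeroDivisors.ne_zero hl
    have hirr : Irreducible (q : Λ) := (IsDiscreteValuationRing.irreducible_iff_uniformizer _).mpr hmax
    obtain ⟨n, u, rfl⟩ := IsDiscreteValuationRing.eq_unit_mul_pow_irreducible hl0 hirr
    have h1 : algebraMap Λ A ((u : Λ) * (q : Λ) ^ n) * a = 0 := by rw [← Algebra.smul_def]; exact hla
    rw [map_mul, map_pow, map_natCast, mul_assoc] at h1
    have h2 : (q : A) ^ n * a = 0 := (u.isUnit.map (algebraMap Λ A)).mul_right_eq_zero.mp h1
    have hn : ∀ n : ℕ, (q : A) ^ n * a = 0 → a = 0 := by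
      intro n
      induction n with
      | zero => intro h; simpa using h
      | succ n ih => intro h; exact ih (hreg _ (by rwa [pow_succ', mul_assoc] at h))
    exact (Submodule.mem_bot Λ).mpr (hn n h2)

theorem exists_factorisation (R S : Type u) [CommRing R] [CommRing S] [IsArtinianRing R]
    [IsLocalRing R] [IsArtinianRing S] [IsLocalRing S] [Algebra R S] [IsLocalHom (algebraMap R S)] :
    ∃ (R' : Type u) (_ : CommRing R') (_ : Algebra R R'), IsArtinianRing R' ∧ IsLocalRing R' ∧
      Module.Flat R R' ∧ IsLocalHom (algebraMap R R') ∧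
      LocCoh.IsGorensteinLocalRing (R' ⧸ (maximalIdeal R).map (algebraMap R R')) ∧
      ∃ g : R' →ₐ[R] S, Function.Surjective g := by
  obtain ⟨N, hN⟩ := (isArtinianRing_iff_isNilpotent_maximalIdeal R).mp inferInstance
  haveI : IsAdicComplete (⊥ : Ideal R) R := inferInstance
  haveI : IsAdicComplete (maximalIdeal R) R :=
    Groth.AdicLinTop.RigClosed.isAdicComplete_of_pow_le (I := (⊥ : Ideal R)) bot_le hN.le R
  obtain ⟨Λ, _, ι, hι, hF | ⟨hC, p, hp, -, hpm, hJ⟩⟩ :=
    Groth.Calg2.CompleteStructure.exists_coefficient R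
  · letI := hF.toField
    exact exists_factor_of_field ι hι
  · exact exists_factor_of_cohen hC p hp hpm hJ ι hι

end Groth.Calg6.ArtinCohen
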