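import Mathlib.LinearAlgebra.Determinant
import Mathlib.LinearAlgebra.Dimension.OrzechProperty
import Mathlib.LinearAlgebra.ExteriorPower.Basic
import Mathlib.RingTheory.Ideal.Quotient.Operations
import Mathlib.LinearAlgebra.FiniteDimensional.Basic
import Groth.Agent.KTheory.ExtFilt

/-!
# Top exterior powers of split extensions
-/

set_option autoImplicit false
universe u

open exteriorPower TensorProduct

namespace Groth.Calg6.TopExt

variable {R : Type u} [CommRing R]

section Free

variable {M : Type u} [AddCommGroup M] [Module R M] {n : ℕ}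

theorem ιMulti_eq_det_smul (b : Module.Basis (Fin n) R M) (v : Fin n → M) :
    ιMulti R n v = b.det v • ιMulti R n b := by
  suffices key : (ιMulti R n (M := M)) =
      (LinearMap.id.smulRight (ιMulti R n b) : R →ₗ[R] ⋀[R]^n M).compAlternatingMap b.det by
    exact congrFun (congrArg DFunLike.coe key) v
  refine b.ext_alternating fun σ hσ => ?_
  obtain ⟨e, he⟩ : ∃ e : Equiv.Perm (Fin n), ⇑e = σ :=
    ⟨Equiv.ofBijective σ hσ.bijective_of_finite, rfl⟩
  subst he
  rw [LinearMap.compAlternatingMap_apply, LinearMap.smulRight_apply, LinearMap.id_apply,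
    show (fun i => b (e i)) = ⇑b ∘ ⇑e from rfl, AlternatingMap.map_perm, AlternatingMap.map_perm,
    Module.Basis.det_self, Units.smul_def, Units.smul_def, zsmul_eq_mul, mul_one,
    Int.cast_smul_eq_zsmul]

/-- The top exterior power of a free module is free of rank one. -/
noncomputable def topEquiv (b : Module.Basis (Fin n) R M) : (⋀[R]^n M) ≃ₗ[R] R :=
  LinearEquiv.ofLinear (alternatingMapLinearEquiv b.det)
    (LinearMap.id.smulRight (ιMulti R n b))
    (by
      refine LinearMap.ext_ring ?_
      simp [Module.Basis.det_self])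
    (by
      refine exteriorPower.linearMap_ext ?_
      ext v
      simpa using (congrArg Subtype.val (ιMulti_eq_det_smul b v)).symm)

theorem topEquiv_ιMulti (b : Module.Basis (Fin n) R M) (v : Fin n → M) :
    topEquiv b (ιMulti R n v) = b.det v := by
  simp [topEquiv]

end Free

/-- Over a field, an independent family and a set which together span extend to a basis. -/
theorem exists_det_ne_zero {k : Type u} [Field k] {n r q : ℕ} (h : r + q = n)
    (u : Fin r → Fin n → k) (hu : LinearIndependent k u) (T : Set (Fin n → k))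
    (hspan : ⊤ ≤ Submodule.span k (Set.range u ∪ T)) :
    ∃ w : Fin q → Fin n → k, (∀ j, w j ∈ T) ∧
      Matrix.det (Matrix.of (Fin.append u w ∘ Fin.cast h.symm)) ≠ 0 := by
  classical
  have hu' : LinearIndepOn k id (Set.range u) := hu.linearIndepOn_id
  have hsub : Set.range u ⊆ Set.range u ∪ T := Set.subset_union_left
  set b := hu'.extend hsub with hb
  have hbu : Set.range u ⊆ b := hu'.subset_extend hsub
  have hbT : b ⊆ Set.range u ∪ T := hu'.extend_subset hsub
  have hbli : LinearIndepOn k id b := hu'.linearIndepOn_extend hsub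
  have hbspan : (⊤ : Submodule k (Fin n → k)) ≤ Submodule.span k b :=
    hspan.trans (hu'.span_extend_eq_span hsub).ge
  haveI : Finite b := hbli.linearIndependent.finite
  haveI : Fintype b := Fintype.ofFinite b
  let B := Module.Basis.mk hbli.linearIndependent (by simpa using hbspan)
  have hcard : b.ncard = n := by
    have := Module.finrank_eq_card_basis B
    rw [Module.finrank_fin_fun] at this
    rw [← Nat.card_coe_set_eq, Nat.card_eq_fintype_card]
    exact this.symm
  have hdiff : (b \ Set.range u).ncard = q := by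
    rw [Set.ncard_sdiff hbu (Set.finite_range u), hcard,
      Set.ncard_range_of_injective hu.injective, Nat.card_fin]
    omega
  let e : Fin q ≃ ↥(b \ Set.range u) :=
    (finCongr (by rw [Nat.card_coe_set_eq]; exact hdiff.symm)).trans
      (Finite.equivFin _).symm
  refine ⟨fun j => (e j : Fin n → k), fun j => ?_, ?_⟩
  · exact (hbT (e j).2.1).resolve_left (e j).2.2
  · set v := Fin.append u (fun j => (e j : Fin n → k)) ∘ Fin.cast h.symm with hv
    have hrange : b ⊆ Set.range v := by
      intro x hx
      by_cases hxu : x ∈ Set.range u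
      · obtain ⟨i, rfl⟩ := hxu
        exact ⟨Fin.cast h (Fin.castAdd q i), by simp [hv]⟩
      · exact ⟨Fin.cast h (Fin.natAdd r (e.symm ⟨x, hx, hxu⟩)), by simp [hv]⟩
    have hvspan : ⊤ ≤ Submodule.span k (Set.range v) := hbspan.trans (Submodule.span_mono hrange)
    let Bv := basisOfTopLeSpanOfCardEqFinrank v hvspan (by simp)
    have hBv : ⇑Bv = v := coe_basisOfTopLeSpanOfCardEqFinrank v hvspan (by simp)
    have hunit := (Pi.basisFun k (Fin n)).isUnit_det Bv
    rw [hBv, Module.Basis.det_apply] at hunit
    have hT : (Pi.basisFun k (Fin n)).toMatrix v = (Matrix.of v).transpose := by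
      ext i j
      simp [Module.Basis.toMatrix_apply]
    rw [hT, Matrix.det_transpose] at hunit
    exact hunit.ne_zero

variable {M M'' : Type u} [AddCommGroup M] [Module R M] [AddCommGroup M''] [Module R M'']
  {n r q : ℕ}

/-- Some wedge of the sub-basis with lifts from the quotient has invertible determinant mod `m`. -/
theorem exists_det_notMem (h : r + q = n) (b : Module.Basis (Fin n) R M)
    (f : (Fin r → R) →ₗ[R] M) (g : M →ₗ[R] M'') (rr : M →ₗ[R] (Fin r → R)) (s : M'' →ₗ[R] M)
    (hr : rr ∘ₗ f = LinearMap.id) (hfr : ∀ a, f (rr a) = a - s (g a))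
    (m : Ideal R) [m.IsMaximal] :
    ∃ w : Fin q → M'', b.det (Fin.append (f ∘ Pi.basisFun R (Fin r)) (s ∘ w) ∘ Fin.cast h.symm)
      ∉ m := by
  classical
  letI := Ideal.Quotient.field m
  let π : R →+* R ⧸ m := Ideal.Quotient.mk m
  let c : M → Fin n → R ⧸ m := fun x i => π (b.repr x i)
  have c_add : ∀ x y, c (x + y) = c x + c y := fun x y => by ext i; simp [c]
  have c_smul : ∀ (a : R) x, c (a • x) = π a • c x := fun a x => by ext i; simp [c]
  let cL : M →+ (Fin n → R ⧸ m) := AddMonoidHom.mk' c c_add
  let u : Fin r → Fin n → R ⧸ m := fun i => c (f (Pi.basisFun R (Fin r) i))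
  have hu : LinearIndependent (R ⧸ m) u := by
    rw [Fintype.linearIndependent_iff]
    intro a ha i
    choose a' ha' using fun i => Ideal.Quotient.mk_surjective (I := m) (a i)
    let v : Fin r → R := ∑ l, a' l • Pi.basisFun R (Fin r) l
    have hv : c (f v) = 0 := by
      change cL (f v) = 0
      simp only [v, map_sum, map_smul]
      rw [← ha]
      refine Finset.sum_congr rfl fun l _ => ?_
      change c (a' l • _) = _
      rw [c_smul, ← ha' l]
    have hv' : v = ∑ j, b.repr (f v) j • rr (b j) := by
      conv_lhs => rw [← (show rr (f v) = v from LinearMap.congr_fun hr v), ← b.sum_repr (f v)]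
      simp only [map_sum, map_smul]
    have hvi : v i = a' i := by
      simp [v, Pi.single_apply]
    rw [← ha' i, ← hvi, hv']
    simp only [Finset.sum_apply, Pi.smul_apply, smul_eq_mul, map_sum, map_mul]
    refine Finset.sum_eq_zero fun j _ => ?_
    rw [show Ideal.Quotient.mk m (b.repr (f v) j) = 0 from congrFun hv j, zero_mul]
  let T : Set (Fin n → R ⧸ m) := Set.range fun y => c (s y)
  have hspan : ⊤ ≤ Submodule.span (R ⧸ m) (Set.range u ∪ T) := by
    rintro x -
    choose x' hx' using fun i => Ideal.Quotient.mk_surjective (I := m) (x i)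
    let a : M := ∑ i, x' i • b i
    have hxa : x = c a := by
      funext i
      simp only [a, c, b.repr_sum_self]
      exact (hx' i).symm
    rw [hxa, show a = f (rr a) + s (g a) by rw [hfr, sub_add_cancel], c_add]
    refine add_mem ?_ (Submodule.subset_span (Or.inr ⟨_, rfl⟩))
    change cL _ ∈ _
    rw [← (Pi.basisFun R (Fin r)).sum_repr (rr a)]
    simp only [map_sum, map_smul]
    refine sum_mem fun l _ => ?_
    change c (_ • _) ∈ _
    rw [c_smul]
    exact Submodule.smul_mem _ _ (Submodule.subset_span (Or.inl ⟨l, rfl⟩))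
  obtain ⟨w, hwT, hdet⟩ := exists_det_ne_zero h u hu T hspan
  choose y hy using hwT
  refine ⟨y, fun hmem => hdet ?_⟩
  have key : Matrix.of (Fin.append u w ∘ Fin.cast h.symm) =
      (π.mapMatrix (b.toMatrix (Fin.append (f ∘ Pi.basisFun R (Fin r)) (s ∘ y) ∘
        Fin.cast h.symm))).transpose := by
    have happ : Fin.append u w ∘ Fin.cast h.symm =
        fun i => c ((Fin.append (f ∘ Pi.basisFun R (Fin r)) (s ∘ y) ∘ Fin.cast h.symm) i) := by
      funext i
      simp only [Function.comp_apply]
      refine Fin.addCases (fun l => ?_) (fun l => ?_) (Fin.cast h.symm i)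
      · simp [u]
      · simp [← hy l]
    ext i j
    rw [happ]
    simp [Module.Basis.toMatrix_apply, c]
  rw [key, Matrix.det_transpose, ← RingHom.map_det]
  exact Ideal.Quotient.eq_zero_iff_mem.mpr hmem

open Groth.KTheory.ExtFilt in
/-- In a short exact sequence `0 → R^r → M → M'' → 0` with `M` free of rank `r + q` and `M''`
projective, `⋀^q M''` is free of rank one. -/
theorem nonempty_extPow_equiv (h : r + q = n) (b : Module.Basis (Fin n) R M)
    (f : (Fin r → R) →ₗ[R] M) (g : M →ₗ[R] M'') (hf : Function.Injective f)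
    (hfg : Function.Exact f g) (hg : Function.Surjective g) [Module.Projective R M''] :
    Nonempty ((⋀[R]^q M'') ≃ₗ[R] R) := by
  obtain ⟨rr, s, hr, hs, hfr⟩ := exists_splitting hf hfg hg
  let w0 : ⋀[R]^r (Fin r → R) := ιMulti R r (Pi.basisFun R (Fin r))
  let Φ : (⋀[R]^q M'') →ₗ[R] R := (topEquiv b).toLinearMap ∘ₗ mu f h ∘ₗ
    (TensorProduct.mk R (⋀[R]^r (Fin r → R)) (⋀[R]^q M) w0) ∘ₗ exteriorPower.map q s
  have hinj : Function.Injective Φ := by
    rw [← LinearMap.ker_eq_bot, LinearMap.ker_eq_bot']
    intro x hx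
    have h0 : mu f h (w0 ⊗ₜ exteriorPower.map q s x) = 0 :=
      (topEquiv b).map_eq_zero_iff.mp hx
    have h1 := congrArg (psi g rr h) h0
    rw [psi_mu rr hr (comp_eq_zero hfg) h, map_zero, pi_tmul, ← LinearMap.comp_apply,
      ← exteriorPower.map_comp, hs, exteriorPower.map_id, LinearMap.id_apply] at h1
    have h2 := congrArg (TensorProduct.lift ((LinearMap.lsmul R (⋀[R]^q M'')).comp
      (topEquiv (Pi.basisFun R (Fin r))).toLinearMap)) h1
    rw [TensorProduct.lift.tmul, LinearMap.comp_apply, LinearEquiv.coe_coe, topEquiv_ιMulti,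
      Module.Basis.det_self, map_zero, LinearMap.lsmul_apply, one_smul] at h2
    exact h2
  have hsurj : Function.Surjective Φ := by
    rw [← LinearMap.range_eq_top]
    by_contra hne
    obtain ⟨m, hm, hle⟩ := Ideal.exists_le_maximal (LinearMap.range Φ) hne
    obtain ⟨w, hw⟩ := exists_det_notMem h b f g rr s hr hfr m
    refine hw (hle ⟨ιMulti R q w, ?_⟩)
    simp only [Φ, w0, LinearMap.comp_apply, map_apply_ιMulti, TensorProduct.mk_apply,
      LinearEquiv.coe_coe]
    rw [mu_wedge, topEquiv_ιMulti]
  exact ⟨LinearEquiv.ofBijective Φ ⟨hinj, hsurj⟩⟩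

end Groth.Calg6.TopExt
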