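import Mathlib.RingTheory.Smooth.Basic
import Mathlib.RingTheory.Kaehler.Polynomial
import Mathlib.RingTheory.Ideal.Cotangent
import Mathlib.LinearAlgebra.TensorProduct.Basis
import Groth.Agent.Calg6.TopExt

/-!
# The top exterior power of differentials of a smooth complete intersection is trivial
-/

set_option autoImplicit false
universe u

open TensorProduct KaehlerDifferential

namespace Groth.Calg6.CanonicalModule

variable {A P B : Type u} [CommRing A] [CommRing P] [CommRing B] [Algebra A P] [Algebra P B]
  [Algebra A B] [IsScalarTower A P B]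

/-- If `B = P/(F)` is formally smooth over `A`, `Ω_{P/A}` is free of rank `r + q` and the classes
of `F` are independent in the conormal module, then `⋀^q Ω_{B/A}` is free of rank one. -/
theorem nonempty_extPow_kaehler_equiv {n r q : ℕ} (h : r + q = n)
    (hsurj : Function.Surjective (algebraMap P B)) [Algebra.FormallySmooth A B]
    [Algebra.FormallySmooth A P]
    (bΩ : Module.Basis (Fin n) P (Ω[P⁄A])) (F : Fin r → P)
    (hF : Ideal.span (Set.range F) = RingHom.ker (algebraMap P B))
    (hrel : ∀ c : Fin r → P, ∑ i, c i * F i ∈ RingHom.ker (algebraMap P B) ^ 2 →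
      ∀ i, c i ∈ RingHom.ker (algebraMap P B)) :
    Nonempty ((⋀[B]^q (Ω[B⁄A])) ≃ₗ[B] B) := by
  let f : (Fin r → B) →ₗ[B] B ⊗[P] Ω[P⁄A] :=
    Fintype.linearCombination B fun i => (1 : B) ⊗ₜ D A P (F i)
  have hmemF : ∀ i, F i ∈ RingHom.ker (algebraMap P B) := fun i =>
    hF.le (Ideal.subset_span ⟨i, rfl⟩)
  -- the value of `f` on a lifted vector
  have hf_apply : ∀ c : Fin r → P, f (fun i => algebraMap P B (c i)) =
      kerCotangentToTensor A P B ((RingHom.ker (algebraMap P B)).toCotangent
        ⟨∑ i, c i * F i, sum_mem fun i _ => Ideal.mul_mem_left _ _ (hmemF i)⟩) := by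
    intro c
    rw [show (⟨∑ i, c i * F i, _⟩ : RingHom.ker (algebraMap P B)) =
        ∑ i, c i • (⟨F i, hmemF i⟩ : RingHom.ker (algebraMap P B)) from Subtype.ext (by simp)]
    simp only [map_sum, map_smul, kerCotangentToTensor_toCotangent, f,
      Fintype.linearCombination_apply, algebraMap_smul]
  have hlift : ∀ v : Fin r → B, ∃ c : Fin r → P, v = fun i => algebraMap P B (c i) := fun v => by
    choose c hc using fun i => hsurj (v i)
    exact ⟨c, funext fun i => (hc i).symm⟩
  obtain ⟨l, hl⟩ := (Algebra.FormallySmooth.iff_split_injection (R := A) hsurj).mp inferInstance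
  have hinj : Function.Injective f := by
    rw [← LinearMap.ker_eq_bot, LinearMap.ker_eq_bot']
    intro v hv
    obtain ⟨c, rfl⟩ := hlift v
    rw [hf_apply] at hv
    have h2 := congrArg l hv
    rw [← LinearMap.comp_apply, hl, LinearMap.id_apply, map_zero, Ideal.toCotangent_eq_zero] at h2
    funext i
    exact RingHom.mem_ker.mp (hrel c h2 i)
  have hexact : Function.Exact f (mapBaseChange A P B) := by
    intro y
    rw [exact_kerCotangentToTensor_mapBaseChange A P B hsurj y]
    constructor
    · rintro ⟨x, rfl⟩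
      obtain ⟨⟨z, hz⟩, rfl⟩ := Ideal.toCotangent_surjective _ x
      obtain ⟨c, hc⟩ := Submodule.mem_span_range_iff_exists_fun P |>.mp (hF.ge hz)
      refine ⟨fun i => algebraMap P B (c i), ?_⟩
      rw [hf_apply]
      congr 2
      exact Subtype.ext hc
    · rintro ⟨v, rfl⟩
      obtain ⟨c, rfl⟩ := hlift v
      exact ⟨_, (hf_apply c).symm⟩
  exact Groth.Calg6.TopExt.nonempty_extPow_equiv h (bΩ.baseChange B) f
    (mapBaseChange A P B) hinj hexact (mapBaseChange_surjective A P B hsurj)

end Groth.Calg6.CanonicalModule
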