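import Groth.Agent.FibreDim.DimensionFormula
import Groth.Agent.Calg1.CatenaryLocal

/-! The dimension formula when the relevant local rings of subalgebras of a polynomial ring are catenary. -/

set_option autoImplicit false
universe u

namespace Groth.Calg6.CatFormula

open Groth.SitesTopoi in
/-- Additivity of heights needs catenarity above the prime only. -/
theorem height_quotient_add_of_le {P B : Type u} [CommRing P] [IsDomain P] [CommRing B] [IsDomain B]
    (g : P →+* B) (hg : Function.Surjective g) (q : Ideal B) [q.IsPrime]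
    (M : Submonoid P) (L : Type u) [CommRing L] [Algebra P L] [IsLocalization M L]
    (hd : Disjoint (M : Set P) (q.comap g : Ideal P)) (hcat : CAlg.IsCatenary L) :
    q.height + (RingHom.ker g).height = (q.comap g).height := by
  haveI : (RingHom.ker g).IsPrime := RingHom.ker_isPrime g
  let e : PrimeSpectrum B ↪o PrimeSpectrum P :=
    OrderEmbedding.ofMapLEIff (PrimeSpectrum.comap g) fun a b =>
      ⟨fun h => (Ideal.comap_le_comap_iff_of_surjective g hg _ _).1 h, fun h => Ideal.comap_mono h⟩
  have he : (Set.range e).OrdConnected := by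
    show (Set.range (PrimeSpectrum.comap g)).OrdConnected
    rw [range_comap_of_surjective _ _ hg]
    exact ⟨fun a ha b _ c hc x hx => hc.1 (ha hx)⟩
  let Q : PrimeSpectrum P := ⟨RingHom.ker g, inferInstance⟩
  have hQ : Q = e ⊥ := PrimeSpectrum.ext (RingHom.ker_eq_comap_bot g)
  let q' : PrimeSpectrum B := ⟨q, inferInstance⟩
  have hle : Q ≤ e q' := by rw [hQ]; exact e.monotone bot_le
  let f := Groth.Calg1.localizationEmbedding M L
  have hf : (Set.range f).OrdConnected := Groth.Calg1.ordConnected_localizationEmbedding M L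
  have hmem : ∀ x : PrimeSpectrum P, x ≤ e q' → ∃ a, f a = x := fun x hx => by
    show x ∈ Set.range f
    rw [Groth.Calg1.range_localizationEmbedding]
    exact hd.mono_right (fun a ha => hx ha)
  obtain ⟨a, ha⟩ := hmem ⊥ bot_le
  obtain ⟨b, hb⟩ := hmem Q hle
  obtain ⟨c, hc⟩ := hmem (e q') le_rfl
  have hab : a ≤ b := f.le_iff_le.mp (by rw [ha]; exact bot_le)
  have hbc : b ≤ c := f.le_iff_le.mp (by rw [hb, hc]; exact hle)
  have hadd := (catenary_iff_additive.1 (Groth.PropsBasic.Cat.catAt_iff_catOrd.2 hcat)).2 a b c hab hbc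
  rw [← Groth.FibreDim.chainCodim_map f hf a c, ← Groth.FibreDim.chainCodim_map f hf a b,
    ← Groth.FibreDim.chainCodim_map f hf b c, ha, hb, hc] at hadd
  have h1 : q.height = chainCodim Q (e q') := by
    rw [hQ, Groth.FibreDim.chainCodim_map e he, ← Groth.FibreDim.height_eq_chainCodim q']
  have h2 : (RingHom.ker g).height = chainCodim ⊥ Q := Groth.FibreDim.height_eq_chainCodim Q
  have h3 : (q.comap g).height = chainCodim ⊥ (e q') := Groth.FibreDim.height_eq_chainCodim (e q')
  rw [h1, h2, h3, hadd, add_comm]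

/-- The dimension formula for a presentation which is catenary above the prime. -/
theorem exists_eq_of_catenary {C : Type u} [CommRing C] [IsDomain C] [IsNoetherianRing C]
    {D : Type u} [CommRing D] [IsDomain D] [Algebra C D] [FaithfulSMul C D] {n : ℕ}
    (g : MvPolynomial (Fin n) C →ₐ[C] D) (hg : Function.Surjective g)
    (p : Ideal C) [p.IsPrime] (q : Ideal D) [q.IsPrime] [q.LiesOver p]
    (M : Submonoid (MvPolynomial (Fin n) C)) (L : Type u) [CommRing L]
    [Algebra (MvPolynomial (Fin n) C) L] [IsLocalization M L]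
    (hd : Disjoint (M : Set (MvPolynomial (Fin n) C)) (q.comap g.toRingHom : Ideal _))
    (hcat : CAlg.IsCatenary L) :
    ∃ t t₀ : ℕ, Algebra.trdeg (C ⧸ p) (D ⧸ q) = t ∧ Algebra.trdeg C D = t₀ ∧
      q.height + t = p.height + t₀ := by
  haveI : (RingHom.ker g).IsPrime := RingHom.ker_isPrime g
  haveI : (q.comap g.toRingHom).LiesOver p := ⟨by
    rw [q.over_def p]; ext r
    show algebraMap C D r ∈ q ↔ g (algebraMap C (MvPolynomial (Fin n) C) r) ∈ q
    rw [g.commutes]⟩
  obtain ⟨t, ht, hteq⟩ := Groth.FibreDim.exists_trdeg_mvPolynomial n p (q.comap g.toRingHom)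
  have hker : ∀ r : C, MvPolynomial.C r ∈ RingHom.ker g → r = 0 := fun r hr => by
    have h : g (algebraMap C (MvPolynomial (Fin n) C) r) = 0 := hr
    rwa [g.commutes, map_eq_zero_iff _ (FaithfulSMul.algebraMap_injective C D)] at h
  obtain ⟨t₀, ht₀, ht₀eq⟩ := Groth.FibreDim.exists_trdeg_mvPolynomial_zero n (RingHom.ker g) hker
  refine ⟨t, t₀, ?_, ?_, ?_⟩
  · rw [← ht]
    let e : ((MvPolynomial (Fin n) C) ⧸ q.comap g.toRingHom) →ₐ[C ⧸ p] (D ⧸ q) :=
      ⟨Ideal.quotientMap q g.toRingHom le_rfl, fun x => by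
        obtain ⟨r, rfl⟩ := Ideal.Quotient.mk_surjective x
        exact congrArg (Ideal.Quotient.mk q) (g.commutes r)⟩
    exact ((AlgEquiv.ofBijective e ⟨Ideal.quotientMap_injective,
      Ideal.quotientMap_surjective (H := le_rfl) hg⟩).trdeg_eq).symm
  · rw [← ht₀]
    exact ((Ideal.quotientKerAlgEquivOfSurjective hg).trdeg_eq).symm
  · have heq := height_quotient_add_of_le g.toRingHom hg q M L hd hcat
    obtain ⟨hp, hhp⟩ := ENat.ne_top_iff_exists.1 (Ideal.height_ne_top_of_isPrime (I := p))
    obtain ⟨hq, hhq⟩ := ENat.ne_top_iff_exists.1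
      (Ideal.height_ne_top_of_isPrime (I := q.comap g.toRingHom))
    obtain ⟨hK, hhK⟩ := ENat.ne_top_iff_exists.1 (Ideal.height_ne_top_of_isPrime (I := RingHom.ker g))
    haveI : IsNoetherianRing D := isNoetherianRing_of_surjective _ _ g.toRingHom hg
    obtain ⟨hs, hhs⟩ := ENat.ne_top_iff_exists.1 (Ideal.height_ne_top_of_isPrime (I := q))
    rw [← hhp, ← hhq] at hteq
    rw [← hhK] at ht₀eq
    have hkk : (RingHom.ker g.toRingHom).height = (hK : ℕ∞) := hhK.symm
    rw [← hhs, hkk, ← hhq] at heq
    rw [← hhs, ← hhp]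
    norm_cast at hteq ht₀eq heq ⊢
    omega

variable {R : Type u} [CommRing R] [IsDomain R] [IsNoetherianRing R]
variable {S : Type u} [CommRing S] [IsDomain S] [Algebra R S] [FaithfulSMul R S]
variable (m : Ideal R) [m.IsMaximal] (q : Ideal S) [q.IsPrime] [q.LiesOver m]

instance liesOver_comap_val (D : Subalgebra R S) : (q.comap D.val).LiesOver m := by
  refine ⟨?_⟩
  rw [q.over_def m]
  ext r
  show algebraMap R S r ∈ q ↔ D.val (algebraMap R D r) ∈ q
  rw [AlgHom.commutes]

set_option synthInstance.maxHeartbeats 200000 in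
/-- The formula for a finitely generated subalgebra. -/
theorem formula_adjoin
    (hcat : ∀ A' : Subalgebra R (Polynomial S), A'.FG →
      ∀ (m' : Ideal A') [m'.IsMaximal], m'.LiesOver m → CAlg.IsCatenary (Localization.AtPrime m'))
    (E : Finset S) :
    ∃ t t₀ : ℕ, Algebra.trdeg (R ⧸ m)
        (Algebra.adjoin R (E : Set S) ⧸ q.comap (Algebra.adjoin R (E : Set S)).val) = t ∧
      Algebra.trdeg R (Algebra.adjoin R (E : Set S)) = t₀ ∧
      (q.comap (Algebra.adjoin R (E : Set S)).val).height + t = m.height + t₀ := by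
  classical
  induction E using Finset.induction with
  | empty =>
    set D := Algebra.adjoin R ((∅ : Finset S) : Set S) with hD
    have hsurj : Function.Surjective (algebraMap R D) := by
      rintro ⟨y, hy⟩
      rw [hD, Finset.coe_empty, Algebra.adjoin_empty, Algebra.mem_bot] at hy
      obtain ⟨r, rfl⟩ := hy
      exact ⟨r, rfl⟩
    have hinj : Function.Injective (algebraMap R D) := fun a b h =>
      FaithfulSMul.algebraMap_injective R S (congrArg Subtype.val h)
    let e : R ≃+* D := RingEquiv.ofBijective (algebraMap R D) ⟨hinj, hsurj⟩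
    have hm : m.map e = q.comap D.val := by
      ext y
      obtain ⟨r, rfl⟩ := hsurj y
      rw [← Ideal.comap_symm, Ideal.mem_comap, show e.symm (algebraMap R D r) = r from e.symm_apply_apply r,
        q.over_def m]
      show _ ↔ D.val (algebraMap R D r) ∈ q
      rw [AlgHom.commutes]; rfl
    haveI : Algebra.IsAlgebraic R D := ⟨fun y => by
      obtain ⟨r, rfl⟩ := hsurj y
      exact isAlgebraic_algebraMap r⟩
    haveI : Algebra.IsAlgebraic (R ⧸ m) (D ⧸ q.comap D.val) := ⟨fun y => by
      obtain ⟨y, rfl⟩ := Ideal.Quotient.mk_surjective y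
      obtain ⟨r, rfl⟩ := hsurj y
      exact isAlgebraic_algebraMap (Ideal.Quotient.mk m r)⟩
    refine ⟨0, 0, by rw [trdeg_eq_zero]; rfl, by rw [trdeg_eq_zero]; rfl, ?_⟩
    rw [← hm]
    exact congrArg (· + ((0 : ℕ) : ℕ∞)) (e.height_map m)
  | @insert x E hx ih =>
    obtain ⟨t, t₀, ht, ht₀, heq⟩ := ih
    set C := Algebra.adjoin R (E : Set S) with hC
    set D := Algebra.adjoin R ((insert x E : Finset S) : Set S) with hD
    have hCD : C ≤ D := Algebra.adjoin_mono (by simp)
    letI : Algebra C D := (Subalgebra.inclusion hCD).toRingHom.toAlgebra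
    haveI : IsScalarTower R C D := IsScalarTower.of_algebraMap_eq fun a => rfl
    haveI : FaithfulSMul C D := (faithfulSMul_iff_algebraMap_injective _ _).mpr (Subalgebra.inclusion_injective hCD)
    haveI : FaithfulSMul R C := (faithfulSMul_iff_algebraMap_injective _ _).mpr fun a b h =>
      FaithfulSMul.algebraMap_injective R S (congrArg Subtype.val h)
    haveI : IsNoetherianRing C := isNoetherianRing_of_fg ⟨E, rfl⟩
    haveI : (q.comap D.val).LiesOver (q.comap C.val) := ⟨rfl⟩
    let x' : D := ⟨x, Algebra.subset_adjoin (by simp)⟩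
    let g : MvPolynomial (Fin 1) C →ₐ[C] D := MvPolynomial.aeval fun _ => x'
    have hg : Function.Surjective g := by
      rintro ⟨y, hy⟩
      induction hy using Algebra.adjoin_induction with
      | mem y hy =>
        rcases Finset.mem_insert.mp (Finset.mem_coe.mp hy) with rfl | hyE
        · exact ⟨MvPolynomial.X 0, by simp [g, x']⟩
        · exact ⟨MvPolynomial.C ⟨y, Algebra.subset_adjoin hyE⟩, by simp [g]; rfl⟩
      | algebraMap r => exact ⟨algebraMap C _ (algebraMap R C r), by rw [AlgHom.commutes]; rfl⟩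
      | add a b _ _ ha hb =>
        obtain ⟨p₁, hp₁⟩ := ha
        obtain ⟨p₂, hp₂⟩ := hb
        exact ⟨p₁ + p₂, by rw [map_add, hp₁, hp₂]; rfl⟩
      | mul a b _ _ ha hb =>
        obtain ⟨p₁, hp₁⟩ := ha
        obtain ⟨p₂, hp₂⟩ := hb
        exact ⟨p₁ * p₂, by rw [map_mul, hp₁, hp₂]; rfl⟩
    -- the polynomial ring sits inside `S[T]`
    let ψ : MvPolynomial (Fin 1) C →ₐ[R] Polynomial S :=
      (MvPolynomial.aeval fun _ => (Polynomial.X : Polynomial S) :
        MvPolynomial (Fin 1) C →ₐ[C] Polynomial S).restrictScalars R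
    have hψ : Function.Injective ψ := by
      have hX : Transcendental C (Polynomial.X : Polynomial S) := by
        rintro ⟨f, hf0, hf⟩
        refine hf0 (Polynomial.map_injective (algebraMap C S) Subtype.val_injective ?_)
        rw [Polynomial.map_zero, ← hf, ← Polynomial.aeval_map_algebraMap S, Polynomial.aeval_X_left_apply]
      have hind : AlgebraicIndependent C (fun _ : Fin 1 => (Polynomial.X : Polynomial S)) :=
        algebraicIndependent_unique_type_iff.mpr hX
      exact hind
    haveI : Algebra.FiniteType R C := C.fg_iff_finiteType.mp ⟨E, rfl⟩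
    haveI : Algebra.FiniteType R (MvPolynomial (Fin 1) C) := Algebra.FiniteType.trans (S := C) inferInstance inferInstance
    have hFG : ψ.range.FG :=
      ψ.range.fg_iff_finiteType.mpr (Algebra.FiniteType.of_surjective ψ.rangeRestrict ψ.rangeRestrict_surjective)
    let e : MvPolynomial (Fin 1) C ≃ₐ[R] ψ.range := AlgEquiv.ofInjective ψ hψ
    set Q := (q.comap D.val).comap g.toRingHom with hQ
    haveI hQ' : (Q.comap e.symm.toRingHom).IsPrime := inferInstance
    obtain ⟨m', hm', hle⟩ := (Q.comap e.symm.toRingHom).exists_le_maximal hQ'.ne_top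
    haveI := hm'
    have hover : m'.LiesOver m := by
      refine ⟨Ideal.IsMaximal.eq_of_le inferInstance (Ideal.IsPrime.ne_top inferInstance) fun r hr => ?_⟩
      refine hle ?_
      show g (e.symm (algebraMap R _ r)) ∈ q.comap D.val
      rw [AlgEquiv.commutes, IsScalarTower.algebraMap_apply R C (MvPolynomial (Fin 1) C), AlgHom.commutes,
        ← IsScalarTower.algebraMap_apply R C D]
      rw [Ideal.LiesOver.over (P := q.comap D.val) (p := m)] at hr
      exact hr
    have hc := hcat _ hFG m' hover
    haveI hp'' : (m'.comap e.toRingHom).IsPrime := inferInstance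
    have hc' : CAlg.IsCatenary (Localization.AtPrime (m'.comap e.toRingHom)) := by
      refine Groth.Calg1.isCatenary_of_surjective
        (IsLocalization.ringEquivOfRingEquiv (M := m'.primeCompl) (T := (m'.comap e.toRingHom).primeCompl)
          (Localization.AtPrime m') (Localization.AtPrime (m'.comap e.toRingHom))
          e.symm.toRingEquiv ?_).toRingHom (RingEquiv.surjective _) hc
      ext y
      refine ⟨?_, fun hy => ⟨e y, hy, e.symm_apply_apply y⟩⟩
      rintro ⟨z, hz, rfl⟩ hmem
      exact hz (by simpa using hmem)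
    obtain ⟨s, s₀, hs, hs₀, heq'⟩ := exists_eq_of_catenary g hg (q.comap C.val) (q.comap D.val)
      (m'.comap e.toRingHom).primeCompl (Localization.AtPrime (m'.comap e.toRingHom))
      (Set.disjoint_compl_left_iff_subset.mpr fun y hy => hle (by
        show e.symm (e y) ∈ Q
        rw [e.symm_apply_apply]; exact hy)) hc'
    refine ⟨t + s, t₀ + s₀, ?_, ?_, ?_⟩
    · haveI : IsScalarTower (R ⧸ m) (C ⧸ q.comap C.val) (D ⧸ q.comap D.val) :=
        IsScalarTower.of_algebraMap_eq fun r => by
          obtain ⟨r, rfl⟩ := Ideal.Quotient.mk_surjective r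
          rfl
      rw [Nat.cast_add, ← ht, ← hs, trdeg_add_eq]
    · rw [Nat.cast_add, ← ht₀, ← hs₀, trdeg_add_eq]
    · push_cast
      calc (q.comap D.val).height + ((t : ℕ∞) + s)
          = ((q.comap D.val).height + s) + t := by ring
        _ = ((q.comap C.val).height + s₀) + t := by rw [heq']
        _ = ((q.comap C.val).height + t) + s₀ := by ring
        _ = (m.height + t₀) + s₀ := by rw [heq]
        _ = _ := by ring

/-- The dimension formula. -/
theorem formula [Algebra.FiniteType R S]
    (hcat : ∀ A' : Subalgebra R (Polynomial S), A'.FG →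
      ∀ (m' : Ideal A') [m'.IsMaximal], m'.LiesOver m → CAlg.IsCatenary (Localization.AtPrime m')) :
    ∃ t t₀ : ℕ, Algebra.trdeg (R ⧸ m) (S ⧸ q) = t ∧ Algebra.trdeg R S = t₀ ∧
      q.height + t = m.height + t₀ := by
  obtain ⟨E, hE⟩ := Algebra.FiniteType.out (R := R) (A := S)
  obtain ⟨t, t₀, ht, ht₀, heq⟩ := formula_adjoin m q hcat E
  let D := Algebra.adjoin R (E : Set S)
  let e : D ≃ₐ[R] S := (Subalgebra.equivOfEq D ⊤ hE).trans Subalgebra.topEquiv
  let eq' : (D ⧸ q.comap D.val) ≃ₐ[R ⧸ m] (S ⧸ q) :=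
    AlgEquiv.ofBijective
      ⟨Ideal.quotientMap q (D.val : D →+* S) le_rfl, fun r => by
        obtain ⟨r, rfl⟩ := Ideal.Quotient.mk_surjective r
        exact congrArg (Ideal.Quotient.mk q) (D.val.commutes r)⟩
      ⟨Ideal.quotientMap_injective, Ideal.quotientMap_surjective (H := le_rfl) e.surjective⟩
  refine ⟨t, t₀, eq'.trdeg_eq.symm.trans ht, e.trdeg_eq.symm.trans ht₀, ?_⟩
  rw [← heq, ← e.toRingEquiv.height_map (q.comap D.val)]
  congr 2
  ext y
  obtain ⟨y, rfl⟩ := e.surjective y
  rw [← Ideal.comap_symm, Ideal.mem_comap]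
  show e.symm (e y) ∈ q.comap D.val ↔ _
  rw [e.symm_apply_apply]; rfl

end Groth.Calg6.CatFormula
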