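import Groth.Prelude.Def_IntMult
import Groth.Agent.HTopHyper.HTor.Balance
import Groth.Agent.Calg6.TorAcyclic
import Mathlib.RingTheory.LocalRing.Length
import Mathlib.RingTheory.Flat.Equalizer
import Mathlib.RingTheory.Flat.Stability
import Mathlib.LinearAlgebra.TensorProduct.Tower

/-!
The intersection number under flat local base change.
-/

set_option autoImplicit false
set_option backward.isDefEq.respectTransparency false

universe u

open TensorProduct IsLocalRing

namespace Groth.Calg6.ChiBaseChange

variable (A : Type u) [CommRing A] (A' : Type u) [CommRing A'] [Algebra A A'] [Module.Flat A A']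

/-- Kernels commute with flat base change. -/
theorem exists_ker_equiv {K F : Type u} [AddCommGroup K] [Module A K] [AddCommGroup F] [Module A F]
    (v : K →ₗ[A] F) (N : Type u) [AddCommGroup N] [Module A N] :
    Nonempty (LinearMap.ker ((v.baseChange A').rTensor (A' ⊗[A] N)) ≃ₗ[A']
      A' ⊗[A] LinearMap.ker (v.rTensor N)) := by
  let e : ∀ (P : Type u) [AddCommGroup P] [Module A P],
      (A' ⊗[A] P) ⊗[A'] (A' ⊗[A] N) ≃ₗ[A'] A' ⊗[A] (P ⊗[A] N) := fun P _ _ =>
    (AlgebraTensorModule.distribBaseChange A A' P N).symm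
  have hnat : ∀ z, e F ((v.baseChange A').rTensor (A' ⊗[A] N) z) = (v.rTensor N).baseChange A' (e K z) := fun z => by
    obtain ⟨w, rfl⟩ := (e K).symm.surjective z
    rw [LinearEquiv.apply_symm_apply, ← LinearEquiv.eq_symm_apply]
    induction w using TensorProduct.induction_on with
    | zero => simp
    | add x y hx hy => simp only [map_add, hx, hy]
    | tmul a t =>
      induction t using TensorProduct.induction_on with
      | zero => simp
      | add x y hx hy => simp only [map_add, TensorProduct.tmul_add, hx, hy]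
      | tmul x y => simp [e]
  let e1 : LinearMap.ker ((v.baseChange A').rTensor (A' ⊗[A] N)) ≃ₗ[A']
      LinearMap.ker ((v.rTensor N).baseChange A') :=
    LinearEquiv.ofSubmodules (e K) _ _ (by
      ext z
      obtain ⟨z, rfl⟩ := (e K).surjective z
      rw [Submodule.mem_map_equiv, LinearEquiv.symm_apply_apply, LinearMap.mem_ker, LinearMap.mem_ker, ← hnat,
        LinearEquiv.map_eq_zero_iff])
  exact ⟨e1.trans (LinearMap.tensorKerEquiv A' A' (v.rTensor N)).symm⟩

variable [IsLocalRing A] [IsLocalRing A'] [IsLocalHom (algebraMap A A')] [IsNoetherianRing A]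

/-- Lengths of `Tor` under flat local base change. -/
theorem length_tor (N : Type u) [AddCommGroup N] [Module A N] : ∀ (i : ℕ) (M : Type u) [AddCommGroup M]
    [Module A M] [Module.Finite A M],
    Module.length A' (DRing.Tor A' i (A' ⊗[A] M) (A' ⊗[A] N)) =
      Module.length A (DRing.Tor A i M N) * Module.length A' (A' ⧸ (maximalIdeal A).map (algebraMap A A')) := by
  intro i
  induction i using Nat.strong_induction_on with
  | _ i ih =>
  intro M _ _ _
  obtain ⟨b, ρ, hρ⟩ := Module.Finite.exists_fin' A M
  haveI : Module.Finite A (LinearMap.ker ρ) := Module.Finite.iff_fg.2 (IsNoetherian.noetherian _)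
  have hv := (LinearMap.ker ρ).subtype_injective
  have hvρ : Function.Exact (LinearMap.ker ρ).subtype ρ := LinearMap.exact_subtype_ker_map ρ
  have hv' : Function.Injective ((LinearMap.ker ρ).subtype.baseChange A') :=
    Module.Flat.lTensor_preserves_injective_linearMap _ hv
  have hρ' : Function.Surjective (ρ.baseChange A') := LinearMap.lTensor_surjective A' hρ
  have hex' : Function.Exact ((LinearMap.ker ρ).subtype.baseChange A') (ρ.baseChange A') :=
    lTensor_exact A' hvρ hρ
  match i, ih with
  | 0, _ =>
    obtain ⟨e₁⟩ := Groth.HTorLib.tor_zero_equiv (A := A') (A' ⊗[A] M) (A' ⊗[A] N)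
    obtain ⟨e₂⟩ := Groth.HTorLib.tor_zero_equiv (A := A) M N
    rw [LinearEquiv.length_eq (R := A') (N := (A' ⊗[A] M) ⊗[A'] (A' ⊗[A] N)) e₁, e₂.length_eq,
      ← (AlgebraTensorModule.distribBaseChange A A' M N).length_eq,
      IsLocalRing.length_baseChange A A']
  | 1, _ =>
    obtain ⟨e₁⟩ := Groth.Calg6.TorAcyclic.tor_one hv' hρ' hex' (A' ⊗[A] N)
      (Groth.HTorLib.subsingleton_tor_of_flat_left _ _ 0)
    obtain ⟨e₂⟩ := Groth.Calg6.TorAcyclic.tor_one hv hρ hvρ N (Groth.HTorLib.subsingleton_tor_of_flat_left _ _ 0)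
    obtain ⟨e₃⟩ := exists_ker_equiv A A' (LinearMap.ker ρ).subtype N
    rw [((e₁.trans e₃).trans (e₂.symm.baseChange A A' _ _)).length_eq, IsLocalRing.length_baseChange A A']
  | p + 2, ih =>
    obtain ⟨e₁⟩ := Groth.HTorLib.tor_shift_left hv' hρ' hex' (A' ⊗[A] N) p
    obtain ⟨e₂⟩ := Groth.HTorLib.tor_shift_left hv hρ hvρ N p
    rw [e₁.length_eq, e₂.length_eq, ih (p + 1) (by omega) (LinearMap.ker ρ)]

/-- The intersection number under flat local base change. -/
theorem intMult_chi (M N : Type u) [AddCommGroup M] [Module A M] [Module.Finite A M] [AddCommGroup N]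
    [Module A N] :
    IntMult.chi A' (A' ⊗[A] M) (A' ⊗[A] N) =
      IntMult.chi A M N * ((Module.length A' (A' ⧸ (maximalIdeal A).map (algebraMap A A'))).toNat : ℤ) := by
  rw [IntMult.chi, IntMult.chi, finsum_mul]
  refine finsum_congr fun i => ?_
  rw [length_tor A A' N i M, ENat.toNat_mul, Nat.cast_mul, mul_assoc]

end Groth.Calg6.ChiBaseChange
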