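import Groth.Agent.MilnorKLambda.FinLen
import Groth.Agent.PropsBasic.TopPrimeCount
import Mathlib.RingTheory.Ideal.AssociatedPrime.Finiteness
import Mathlib.Algebra.BigOperators.Finprod

/-!
An additive function on finite modules is the sum over the top-dimensional primes of the support.
-/

set_option autoImplicit false

universe u

open Groth.MilnorKLambda.Per

namespace Groth.Calg6.DevissageSum

variable {A : Type u} [CommRing A] [IsNoetherianRing A] (D : PrimeSpectrum A → ℕ) (r : ℕ)
  (e : PrimeSpectrum A → ℤ)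

open Classical in
/-- The summand at a prime. -/
noncomputable def F (M : Type u) [AddCommGroup M] [Module A M] (p : PrimeSpectrum A) : ℤ :=
  if D p = r then ((lq p.asIdeal M).toNat : ℤ) * e p else 0

variable (hD : ∀ p q : PrimeSpectrum A, p < q → D q < D p)

omit [IsNoetherianRing A] in
include hD in
theorem minimal_of_top (M : Type u) [AddCommGroup M] [Module A M]
    (hle : ∀ q ∈ Module.support A M, D q ≤ r) (p : PrimeSpectrum A) (hp : p ∈ Module.support A M)
    (hdim : D p = r) : Minimal (fun q => q ∈ Module.support A M) p := by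
  refine ⟨hp, fun q hq hqp => ?_⟩
  by_contra hne
  have h1 := hD q p (lt_of_le_not_ge hqp hne)
  have h2 := hle q hq
  omega

include hD in
theorem finite_support (M : Type u) [AddCommGroup M] [Module A M] [Module.Finite A M]
    (hle : ∀ q ∈ Module.support A M, D q ≤ r) : (Function.support (F D r e M)).Finite := by
  refine ((Ideal.finite_minimalPrimes_of_isNoetherianRing A (Module.annihilator A M)).preimage
    (f := fun p : PrimeSpectrum A => p.asIdeal) (fun _ _ _ _ h => PrimeSpectrum.ext h)).subset fun p hp => ?_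
  simp only [Function.mem_support, F, ne_eq, ite_eq_right_iff, mul_eq_zero, not_forall, not_or] at hp
  obtain ⟨hdim, h1, -⟩ := hp
  have hmem : p ∈ Module.support A M := mem_support_of_lq_ne_zero p.asIdeal fun h => h1 (by rw [h]; simp)
  have hmin := minimal_of_top D r hD M hle p hmem hdim
  refine ⟨⟨p.isPrime, Module.mem_support_iff_of_finite.1 hmem⟩, fun J hJ hJp => ?_⟩
  exact hmin.2 (y := ⟨J, hJ.1⟩) (Module.mem_support_iff_of_finite.2 hJ.2) hJp

include hD in
theorem F_add {M N P : Type u} [AddCommGroup M] [Module A M] [AddCommGroup N] [Module A N] [AddCommGroup P]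
    [Module A P] [Module.Finite A N] (hle : ∀ q ∈ Module.support A N, D q ≤ r) {f : M →ₗ[A] N}
    {k : N →ₗ[A] P} (hf : Function.Injective f) (hk : Function.Surjective k) (h : Function.Exact f k)
    (p : PrimeSpectrum A) : F D r e N p = F D r e M p + F D r e P p := by
  by_cases hdim : D p = r
  · have hadd := lq_add p.asIdeal hf hk h
    simp only [F, if_pos hdim]
    by_cases hp : p ∈ Module.support A N
    · have hne := lq_ne_top (M := N) p.asIdeal (minimal_of_top D r hD N hle p hp hdim)
      rw [hadd] at hne ⊢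
      obtain ⟨ha, hb⟩ : lq p.asIdeal M ≠ ⊤ ∧ lq p.asIdeal P ≠ ⊤ :=
        ⟨fun h' => hne (by rw [h', top_add]), fun h' => hne (by rw [h', add_top])⟩
      rw [ENat.toNat_add ha hb]
      push_cast
      ring
    · have h0 := lq_eq_zero_of_notMem (M := N) p.asIdeal hp
      rw [h0, eq_comm, add_eq_zero] at hadd
      simp [h0, hadd.1, hadd.2]
  · simp [F, hdim]

include hD in
/-- An additive function is the sum over the top primes. -/
theorem eq_finsum (Q : PrimeSpectrum A → Prop)
    (φ : ∀ (M : Type u) [AddCommGroup M] [Module A M], ℤ)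
    (hcongr : ∀ (M N : Type u) [AddCommGroup M] [Module A M] [AddCommGroup N] [Module A N],
      (M ≃ₗ[A] N) → φ M = φ N)
    (hzero : ∀ (M : Type u) [AddCommGroup M] [Module A M] [Subsingleton M], φ M = 0)
    (hadd : ∀ (M₁ M₂ M₃ : Type u) [AddCommGroup M₁] [Module A M₁] [AddCommGroup M₂] [Module A M₂]
      [AddCommGroup M₃] [Module A M₃] [Module.Finite A M₂] (f : M₁ →ₗ[A] M₂) (g : M₂ →ₗ[A] M₃),
      (∀ p ∈ Module.support A M₂, D p ≤ r ∧ Q p) →
      Function.Injective f → Function.Surjective g → Function.Exact f g → φ M₂ = φ M₁ + φ M₃)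
    (hprime : ∀ p : PrimeSpectrum A, (∀ q ∈ Module.support A (A ⧸ p.asIdeal), D q ≤ r ∧ Q q) →
      φ (A ⧸ p.asIdeal) = if D p = r then e p else 0)
    (M : Type u) [AddCommGroup M] [Module A M] [Module.Finite A M]
    (hM : ∀ p ∈ Module.support A M, D p ≤ r ∧ Q p) : φ M = ∑ᶠ p, F D r e M p := by
  refine IsNoetherianRing.induction_on_isQuotientEquivQuotientPrime (A := A) (M := M) inferInstance
    (motive := fun N _ _ _ => (∀ p ∈ Module.support A N, D p ≤ r ∧ Q p) → φ N = ∑ᶠ p, F D r e N p)
    ?_ ?_ ?_ hM
  · intro N _ _ _ _ _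
    have h0 : ∀ p, F D r e N p = 0 := fun p => by
      have : lq p.asIdeal N = 0 := lq_eq_zero_of_notMem _ (by simp [Module.support_eq_empty])
      simp [F, this]
    simp only [h0, finsum_zero]
    exact hzero N
  · intro N _ _ _ p q hN
    rw [hcongr _ _ q]
    have hlq : ∀ t : PrimeSpectrum A, F D r e N t = F D r e (A ⧸ p.asIdeal) t := fun t => by
      simp only [F, lq_congr t.asIdeal q]
    simp only [hlq]
    have hs : ∀ t ∈ Module.support A (A ⧸ p.asIdeal), D t ≤ r ∧ Q t := fun t ht =>
      hN t (by rw [q.support_eq]; exact ht)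
    have hzero : ∀ t : PrimeSpectrum A, t ≠ p → F D r e (A ⧸ p.asIdeal) t = 0 := fun t ht => by
      by_cases hdim : D t = r
      · have : t ∉ Module.support A (A ⧸ p.asIdeal) := fun hmem => by
          have hle := Groth.TopPrimeCount.mem_support_quot.1 hmem
          have := (minimal_of_top D r hD (A ⧸ p.asIdeal) (fun x hx => (hs x hx).1) t hmem hdim).2 (y := p)
            (Groth.TopPrimeCount.mem_support_quot.2 le_rfl) hle
          exact ht (le_antisymm this hle)
        simp [F, lq_eq_zero_of_notMem t.asIdeal this]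
      · simp [F, hdim]
    rw [finsum_eq_single _ p hzero, hprime p hs]
    by_cases hdim : D p = r
    · simp only [F, if_pos hdim, lq_quot_self, ENat.toNat_one, Nat.cast_one, one_mul]
    · simp only [F, if_neg hdim]
  · intro N₁ _ _ _ N₂ _ _ _ N₃ _ _ _ f k hf hk hfk h₁ h₃ h2
    have hs1 : ∀ p ∈ Module.support A N₁, D p ≤ r ∧ Q p := fun p hp =>
      h2 p (Module.support_subset_of_injective f hf hp)
    have hs3 : ∀ p ∈ Module.support A N₃, D p ≤ r ∧ Q p := fun p hp =>
      h2 p (Module.support_subset_of_surjective k hk hp)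
    simp only [F_add D r e hD (fun x hx => (h2 x hx).1) hf hk hfk]
    rw [finsum_add_distrib (finite_support D r e hD N₁ fun x hx => (hs1 x hx).1)
      (finite_support D r e hD N₃ fun x hx => (hs3 x hx).1), hadd N₁ N₂ N₃ f k h2 hf hk hfk, h₁ hs1, h₃ hs3]

end Groth.Calg6.DevissageSum
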