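import Groth.Agent.Calg6.DiagDim

/-!
The dimension of `A/Q ⊗_k A/P` at the diagonal point is at most the expected one.
-/

set_option autoImplicit false
set_option backward.isDefEq.respectTransparency false

universe u

open TensorProduct IsLocalRing AlgebraicGeometry

namespace Groth.Calg6.Diag

/-- `dim (A ⊗ B)/p ≤ dim A + dim B`. -/
theorem dim_tensor_quotient_le (k : Type u) [Field k] (A B : Type u) [CommRing A] [CommRing B] [Algebra k A]
    [Algebra k B] [Algebra.FiniteType k A] [Algebra.FiniteType k B] (p : PrimeSpectrum (A ⊗[k] B)) :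
    ringKrullDim ((A ⊗[k] B) ⧸ p.asIdeal) ≤ ringKrullDim A + ringKrullDim B := by
  haveI := Groth.VarietyBC.ProjInter.finiteType_tensor k A B
  refine (Groth.FibreDim.ringKrullDim_quotient_le_localDim (k := k) p (p := p) le_rfl).trans ?_
  letI : (Spec (CommRingCat.of A)).Over (Spec (CommRingCat.of k)) :=
    ⟨Spec.map (CommRingCat.ofHom (algebraMap k A))⟩
  letI : (Spec (CommRingCat.of B)).Over (Spec (CommRingCat.of k)) :=
    ⟨Spec.map (CommRingCat.ofHom (algebraMap k B))⟩
  haveI : LocallyOfFiniteType ((Spec (CommRingCat.of A)) ↘ (Spec (CommRingCat.of k))) :=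
    (HasRingHomProperty.Spec_iff (P := @LocallyOfFiniteType)).mpr
      (RingHom.finiteType_algebraMap.mpr ‹_›)
  haveI : LocallyOfFiniteType ((Spec (CommRingCat.of B)) ↘ (Spec (CommRingCat.of k))) :=
    (HasRingHomProperty.Spec_iff (P := @LocallyOfFiniteType)).mpr
      (RingHom.finiteType_algebraMap.mpr ‹_›)
  have h := Groth.Agent.S7610.result k (Spec (CommRingCat.of A)) (Spec (CommRingCat.of B))
    ((pullbackSpecIso k A B).inv p)
  have he := Groth.FibreDim.localDim_eq_of_isOpenEmbedding
    (pullbackSpecIso k A B).inv.isOpenEmbedding p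
  refine ((he.trans h).le).trans (add_le_add ?_ ?_)
  · exact (Groth.SpectralTopology.localDim_le_dim _).trans
      (le_of_eq (PrimeSpectrum.topologicalKrullDim_eq_ringKrullDim A))
  · exact (Groth.SpectralTopology.localDim_le_dim _).trans
      (le_of_eq (PrimeSpectrum.topologicalKrullDim_eq_ringKrullDim B))

variable (k : Type u) [Field k] (A : Type u) [CommRing A] [Algebra k A] [IsLocalRing A]

omit [IsLocalRing A] in
/-- Primes of `A ⊗ A` are determined by their trace on `B ⊗ B`. -/
theorem exists_mul_mem_range {B : Type u} [CommRing B] [Algebra k B] [Algebra B A] [IsScalarTower k B A]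
    (M : Submonoid B) [IsLocalization M A] (c : A ⊗[k] A) :
    ∃ (y : B ⊗[k] B) (s : A ⊗[k] A), IsUnit s ∧
      s * c = Algebra.TensorProduct.map (IsScalarTower.toAlgHom k B A) (IsScalarTower.toAlgHom k B A) y ∧
      ∃ z, Algebra.TensorProduct.map (IsScalarTower.toAlgHom k B A) (IsScalarTower.toAlgHom k B A) z = s := by
  induction c using TensorProduct.induction_on with
  | zero => exact ⟨0, 1, isUnit_one, by simp, 1, map_one _⟩
  | add c c' hc hc' =>
    obtain ⟨y, s, hs, hy, z, hz⟩ := hc
    obtain ⟨y', s', hs', hy', z', hz'⟩ := hc'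
    refine ⟨y * z' + y' * z, s * s', hs.mul hs', ?_, z * z', by rw [map_mul, hz, hz']⟩
    rw [map_add, map_mul, map_mul, ← hy, ← hy', hz, hz']
    ring
  | tmul a a' =>
    obtain ⟨b, t, rfl⟩ := IsLocalization.exists_mk'_eq M a
    obtain ⟨b', t', rfl⟩ := IsLocalization.exists_mk'_eq M a'
    refine ⟨b ⊗ₜ b', algebraMap B A t ⊗ₜ[k] algebraMap B A t', ?_, ?_, (t : B) ⊗ₜ (t' : B), by simp⟩
    · have h1 := (IsLocalization.map_units A t).map
        (Algebra.TensorProduct.includeLeft : A →ₐ[k] A ⊗[k] A)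
      have h2 := (IsLocalization.map_units A t').map
        (Algebra.TensorProduct.includeRight : A →ₐ[k] A ⊗[k] A)
      simpa using h1.mul h2
    · rw [Algebra.TensorProduct.tmul_mul_tmul, mul_comm, IsLocalization.mk'_spec, mul_comm,
        IsLocalization.mk'_spec]
      simp

theorem algebraMap_smul_E {N M : Type u} [AddCommGroup N] [Module k N] [Module A N] [IsScalarTower k A N]
    [AddCommGroup M] [Module k M] [Module A M] [IsScalarTower k A M] (c : A ⊗[k] A)
    (h : ∀ (x : N) (y : M), c • (mkW x y : W k N M) = 0) (z : E k A N M) :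
    algebraMap (A ⊗[k] A) (Cq k A) c • z = 0 := by
  obtain ⟨z, rfl⟩ := (toE k A N M).surjective z
  rw [← map_smul]
  have hz : algebraMap (A ⊗[k] A) (Cq k A) c • z = 0 := by
    induction z using TensorProduct.induction_on with
    | zero => exact smul_zero _
    | add u v hu hv => rw [smul_add, hu, hv, add_zero]
    | tmul d w =>
      rw [algebraMap_smul, ← TensorProduct.tmul_smul]
      have hw : c • w = 0 := by
        induction w using W.induction with
        | h0 => exact smul_zero _
        | ha u v hu hv => rw [smul_add, hu, hv, add_zero]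
        | hm x y => exact h x y
      rw [hw, TensorProduct.tmul_zero]
  rw [hz, map_zero]

/-- The dimension of the support is at most the expected one. -/
theorem supportDim_E_le {B : Type u} [CommRing B] [Algebra k B] [Algebra.FiniteType k B] [Algebra B A]
    [IsScalarTower k B A] (m : Ideal B) [m.IsPrime] [IsLocalization.AtPrime A m] (P Q : Ideal B)
    [IsNoetherianRing A] {h a b e : ℕ} (hh : ringKrullDim (B ⧸ m) = h)
    (ha : ringKrullDim (B ⧸ Q) + ringKrullDim (B ⧸ P) ≤ ((a + b : ℕ) : WithBot ℕ∞)) (he : a + b ≤ h + e) :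
    Module.supportDim (Cq k A) (E k A (A ⧸ Q.map (algebraMap B A)) (A ⧸ P.map (algebraMap B A))) ≤
      (e : WithBot ℕ∞) := by
  haveI := finite_E' k A (A ⧸ Q.map (algebraMap B A)) (A ⧸ P.map (algebraMap B A))
  refine iSup_le fun l => ?_
  let φ : B ⊗[k] B →ₐ[k] A ⊗[k] A :=
    Algebra.TensorProduct.map (IsScalarTower.toAlgHom k B A) (IsScalarTower.toAlgHom k B A)
  let ψ : B ⊗[k] B →+* Cq k A := (algebraMap (A ⊗[k] A) (Cq k A)).comp φ.toRingHom
  have hinj : ∀ x y : PrimeSpectrum (Cq k A), PrimeSpectrum.comap ψ x = PrimeSpectrum.comap ψ y → x = y := by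
    intro x y hxy
    refine PrimeSpectrum.localization_comap_injective (Cq k A) (diagPt k A).primeCompl (PrimeSpectrum.ext ?_)
    ext c
    obtain ⟨w, s, hs, hw, -⟩ := exists_mul_mem_range k A m.primeCompl c
    have hsu := hs.map (algebraMap (A ⊗[k] A) (Cq k A))
    have h1 : ∀ z : PrimeSpectrum (Cq k A),
        c ∈ (PrimeSpectrum.comap (algebraMap (A ⊗[k] A) (Cq k A)) z).asIdeal ↔
          w ∈ (PrimeSpectrum.comap ψ z).asIdeal := fun z => by
      change algebraMap (A ⊗[k] A) (Cq k A) c ∈ z.asIdeal ↔ algebraMap (A ⊗[k] A) (Cq k A) (φ w) ∈ z.asIdeal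
      rw [← hw, map_mul, Ideal.unit_mul_mem_iff_mem _ hsu]
    rw [h1, h1, hxy]
  let L : LTSeries (PrimeSpectrum (B ⊗[k] B)) :=
    (l.map Subtype.val fun _ _ hlt => hlt).map (PrimeSpectrum.comap ψ) fun x y hxy =>
      lt_of_le_of_ne (Ideal.comap_mono hxy.le) fun h => hxy.ne (hinj x y h)
  set p₀ := L.head with hp₀
  let π := Algebra.TensorProduct.map (Ideal.Quotient.mkₐ k Q) (Ideal.Quotient.mkₐ k P)
  have hπ : Function.Surjective π :=
    Algebra.TensorProduct.map_surjective _ _ (Ideal.Quotient.mkₐ_surjective k Q) (Ideal.Quotient.mkₐ_surjective k P)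
  have hker : RingHom.ker π ≤ p₀.asIdeal := by
    have hk : ∀ I : Ideal B, RingHom.ker (Ideal.Quotient.mkₐ k I) = I := fun I => Ideal.mk_ker
    rw [Algebra.TensorProduct.map_ker _ _ (Ideal.Quotient.mkₐ_surjective k Q) (Ideal.Quotient.mkₐ_surjective k P),
      hk, hk, sup_le_iff, Ideal.map_le_iff_le_comap, Ideal.map_le_iff_le_comap]
    have hann : ∀ c, (∀ (x : A ⧸ Q.map (algebraMap B A)) (y : A ⧸ P.map (algebraMap B A)),
        c • (mkW x y : W k (A ⧸ Q.map (algebraMap B A)) (A ⧸ P.map (algebraMap B A))) = 0) →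
        algebraMap (A ⊗[k] A) (Cq k A) c ∈ l.head.1.asIdeal := fun c hc =>
      (Module.mem_support_iff_of_finite.1 l.head.2) (Module.mem_annihilator.2 (algebraMap_smul_E k A c hc))
    constructor
    · intro x hx
      have := hann (algebraMap B A x ⊗ₜ[k] 1) fun u v => by
        rw [tmul_smul_mkW, show algebraMap B A x • u = 0 by
          obtain ⟨u, rfl⟩ := Ideal.Quotient.mk_surjective u
          rw [Algebra.smul_def, Ideal.Quotient.algebraMap_eq, Ideal.Quotient.eq_zero_iff_mem.2
            (Ideal.mem_map_of_mem _ hx), zero_mul]]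
        exact mkW_zero_left _
      simpa [hp₀, L, ψ, φ] using this
    · intro x hx
      have := hann (1 ⊗ₜ[k] algebraMap B A x) fun u v => by
        rw [tmul_smul_mkW, show algebraMap B A x • v = 0 by
          obtain ⟨v, rfl⟩ := Ideal.Quotient.mk_surjective v
          rw [Algebra.smul_def, Ideal.Quotient.algebraMap_eq, Ideal.Quotient.eq_zero_iff_mem.2
            (Ideal.mem_map_of_mem _ hx), zero_mul]]
        exact mkW_zero_right _
      simpa [hp₀, L, ψ, φ] using this
  -- the domain
  let D := (B ⊗[k] B) ⧸ p₀.asIdeal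
  haveI hft := Groth.VarietyBC.ProjInter.finiteType_tensor k B B
  haveI : Algebra.FiniteType k D := hft.of_surjective (Ideal.Quotient.mkₐ k p₀.asIdeal) (Ideal.Quotient.mkₐ_surjective _ _)
  haveI : IsDomain D := Ideal.Quotient.isDomain p₀.asIdeal
  have hdimD : ringKrullDim D ≤ ((a + b : ℕ) : WithBot ℕ∞) := by
    let pT : PrimeSpectrum ((B ⧸ Q) ⊗[k] (B ⧸ P)) :=
      ⟨p₀.asIdeal.map π, Ideal.map_isPrime_of_surjective hπ hker⟩
    refine le_trans (le_of_eq ?_) ((dim_tensor_quotient_le k (B ⧸ Q) (B ⧸ P) pT).trans ha)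
    refine (ringKrullDim_eq_of_ringEquiv ((Ideal.quotEquivOfEq ?_).trans
      (RingHom.quotientKerEquivOfSurjective (f := (Ideal.Quotient.mk pT.asIdeal).comp π.toRingHom)
        (Ideal.Quotient.mk_surjective.comp hπ))))
    rw [← RingHom.comap_ker, Ideal.mk_ker]
    exact ((Ideal.comap_map_of_surjective π hπ p₀.asIdeal).trans (sup_eq_left.2 (by
      rw [← RingHom.ker_eq_comap_bot]; exact hker))).symm
  have hlast : ∀ c, c ∈ L.last.asIdeal → Algebra.TensorProduct.lmul' k c ∈ m := fun c hc => by
    have h1 : algebraMap (A ⊗[k] A) (Cq k A) (φ c) ∈ maximalIdeal (Cq k A) :=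
      IsLocalRing.le_maximalIdeal l.last.1.isPrime.ne_top (by simpa [L, ψ] using hc)
    rw [IsLocalization.AtPrime.to_map_mem_maximal_iff (Cq k A) (diagPt k A)] at h1
    rw [← IsLocalization.AtPrime.under_maximalIdeal A m]
    have e : ∀ c : B ⊗[k] B, algebraMap B A (Algebra.TensorProduct.lmul' k c) = Algebra.TensorProduct.lmul' k (φ c) :=
      fun c => by
        induction c using TensorProduct.induction_on with
        | zero => simp
        | add x y hx hy => simp only [map_add, hx, hy]
        | tmul u v => simp [φ]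
    change algebraMap B A (Algebra.TensorProduct.lmul' k c) ∈ maximalIdeal A
    rw [e]
    exact h1
  let ω : D →ₐ[k] B ⧸ m := Ideal.Quotient.liftₐ p₀.asIdeal ((Ideal.Quotient.mkₐ k m).comp (Algebra.TensorProduct.lmul' k))
    fun c hc => Ideal.Quotient.eq_zero_iff_mem.2 (hlast c (L.monotone (Fin.le_last _) hc))
  have hω : Function.Surjective ω := fun z => by
    obtain ⟨u, rfl⟩ := Ideal.Quotient.mk_surjective z
    exact ⟨Ideal.Quotient.mk _ (u ⊗ₜ[k] 1), by simp [ω, D]⟩
  let qD : PrimeSpectrum D := ⟨RingHom.ker ω, RingHom.ker_isPrime _⟩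
  have hht : Order.height qD ≤ (e : ℕ∞) := by
    have h1 := Groth.VarietyBC.ProjInter.dim_quotient_add_height k D qD
    rw [ringKrullDim_eq_of_ringEquiv (RingHom.quotientKerEquivOfSurjective (f := ω.toRingHom) hω),
      PrimeSpectrum.height_eq_orderHeight, hh] at h1
    have h2 := h1.le.trans hdimD
    generalize Order.height qD = t at h2 ⊢
    induction t using ENat.recTopCoe with
    | top =>
      change (((h : ℕ∞) + ⊤ : ℕ∞) : WithBot ℕ∞) ≤ (((a + b : ℕ) : ℕ∞) : WithBot ℕ∞) at h2
      rw [add_top, WithBot.coe_le_coe, top_le_iff] at h2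
      exact absurd h2 (ENat.coe_ne_top _)
    | coe t =>
      have h3 : ((h + t : ℕ) : WithBot ℕ∞) ≤ ((a + b : ℕ) : WithBot ℕ∞) := by exact_mod_cast h2
      have h4 : h + t ≤ a + b := by exact_mod_cast h3
      exact_mod_cast (by omega : t ≤ e)
  let Ls : LTSeries (PrimeSpectrum D) :=
    { length := L.length
      toFun := fun i => ⟨(L i).asIdeal.map (Ideal.Quotient.mk p₀.asIdeal),
        Ideal.map_isPrime_of_surjective Ideal.Quotient.mk_surjective (by
          rw [Ideal.mk_ker]; exact L.head_le i)⟩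
      step := fun i => by
        have hle : (L i.castSucc).asIdeal ≤ (L i.succ).asIdeal := (L.step i).le
        refine lt_of_le_of_ne (Ideal.map_mono hle) fun h => (L.step i).ne (PrimeSpectrum.ext ?_)
        have h' := congrArg (Ideal.comap (Ideal.Quotient.mk p₀.asIdeal)) h
        simp only [Ideal.comap_map_of_surjective _ Ideal.Quotient.mk_surjective, ← RingHom.ker_eq_comap_bot,
          Ideal.mk_ker] at h'
        rwa [sup_eq_left.2 (L.head_le i.castSucc), sup_eq_left.2 (L.head_le i.succ)] at h' }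
  have hle : Ls.last ≤ qD := by
    change (L.last.asIdeal.map (Ideal.Quotient.mk p₀.asIdeal)) ≤ RingHom.ker ω
    rw [Ideal.map_le_iff_le_comap]
    intro c hc
    exact Ideal.Quotient.eq_zero_iff_mem.2 (hlast c hc)
  have hfin : (Ls.length : ℕ∞) ≤ (e : ℕ∞) := (Order.length_le_height hle).trans hht
  exact_mod_cast hfin

end Groth.Calg6.Diag
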