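import Groth.Agent.Calg6.DiagPos
import Groth.Agent.Calg6.DiagUpper
import Groth.Agent.Calg6.DevissageSum

/-!
Intersection numbers of modules at a point of an etale chart: additivity, vanishing, and the formula through
the components of the supports.
-/

set_option autoImplicit false
set_option backward.isDefEq.respectTransparency false

universe u

open TensorProduct IsLocalRing

namespace Groth.Calg6.Diag

/-- The intersection number is symmetric. -/
theorem intMult_chi_symm {S : Type u} [CommRing S] (P Q : Type u) [AddCommGroup P] [Module S P]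
    [AddCommGroup Q] [Module S Q] : IntMult.chi S P Q = IntMult.chi S Q P := by
  refine finsum_congr fun i => ?_
  obtain ⟨e⟩ := Groth.HTorLib.tor_symm (A := S) i P Q
  rw [e.length_eq]

/-- Supports meeting only at the closed point give finite length. -/
theorem isFiniteLength_tensor {A : Type u} [CommRing A] [IsLocalRing A] [IsNoetherianRing A] (M N : Type u)
    [AddCommGroup M] [Module A M] [Module.Finite A M] [AddCommGroup N] [Module A N] [Module.Finite A N]
    (h : ∀ p ∈ Module.support A M, p ∈ Module.support A N → p.asIdeal = maximalIdeal A) :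
    IsFiniteLength A (M ⊗[A] N) := by
  refine Module.length_ne_top_iff.1 (Groth.MilnorKLambda.Per.length_ne_top_of_support fun p hp => ?_)
  have hp' := Module.mem_support_iff_of_finite.1 hp
  refine h p (Module.mem_support_iff_of_finite.2 fun a ha => hp' ?_) (Module.mem_support_iff_of_finite.2 fun a ha => hp' ?_)
  · rw [Module.mem_annihilator] at ha ⊢
    intro z
    induction z using TensorProduct.induction_on with
    | zero => exact smul_zero a
    | add u v hu hv => rw [smul_add, hu, hv, add_zero]
    | tmul x y => rw [TensorProduct.smul_tmul', ha, TensorProduct.zero_tmul]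
  · rw [Module.mem_annihilator] at ha ⊢
    intro z
    induction z using TensorProduct.induction_on with
    | zero => exact smul_zero a
    | add u v hu hv => rw [smul_add, hu, hv, add_zero]
    | tmul x y => rw [← TensorProduct.tmul_smul, ha, TensorProduct.tmul_zero]

section Local

variable (k : Type u) [Field k] (A : Type u) [CommRing A] [Algebra k A] [IsLocalRing A] [IsNoetherianRing A]
  {n : ℕ} [Algebra (MvPolynomial (Fin n) k) A] [IsScalarTower k (MvPolynomial (Fin n) k) A]
  [Algebra.EssFiniteType k A] [Algebra.FormallyUnramified (MvPolynomial (Fin n) k) A]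
  [Module.Flat (MvPolynomial (Fin n) k) A]

include n in
/-- Additivity in the first variable. -/
theorem intMult_chi_add (N : Type u) [AddCommGroup N] [Module k N] [Module A N] [IsScalarTower k A N]
    [Module.Finite A N] {M₁ M₂ M₃ : Type u} [AddCommGroup M₁] [Module k M₁] [Module A M₁] [IsScalarTower k A M₁]
    [AddCommGroup M₂] [Module k M₂] [Module A M₂] [IsScalarTower k A M₂] [Module.Finite A M₂]
    [AddCommGroup M₃] [Module k M₃] [Module A M₃] [IsScalarTower k A M₃]
    (f : M₁ →ₗ[A] M₂) (g : M₂ →ₗ[A] M₃) (hf : Function.Injective f) (hg : Function.Surjective g)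
    (h : Function.Exact f g) (hfin : IsFiniteLength A (M₂ ⊗[A] N)) :
    IntMult.chi A M₂ N = IntMult.chi A M₁ N + IntMult.chi A M₃ N := by
  haveI : Module.Finite A M₁ := Module.Finite.of_injective f hf
  haveI : Module.Finite A M₃ := Module.Finite.of_surjective g hg
  haveI := finite_E k A N M₂
  haveI : Module.Flat (A ⊗[k] A) (Cq k A) := IsLocalization.flat _ (diagPt k A).primeCompl
  rw [intMult_chi_eq_kEuler (n := n) k A N M₂, intMult_chi_eq_kEuler (n := n) k A N M₁,
    intMult_chi_eq_kEuler (n := n) k A N M₃]
  refine Groth.KEuler.chi_add (f := Emap k A N f) (g := Emap k A N g) (good_E (n := n) k A N M₂ hfin) ?_ ?_ ?_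
  · exact (toE k A N _).injective.comp ((Module.Flat.lTensor_preserves_injective_linearMap (M := Cq k A) _
      (Wmap_injective _ hf)).comp (toE k A N _).symm.injective)
  · exact (toE k A N _).surjective.comp ((LinearMap.lTensor_surjective (Cq k A) (Wmap_surjective _ hg)).comp
      (toE k A N _).symm.surjective)
  · exact lTensor_exact (Cq k A) (Wmap_exact _ _ hg h) (Wmap_surjective _ hg)

include n in
theorem intMult_chi_subsingleton (N : Type u) [AddCommGroup N] [Module k N] [Module A N] [IsScalarTower k A N]
    (M : Type u) [AddCommGroup M] [Module k M] [Module A M] [IsScalarTower k A M] [Subsingleton M] :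
    IntMult.chi A M N = 0 := by
  haveI : Module.Finite A M := Module.Finite.of_finite
  rw [intMult_chi_eq_kEuler (n := n) k A N M]
  haveI : Subsingleton (E k A N M) := by
    refine subsingleton_of_forall_eq 0 fun z => ?_
    obtain ⟨z, rfl⟩ := (toE k A N M).surjective z
    have hz : z = 0 := by
      induction z using TensorProduct.induction_on with
      | zero => rfl
      | add u v hu hv => rw [hu, hv, add_zero]
      | tmul c w =>
        have hw : w = 0 := by
          induction w using W.induction with
          | h0 => rfl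
          | ha u v hu hv => rw [hu, hv, add_zero]
          | hm x y => rw [Subsingleton.elim y 0, mkW_zero_right]
        rw [hw, TensorProduct.tmul_zero]
    rw [hz, map_zero]
  exact Groth.KEuler.chi_subsingleton _ _

end Local

section Chart

variable {k : Type u} [Field k] {n : ℕ} {B : Type u} [CommRing B] [Algebra k B]
  [Algebra.FiniteType k B] [Algebra (MvPolynomial (Fin n) k) B] [IsScalarTower k (MvPolynomial (Fin n) k) B]
  [Algebra.Etale (MvPolynomial (Fin n) k) B] {A : Type u} [CommRing A] [IsLocalRing A] [Algebra B A]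
  (m : Ideal B) [m.IsPrime] [IsLocalization.AtPrime A m]

include k n in
/-- The formula through the components of the supports. -/
theorem intMult_chi_eq_finsum (M N : Type u) [AddCommGroup M] [Module A M] [Module.Finite A M] [AddCommGroup N]
    [Module A N] [Module.Finite A N] (D : PrimeSpectrum A → ℕ) (hD : ∀ p q : PrimeSpectrum A, p < q → D q < D p)
    {h r s : ℕ} (hh : ringKrullDim (B ⧸ m) = h)
    (hDdim : ∀ p : PrimeSpectrum A, ringKrullDim (B ⧸ p.asIdeal.comap (algebraMap B A)) = D p)
    (hrs : r + s ≤ h + n) (hM : ∀ p ∈ Module.support A M, D p ≤ r) (hN : ∀ q ∈ Module.support A N, D q ≤ s)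
    (hmeet : ∀ p ∈ Module.support A M, p ∈ Module.support A N → p.asIdeal = maximalIdeal A) :
    IntMult.chi A M N = ∑ᶠ p, DevissageSum.F D r
      (fun p => ∑ᶠ q, DevissageSum.F D s (fun q => IntMult.chi A (A ⧸ q.asIdeal) (A ⧸ p.asIdeal)) N q) M p := by
  letI : Algebra k A := ((algebraMap B A).comp (algebraMap k B)).toAlgebra
  haveI : IsScalarTower k B A := IsScalarTower.of_algebraMap_eq' rfl
  letI : Algebra (MvPolynomial (Fin n) k) A := ((algebraMap B A).comp (algebraMap (MvPolynomial (Fin n) k) B)).toAlgebra
  haveI : IsScalarTower (MvPolynomial (Fin n) k) B A := IsScalarTower.of_algebraMap_eq' rfl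
  haveI : IsScalarTower k (MvPolynomial (Fin n) k) A := IsScalarTower.of_algebraMap_eq fun x => by
    change algebraMap B A (algebraMap k B x) = algebraMap B A (algebraMap (MvPolynomial (Fin n) k) B _)
    rw [← IsScalarTower.algebraMap_apply k (MvPolynomial (Fin n) k) B]
  haveI : Module.Flat B A := IsLocalization.flat A m.primeCompl
  haveI : Algebra.EssFiniteType B A := Algebra.EssFiniteType.of_isLocalization A m.primeCompl
  haveI : Algebra.EssFiniteType k A := Algebra.EssFiniteType.comp k B A
  haveI : IsNoetherianRing A := Algebra.EssFiniteType.isNoetherianRing k A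
  haveI : Algebra.FormallyUnramified B A := Algebra.FormallyUnramified.of_isLocalization m.primeCompl
  haveI : Algebra.FormallyUnramified (MvPolynomial (Fin n) k) A := Algebra.FormallyUnramified.comp _ B A
  haveI : Module.Flat (MvPolynomial (Fin n) k) A := Module.Flat.trans _ B A
  -- additive functions
  have hadd : ∀ (N : Type u) [AddCommGroup N] [Module A N] [Module.Finite A N]
      (M₁ M₂ M₃ : Type u) [AddCommGroup M₁] [Module A M₁] [AddCommGroup M₂] [Module A M₂]
      [AddCommGroup M₃] [Module A M₃] [Module.Finite A M₂] (f : M₁ →ₗ[A] M₂) (g : M₂ →ₗ[A] M₃),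
      (∀ p ∈ Module.support A M₂, p ∈ Module.support A N → p.asIdeal = maximalIdeal A) →
      Function.Injective f → Function.Surjective g → Function.Exact f g →
      IntMult.chi A M₂ N = IntMult.chi A M₁ N + IntMult.chi A M₃ N := by
    intro N _ _ _ M₁ M₂ M₃ _ _ _ _ _ _ _ f g h2 hf hg he
    letI : Module k N := Module.compHom N (algebraMap k A)
    haveI : IsScalarTower k A N := IsScalarTower.of_algebraMap_smul fun _ _ => rfl
    letI : Module k M₁ := Module.compHom M₁ (algebraMap k A)
    haveI : IsScalarTower k A M₁ := IsScalarTower.of_algebraMap_smul fun _ _ => rfl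
    letI : Module k M₂ := Module.compHom M₂ (algebraMap k A)
    haveI : IsScalarTower k A M₂ := IsScalarTower.of_algebraMap_smul fun _ _ => rfl
    letI : Module k M₃ := Module.compHom M₃ (algebraMap k A)
    haveI : IsScalarTower k A M₃ := IsScalarTower.of_algebraMap_smul fun _ _ => rfl
    exact intMult_chi_add (n := n) k A N f g hf hg he (isFiniteLength_tensor M₂ N h2)
  have hzero : ∀ (N : Type u) [AddCommGroup N] [Module A N] (M : Type u) [AddCommGroup M] [Module A M]
      [Subsingleton M], IntMult.chi A M N = 0 := by
    intro N _ _ M _ _ _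
    letI : Module k N := Module.compHom N (algebraMap k A)
    haveI : IsScalarTower k A N := IsScalarTower.of_algebraMap_smul fun _ _ => rfl
    letI : Module k M := Module.compHom M (algebraMap k A)
    haveI : IsScalarTower k A M := IsScalarTower.of_algebraMap_smul fun _ _ => rfl
    exact intMult_chi_subsingleton (n := n) k A N M
  -- vanishing below the expected dimension
  have hvan : ∀ p q : PrimeSpectrum A, IsFiniteLength A ((A ⧸ q.asIdeal) ⊗[A] (A ⧸ p.asIdeal)) →
      D p + D q < h + n → IntMult.chi A (A ⧸ q.asIdeal) (A ⧸ p.asIdeal) = 0 := fun p q hfin hlt => by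
    rcases Nat.eq_zero_or_pos n with hn0 | hn0
    · exfalso
      have h0 : ∀ t : PrimeSpectrum A, h ≤ D t := fun t => by
        have h2 : ringKrullDim (B ⧸ m) ≤ ringKrullDim (B ⧸ t.asIdeal.comap (algebraMap B A)) := by
          refine ringKrullDim_le_of_surjective (Ideal.Quotient.factor ?_) (Ideal.Quotient.factor_surjective ?_)
          · refine le_trans (Ideal.comap_mono (IsLocalRing.le_maximalIdeal t.isPrime.ne_top)) ?_
            exact le_of_eq (IsLocalization.AtPrime.under_maximalIdeal A m)
          · refine le_trans (Ideal.comap_mono (IsLocalRing.le_maximalIdeal t.isPrime.ne_top)) ?_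
            exact le_of_eq (IsLocalization.AtPrime.under_maximalIdeal A m)
        rw [hh, hDdim] at h2
        exact_mod_cast h2
      have := h0 p
      have := h0 q
      omega
    have h2 := supportDim_E_le k A m (q.asIdeal.comap (algebraMap B A)) (p.asIdeal.comap (algebraMap B A))
      (a := D p) (b := D q) (e := n - 1) hh (le_of_eq (by rw [hDdim, hDdim]; push_cast; rfl)) (by omega)
    rw [IsLocalization.map_comap m.primeCompl, IsLocalization.map_comap m.primeCompl] at h2
    haveI := finite_E k A (A ⧸ p.asIdeal) (A ⧸ q.asIdeal)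
    rw [intMult_chi_eq_kEuler (n := n) k A (A ⧸ p.asIdeal) (A ⧸ q.asIdeal)]
    refine (Groth.KEuler.chi_dim n _ (eqn_mem_maximalIdeal k A) _
      (good_E k A (A ⧸ p.asIdeal) (A ⧸ q.asIdeal) hfin)).2.2 (lt_of_le_of_lt h2 ?_)
    exact_mod_cast (show n - 1 < n by omega)
  -- the two devissages
  refine DevissageSum.eq_finsum D r _ hD (fun p => p ∈ Module.support A N → p.asIdeal = maximalIdeal A)
    (fun M _ _ => IntMult.chi A M N) (fun M M' _ _ _ _ e => intMult_chi_congr_left e N)
    (fun M _ _ _ => hzero N M)
    (fun M₁ M₂ M₃ _ _ _ _ _ _ _ f g h2 hf hg he => hadd N M₁ M₂ M₃ f g (fun p hp => (h2 p hp).2) hf hg he)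
    (fun p hp => ?_) M (fun p hp => ⟨hM p hp, hmeet p hp⟩)
  have hpr : D p ≤ r := (hp p (Groth.TopPrimeCount.mem_support_quot.2 le_rfl)).1
  have key := DevissageSum.eq_finsum D s (fun q => IntMult.chi A (A ⧸ q.asIdeal) (A ⧸ p.asIdeal)) hD
    (fun q => q ∈ Module.support A (A ⧸ p.asIdeal) → q.asIdeal = maximalIdeal A)
    (fun N _ _ => IntMult.chi A N (A ⧸ p.asIdeal)) (fun N N' _ _ _ _ e => intMult_chi_congr_left e _)
    (fun N _ _ _ => hzero _ N)
    (fun M₁ M₂ M₃ _ _ _ _ _ _ _ f g h2 hf hg he => hadd _ M₁ M₂ M₃ f g (fun q hq => (h2 q hq).2) hf hg he)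
    (fun q hq => ?_) N (fun q hq => ⟨hN q hq, fun hqp => (hp q hqp).2 hq⟩)
  · change IntMult.chi A (A ⧸ p.asIdeal) N = _
    rw [intMult_chi_symm, key]
    split_ifs with hpr'
    · rfl
    · refine finsum_eq_zero_of_forall_eq_zero fun q => ?_
      simp only [DevissageSum.F]
      split_ifs with hqs
      · by_cases hl : Groth.MilnorKLambda.Per.lq q.asIdeal N = 0
        · simp [hl]
        have hqN := Groth.MilnorKLambda.Per.mem_support_of_lq_ne_zero q.asIdeal hl
        have hfin : IsFiniteLength A ((A ⧸ q.asIdeal) ⊗[A] (A ⧸ p.asIdeal)) :=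
          isFiniteLength_tensor _ _ fun t htq htp =>
            (hp t htp).2 (Module.mem_support_mono (Groth.TopPrimeCount.mem_support_quot.1 htq) hqN)
        rw [hvan p q hfin (by omega), mul_zero]
      · rfl
  · split_ifs with hqs
    · rfl
    · exact hvan p q (isFiniteLength_tensor _ _ fun t htq htp => (hq t htq).2 htp)
        (by have := (hq q (Groth.TopPrimeCount.mem_support_quot.2 le_rfl)).1; omega)

end Chart

end Groth.Calg6.Diag
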