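import Mathlib

/-! Coherent modules: elementary facts. -/

set_option autoImplicit false
universe u v w

namespace Groth.Calg6

variable {R : Type u} [CommRing R] {N : Type v} {M : Type w} [AddCommGroup N] [Module R N]
  [AddCommGroup M] [Module R M]

/-- Finitely generated, with all finitely generated submodules finitely presented. -/
def IsCoh (R : Type u) [CommRing R] (M : Type w) [AddCommGroup M] [Module R M] : Prop :=
  Module.Finite R M ∧ ∀ P : Submodule R M, P.FG → Module.FinitePresentation R P

theorem ker_fg_of_isCoh [Module.Finite R N] (hM : IsCoh R M) (φ : N →ₗ[R] M) : (LinearMap.ker φ).FG := by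
  haveI : Module.FinitePresentation R (LinearMap.range φ) :=
    hM.2 _ (by rw [LinearMap.range_eq_map]; exact Submodule.FG.map φ Module.Finite.fg_top)
  have := Module.FinitePresentation.fg_ker φ.rangeRestrict φ.surjective_rangeRestrict
  rwa [LinearMap.ker_rangeRestrict] at this

theorem isCoh_submodule (hM : IsCoh R M) (S : Submodule R M) (hS : S.FG) : IsCoh R S := by
  refine ⟨Module.Finite.iff_fg.2 hS, fun P hP => ?_⟩
  haveI := hM.2 _ (hP.map S.subtype)
  exact Module.FinitePresentation.of_equiv
    (Submodule.equivMapOfInjective S.subtype (Submodule.injective_subtype S) P).symm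

theorem isCoh_quotient (hM : IsCoh R M) (S : Submodule R M) (hS : S.FG) : IsCoh R (M ⧸ S) := by
  haveI := hM.1
  refine ⟨Module.Finite.of_surjective S.mkQ (Submodule.mkQ_surjective S), fun P hP => ?_⟩
  have hfg : (P.comap S.mkQ).FG := by
    refine Submodule.fg_of_fg_map_of_fg_inf_ker S.mkQ ?_ ?_
    · rwa [Submodule.map_comap_eq_of_surjective (Submodule.mkQ_surjective S)]
    · rw [Submodule.ker_mkQ, inf_eq_right.2 (Submodule.le_comap_mkQ S P)]
      exact hS
  haveI := hM.2 _ hfg
  let g : P.comap S.mkQ →ₗ[R] P := S.mkQ.restrict fun x hx => hx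
  have hg : Function.Surjective g := by
    rintro ⟨y, hy⟩
    obtain ⟨x, rfl⟩ := Submodule.mkQ_surjective S y
    exact ⟨⟨x, hy⟩, rfl⟩
  refine Module.finitePresentation_of_surjective g hg ?_
  have e : LinearMap.ker g = S.comap (P.comap S.mkQ).subtype := by
    ext x
    simp only [LinearMap.mem_ker, Submodule.mem_comap, Submodule.coe_subtype]
    rw [← Submodule.Quotient.mk_eq_zero S, Subtype.ext_iff]
    rfl
  rw [e]
  refine Submodule.fg_of_fg_map_injective (P.comap S.mkQ).subtype (Submodule.injective_subtype _) ?_
  rw [Submodule.map_comap_subtype, inf_eq_right.2 (Submodule.le_comap_mkQ S P)]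
  exact hS

end Groth.Calg6
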