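import Groth.Agent.Calg6.StalkSupport
import Groth.Agent.Calg6.DevissageSum
import Groth.Agent.KTheory.ClosureSheaf
import Groth.Agent.QCohMod.SupportPullback
import Groth.Prelude.Def_IntMult
import Groth.Prelude.Def_Cyc
import Mathlib.AlgebraicGeometry.AlgebraicCycle.Basic

/-!
Bilinearity of the Tor-formula product, and cycles as combinations of cycles of coherent modules.
-/

set_option autoImplicit false

universe u

open CategoryTheory AlgebraicGeometry

namespace Groth.Calg6.CycleLinear

variable {X : Scheme.{u}}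

open Classical in
/-- The product at a point only depends on the coefficients at its generisations, bilinearly. -/
theorem interProd_sum (δ : X → ℤ) (n : ℤ) (x : X) {ι κ : Type*} (S : Finset ι) (T : Finset κ) (α β : X → ℤ)
    (c : ι → ℤ) (d : κ → ℤ) (A : ι → X → ℤ) (B : κ → X → ℤ)
    (hα : ∀ ξ, ξ ⤳ x → α ξ = ∑ i ∈ S, c i * A i ξ) (hβ : ∀ η, η ⤳ x → β η = ∑ j ∈ T, d j * B j η)
    (hA : ∀ i ∈ S, {ξ : X | ξ ⤳ x ∧ A i ξ ≠ 0}.Finite) (hB : ∀ j ∈ T, {η : X | η ⤳ x ∧ B j η ≠ 0}.Finite) :
    IntMult.interProd δ n α β x = ∑ i ∈ S, ∑ j ∈ T, c i * d j * IntMult.interProd δ n (A i) (B j) x := by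
  let P := {p : X × X // p.1 ⤳ x ∧ p.2 ⤳ x ∧ δ p.1 + δ p.2 - n = δ x}
  let M : P → ℤ := fun p => IntMult.mult (IntMult.ptIdeal p.1.1) (IntMult.ptIdeal p.1.2) x
  have hfin : ∀ i ∈ S, ∀ j ∈ T, (Function.support fun p : P => c i * d j * (A i p.1.1 * B j p.1.2 * M p)).Finite :=
    fun i hi j hj => by
      refine ((((hA i hi).prod (hB j hj))).preimage (f := fun p : P => p.1) Subtype.val_injective.injOn).subset
        fun p hp => ?_
      have h := right_ne_zero_of_mul hp
      exact ⟨⟨p.2.1, left_ne_zero_of_mul (left_ne_zero_of_mul h)⟩,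
        ⟨p.2.2.1, right_ne_zero_of_mul (left_ne_zero_of_mul h)⟩⟩
  calc IntMult.interProd δ n α β x
      = ∑ᶠ p : P, ∑ ij ∈ S ×ˢ T, c ij.1 * d ij.2 * (A ij.1 p.1.1 * B ij.2 p.1.2 * M p) := by
        refine finsum_congr fun p => ?_
        rw [hα _ p.2.1, hβ _ p.2.2.1, Finset.sum_mul_sum, Finset.sum_mul, Finset.sum_product]
        refine Finset.sum_congr rfl fun i _ => ?_
        rw [Finset.sum_mul]
        exact Finset.sum_congr rfl fun j _ => by ring
    _ = ∑ ij ∈ S ×ˢ T, ∑ᶠ p : P, c ij.1 * d ij.2 * (A ij.1 p.1.1 * B ij.2 p.1.2 * M p) :=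
        finsum_sum_comm _ _ fun ij hij => hfin ij.1 (Finset.mem_product.1 hij).1 ij.2 (Finset.mem_product.1 hij).2
    _ = ∑ i ∈ S, ∑ j ∈ T, c i * d j * IntMult.interProd δ n (A i) (B j) x := by
        rw [Finset.sum_product]
        refine Finset.sum_congr rfl fun i _ => Finset.sum_congr rfl fun j _ => ?_
        rw [IntMult.interProd, mul_finsum]

/-- Finitely many generisations of a point lie in the support of a cycle. -/
theorem finite_cycle_gen (α : AlgebraicCycle X ℤ) (x : X) : {ξ : X | ξ ⤳ x ∧ α ξ ≠ 0}.Finite := by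
  obtain ⟨t, ht, hfin⟩ := α.supportLocallyFiniteWithinDomain x (by trivial)
  refine hfin.subset fun ξ hξ => ⟨?_, hξ.2⟩
  obtain ⟨V, hVt, hV, hxV⟩ := mem_nhds_iff.1 ht
  exact hVt (hξ.1.mem_open hV hxV)

variable {δ : X → ℤ} (hδ : Cyc.IsDimFun X δ)

include hδ in
open Classical in
/-- The cycle of the structure sheaf of a point closure. -/
theorem sheafFun_closure [IsLocallyNoetherian X] (ξ y : X) :
    Cyc.sheafFun δ (δ ξ) (Cyc.closureStructureSheaf ξ) y = if y = ξ then 1 else 0 := by
  by_cases h : y = ξ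
  · subst h
    rw [if_pos rfl, Cyc.sheafFun, if_pos rfl, Groth.KTheory.Devissage.length_closureStructureSheaf]
    simp
  · rw [if_neg h, Cyc.sheafFun]
    split_ifs with hy
    · have hsub : Subsingleton ((Cyc.closureStructureSheaf ξ).presheaf.stalk y) := by
        by_contra hc
        have hmem := Groth.KTheory.Devissage.support_closureStructureSheaf_subset ξ hc
        have := (hδ ξ y (specializes_iff_mem_closure.2 hmem) (Ne.symm h)).1
        omega
      rw [Module.length_eq_zero_iff.2 hsub, ENat.toNat_zero, Nat.cast_zero]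
    · rfl

include hδ in
/-- The stalks of the structure sheaf of a point closure live below the point. -/
theorem delta_le_of_nontrivial_closure [IsLocallyNoetherian X] (ξ y : X)
    (h : Nontrivial ((Cyc.closureStructureSheaf ξ).presheaf.stalk y)) : ξ ⤳ y ∧ δ y ≤ δ ξ := by
  have hmem := Groth.KTheory.Devissage.support_closureStructureSheaf_subset ξ
    (not_subsingleton_iff_nontrivial.2 h)
  have hs := specializes_iff_mem_closure.2 hmem
  rcases eq_or_ne ξ y with rfl | hne
  · exact ⟨hs, le_rfl⟩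
  · exact ⟨hs, (hδ ξ y hs hne).1.le⟩

include hδ in
open Classical in
/-- A cycle near a point is a combination of cycles of point closures. -/
theorem cycle_eq_sum [IsLocallyNoetherian X] {r : ℤ} (α : AlgebraicCycle X ℤ) (hα : α ∈ Cyc.Zk X δ r) (x ξ : X)
    (hξ : ξ ⤳ x) : α ξ = ∑ a ∈ (finite_cycle_gen α x).toFinset,
      α a * Cyc.sheafFun δ r (Cyc.closureStructureSheaf a) ξ := by
  have h : ∀ a ∈ (finite_cycle_gen α x).toFinset, α a * Cyc.sheafFun δ r (Cyc.closureStructureSheaf a) ξ =
      if ξ = a then α a else 0 := fun a ha => by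
    have hr : δ a = r := by
      by_contra hne
      exact ((finite_cycle_gen α x).mem_toFinset.1 ha).2 (hα a hne)
    rw [← hr, sheafFun_closure hδ, mul_ite, mul_one, mul_zero]
  rw [Finset.sum_congr rfl h, Finset.sum_ite_eq]
  split_ifs with hmem
  · rfl
  · by_contra hne
    exact hmem ((finite_cycle_gen α x).mem_toFinset.2 ⟨hξ, hne⟩)

include hδ in
/-- Finitely many generisations of a point carry the cycle of a coherent module. -/
theorem finite_sheafFun_gen [IsLocallyNoetherian X] (F : X.Modules) (hF : Coh.IsCoh F) (r : ℤ)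
    (hr : ∀ y : X, Nontrivial (F.presheaf.stalk y) → δ y ≤ r) (x : X) :
    {ξ : X | ξ ⤳ x ∧ Cyc.sheafFun δ r F ξ ≠ 0}.Finite := by
  haveI : F.IsQuasicoherent := hF.1
  haveI := Groth.QCohMod.finite_stalk F hF.2 x
  refine ((Ideal.finite_minimalPrimes_of_isNoetherianRing (X.presheaf.stalk x)
    (Module.annihilator (X.presheaf.stalk x) (F.presheaf.stalk x))).preimage
      (f := fun p : PrimeSpectrum (X.presheaf.stalk x) => p.asIdeal)
      (fun _ _ _ _ h => PrimeSpectrum.ext h)).image (X.fromSpecStalk x) |>.subset ?_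
  rintro ξ ⟨hξ, hne⟩
  have hnt : Nontrivial (F.presheaf.stalk ξ) := not_subsingleton_iff_nontrivial.1 fun hsub => hne (by
    rw [Cyc.sheafFun]
    split_ifs
    · rw [Module.length_eq_zero_iff.2 hsub, ENat.toNat_zero, Nat.cast_zero]
    · rfl)
  have hrξ : δ ξ = r := by
    by_contra h
    exact hne (if_neg h)
  refine ⟨Groth.Cycles.genPrime hξ, ⟨⟨(Groth.Cycles.genPrime hξ).isPrime,
    Module.mem_support_iff_of_finite.1 ((Groth.Calg6.StalkSupport.genPrime_mem_support_iff F hξ).2 hnt)⟩,
    fun J hJ hle => ?_⟩, Groth.Cycles.fromSpecStalk_genPrime hξ⟩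
  let q : PrimeSpectrum (X.presheaf.stalk x) := ⟨J, hJ.1⟩
  have hq : X.fromSpecStalk x q ⤳ x := Scheme.range_fromSpecStalk.le ⟨q, rfl⟩
  have hqnt : Nontrivial (F.presheaf.stalk (X.fromSpecStalk x q)) := by
    rw [← Groth.Calg6.StalkSupport.genPrime_mem_support_iff F hq, Groth.Cycles.genPrime_fromSpecStalk q hq,
      Module.mem_support_iff_of_finite]
    exact hJ.2
  have hspec : X.fromSpecStalk x q ⤳ ξ := by
    have := ((PrimeSpectrum.le_iff_specializes q (Groth.Cycles.genPrime hξ)).1 hle).map (X.fromSpecStalk x).continuous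
    rwa [Groth.Cycles.fromSpecStalk_genPrime hξ] at this
  have heq : X.fromSpecStalk x q = ξ := by
    by_contra hne'
    have h1 := (hδ _ _ hspec hne').1
    have h2 := hr _ hqnt
    omega
  have : q = Groth.Cycles.genPrime hξ :=
    (X.fromSpecStalk x).isEmbedding.injective (heq.trans (Groth.Cycles.fromSpecStalk_genPrime hξ).symm)
  exact (congrArg PrimeSpectrum.asIdeal this).ge

end Groth.Calg6.CycleLinear
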