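import Groth.Agent.KoszulReg.Weakly
import Groth.Agent.KTheory.PerfPoint
import Groth.Agent.HTopHyper.HTor.Balance
import Groth.Agent.FrobLCI.KEuler.Chi
import Groth.Prelude.Def_IntMult
import Mathlib.Algebra.Homology.Embedding.StupidTrunc
import Mathlib.Algebra.Homology.Embedding.ExtendHomology
import Mathlib.CategoryTheory.Preadditive.Projective.Resolution

/-!
`Tor` of a quotient by a regular sequence is Koszul homology.
-/

set_option autoImplicit false

universe u

open CategoryTheory CategoryTheory.Limits MonoidalCategory

namespace Groth.Calg6.KoszulTor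

local notation "𝕖" => ComplexShape.embeddingDownNat

section Embedding

variable {C : Type*} [Category C] [Abelian C]

/-- A complex supported in degrees `≤ 0` is the extension of its restriction. -/
noncomputable def extendRestrictionIso (K : CochainComplex C ℤ) (hK : ∀ i : ℤ, 0 < i → IsZero (K.X i)) :
    (K.restriction 𝕖).extend 𝕖 ≅ K :=
  HomologicalComplex.Hom.isoOfComponents
    (fun i => if h : i ≤ 0 then
        (K.restriction 𝕖).extendXIso 𝕖 (i := (-i).toNat) (show -((-i).toNat : ℤ) = i by omega) ≪≫
          K.restrictionXIso 𝕖 (i := (-i).toNat) (show -((-i).toNat : ℤ) = i by omega)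
      else IsZero.iso (HomologicalComplex.isZero_extend_X _ _ _ fun j (hj : -(j : ℤ) = i) => by omega)
        (hK i (by omega)))
    fun i j (hij : i + 1 = j) => by
      by_cases hj : j ≤ 0
      · rw [dif_pos (show i ≤ 0 by omega), dif_pos hj,
          HomologicalComplex.extend_d_eq _ _ (i := (-i).toNat) (j := (-j).toNat)
            (show -((-i).toNat : ℤ) = i by omega) (show -((-j).toNat : ℤ) = j by omega),
          HomologicalComplex.restriction_d_eq _ _ (i' := i) (j' := j)
            (show -((-i).toNat : ℤ) = i by omega) (show -((-j).toNat : ℤ) = j by omega)]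
        simp
      · exact (hK j (by omega)).eq_of_tgt _ _

/-- Homology of the restriction. -/
noncomputable def homologyIso (K : CochainComplex C ℤ) (hK : ∀ i : ℤ, 0 < i → IsZero (K.X i)) (n : ℕ) :
    (K.restriction 𝕖).homology n ≅ K.homology (-(n : ℤ)) :=
  (HomologicalComplex.extendHomologyIso (K.restriction 𝕖) 𝕖 (j := n) (j' := -(n : ℤ)) rfl).symm ≪≫
    (HomologicalComplex.homologyFunctor C _ _).mapIso (extendRestrictionIso K hK)

theorem quasiIso_restrictionMap {K L : CochainComplex C ℤ} (φ : K ⟶ L) (hK : ∀ i : ℤ, 0 < i → IsZero (K.X i))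
    (hL : ∀ i : ℤ, 0 < i → IsZero (L.X i)) [QuasiIso φ] :
    QuasiIso (HomologicalComplex.restrictionMap φ 𝕖) := by
  rw [← HomologicalComplex.quasiIso_extendMap_iff _ 𝕖]
  have hcomm : HomologicalComplex.extendMap (HomologicalComplex.restrictionMap φ 𝕖) 𝕖 ≫
      (extendRestrictionIso L hL).hom = (extendRestrictionIso K hK).hom ≫ φ := by
    ext i
    by_cases hi : i ≤ 0
    · have he : (-((-i).toNat : ℤ)) = i := by omega
      have hnat : ∀ {m : ℤ} {k : ℕ} (h : (𝕖).f k = m), φ.f ((𝕖).f k) ≫ (HomologicalComplex.restrictionXIso L 𝕖 h).hom =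
          (HomologicalComplex.restrictionXIso K 𝕖 h).hom ≫ φ.f m := by
        intro m k h; subst h; simp only [HomologicalComplex.restrictionXIso, eqToIso.hom, eqToHom_refl, Category.id_comp, Category.comp_id]; exact (Category.comp_id _).trans (Category.id_comp _).symm
      simp [extendRestrictionIso, HomologicalComplex.extendMap_f _ 𝕖 (i := (-i).toNat) he, dif_pos hi]
      exact hnat he
    · exact (hL i (by omega)).eq_of_tgt _ _
  have : QuasiIso (HomologicalComplex.extendMap (HomologicalComplex.restrictionMap φ 𝕖) 𝕖 ≫
      (extendRestrictionIso L hL).hom) := by rw [hcomm]; infer_instance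
  exact quasiIso_of_comp_right _ (extendRestrictionIso L hL).hom

/-- A single complex in degree zero restricts to a single complex. -/
noncomputable def singleRestrictionIso (Q : C) :
    ((HomologicalComplex.single C (ComplexShape.up ℤ) 0).obj Q).restriction 𝕖 ≅
      (ChainComplex.single₀ C).obj Q :=
  HomologicalComplex.Hom.isoOfComponents
    (fun n => match n with
      | 0 => HomologicalComplex.singleObjXSelf (ComplexShape.up ℤ) 0 Q
      | m + 1 => IsZero.iso (HomologicalComplex.isZero_single_obj_X (ComplexShape.up ℤ) 0 Q _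
          (show -((m + 1 : ℕ) : ℤ) ≠ 0 by omega))
          (HomologicalComplex.isZero_single_obj_X _ _ _ _ (by omega)))
    fun i j (hij : j + 1 = i) => by
      subst hij
      exact (HomologicalComplex.isZero_single_obj_X (ComplexShape.up ℤ) 0 Q _
        (show -((j + 1 : ℕ) : ℤ) ≠ 0 by omega)).eq_of_src _ _

end Embedding

variable {A : Type u} [CommRing A] [IsLocalRing A]

/-- The Koszul projective resolution of a quotient by a Koszul-regular sequence. -/
noncomputable def koszulRes (l : List A) (hl : LCI.IsKoszulRegularSeq A l) :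
    ProjectiveResolution (ModuleCat.of A (A ⧸ Ideal.ofList l)) where
  complex := (Koszul.koszul A l).restriction 𝕖
  projective n := by
    obtain ⟨a, b, -, hP⟩ := Groth.KTheory.PerfPoint.koszul_props l
    exact (IsProjective.iff_projective _).1 (hP _).2
  π := HomologicalComplex.restrictionMap (Groth.KoszulReg.aug l) 𝕖 ≫ (singleRestrictionIso _).hom
  quasiIso := by
    have := Groth.KoszulReg.quasiIso_aug l hl
    have := quasiIso_restrictionMap (Groth.KoszulReg.aug l) (Groth.KoszulReg.isZero_koszul_X l)
      (fun i hi => HomologicalComplex.isZero_single_obj_X _ _ _ _ hi.ne')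
    infer_instance

theorem nonempty_tor_iso (l : List A) (hl : LCI.IsKoszulRegularSeq A l) (M : ModuleCat.{u} A) (n : ℕ) :
    Nonempty (((CategoryTheory.Tor (ModuleCat.{u} A) n).obj (ModuleCat.of A (A ⧸ Ideal.ofList l))).obj M ≅
      (DRing.tensorCx (Koszul.koszul A l) M).homology (-(n : ℤ))) :=
  (Groth.HTorLib.tor_iso_homology _ M (koszulRes l hl) n).map fun e => e ≪≫
    homologyIso (DRing.tensorCx (Koszul.koszul A l) M)
      (fun i hi => (tensorRight M).map_isZero (Groth.KoszulReg.isZero_koszul_X l i hi)) n

/-- The intersection number against a complete intersection is the Koszul Euler characteristic. -/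
theorem intMult_chi_eq (l : List A) (hl : LCI.IsKoszulRegularSeq A l) (M : Type u) [AddCommGroup M] [Module A M] :
    IntMult.chi A (A ⧸ Ideal.ofList l) M = Groth.KEuler.chi l M := by
  have key : ∀ j : ℕ, Module.length A (DRing.Tor A j (A ⧸ Ideal.ofList l) M) = Groth.KEuler.h l M (-(j : ℤ)) :=
    fun j => ((nonempty_tor_iso l hl (ModuleCat.of A M) j).elim fun e => e.toLinearEquiv.length_eq).trans
      (Groth.KEuler.length_bridge l M _)
  rw [IntMult.chi, Groth.KEuler.chi]
  simp only [key]
  refine finsum_eq_sum_of_support_subset _ fun j hj => ?_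
  simp only [Finset.coe_range, Set.mem_Iio]
  by_contra h
  exact hj (by
    show _ * _ = 0
    rw [Groth.KEuler.h, Groth.KEuler.length_out l M _ (Or.inl (by omega))]
    simp)

end Groth.Calg6.KoszulTor
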