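import Groth.Agent.Calg6.DiagTor
import Groth.Agent.Calg6.KoszulTor
import Groth.Agent.FrobLCI.KEuler.Samuel
import Groth.Agent.HTopHyper.HTor.Balance

/-!
The intersection number over `A` as a Koszul Euler characteristic over the local ring of the diagonal.
-/

set_option autoImplicit false
set_option backward.isDefEq.respectTransparency false

universe u

open TensorProduct IsLocalRing CategoryTheory

namespace Groth.Calg6.Diag

/-- The intersection number does not depend on the isomorphism class of the first module. -/
theorem intMult_chi_congr_left {S : Type u} [CommRing S] {P P' : Type u} [AddCommGroup P] [Module S P]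
    [AddCommGroup P'] [Module S P'] (e : P ≃ₗ[S] P') (Q : Type u) [AddCommGroup Q] [Module S Q] :
    IntMult.chi S P Q = IntMult.chi S P' Q := by
  refine finsum_congr fun i => ?_
  have h : Module.length S (DRing.Tor S i P Q) = Module.length S (DRing.Tor S i P' Q) :=
    ((((CategoryTheory.Tor (ModuleCat.{u} S) i).mapIso e.toModuleIso).app (ModuleCat.of S Q))).toLinearEquiv.length_eq
  rw [h]

variable (k : Type u) [Field k] (A : Type u) [CommRing A] [Algebra k A] [IsLocalRing A] [IsNoetherianRing A]
  {n : ℕ} [Algebra (MvPolynomial (Fin n) k) A] [IsScalarTower k (MvPolynomial (Fin n) k) A]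
  [Algebra.EssFiniteType k A] [Algebra.FormallyUnramified (MvPolynomial (Fin n) k) A]
  [Module.Flat (MvPolynomial (Fin n) k) A]
  (N M : Type u) [AddCommGroup N] [Module k N] [Module A N] [IsScalarTower k A N]
  [AddCommGroup M] [Module k M] [Module A M] [IsScalarTower k A M]

theorem eqn_mem_maximalIdeal (i : Fin n) : eqn (n := n) k A i ∈ maximalIdeal (Cq k A) :=
  IsLocalRing.le_maximalIdeal (RingHom.ker_ne_top _) (eqn_mem_ker k A i)

theorem ofList_eqn : Ideal.ofList (List.ofFn (eqn (n := n) k A)) = RingHom.ker (algebraMap (Cq k A) A) := by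
  rw [Groth.KEuler.ofList_ofFn, ker_eq_span (n := n) k A]

/-- `A` as a quotient of the local ring of the diagonal. -/
noncomputable def quotEquiv :
    (Cq k A ⧸ Ideal.ofList (List.ofFn (eqn (n := n) k A))) ≃ₗ[Cq k A] A :=
  (Submodule.quotEquivOfEq _ _ ((ofList_eqn (n := n) k A).trans
    (show RingHom.ker (algebraMap (Cq k A) A) = LinearMap.ker (Algebra.linearMap (Cq k A) A) from
      Submodule.ext fun _ => Iff.rfl))).trans
    ((Algebra.linearMap (Cq k A) A).quotKerEquivOfSurjective (algebraMap_surjective k A))

/-- The reduction to the diagonal for the intersection number. -/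
theorem intMult_chi_eq_kEuler [Module.Finite A M] :
    IntMult.chi A M N = Groth.KEuler.chi (List.ofFn (eqn (n := n) k A)) (E k A N M) := by
  rw [← Groth.Calg6.KoszulTor.intMult_chi_eq _ (Groth.KoszulReg.isKoszulRegularSeq_of_isWeaklyRegular
    (isWeaklyRegular_eqn k A)), intMult_chi_congr_left (quotEquiv (n := n) k A)]
  refine finsum_congr fun i => ?_
  obtain ⟨e⟩ := Groth.HTorLib.tor_symm (A := Cq k A) i (E k A N M) A
  have h : Module.length (Cq k A) (DRing.Tor (Cq k A) i A (E k A N M)) = Module.length A (DRing.Tor A i M N) :=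
    e.length_eq.symm.trans (length_tor k A N i M)
  rw [h]

omit [IsNoetherianRing A] in
theorem finite_E [Module.Finite A M] [Module.Finite A N] : Module.Finite (Cq k A) (E k A N M) :=
  haveI := W.finite (k := k) (A := A) (N := N) (M := M)
  haveI : Module.Finite (Cq k A) (Cq k A ⊗[A ⊗[k] A] W k N M) := inferInstance
  Module.Finite.equiv (toE k A N M)

/-- Finite length intersection gives a finite length Koszul system. -/
theorem good_E [Module.Finite A M] [Module.Finite A N] (h : IsFiniteLength A (M ⊗[A] N)) :
    Groth.KEuler.Good (List.ofFn (eqn (n := n) k A)) (E k A N M) := by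
  haveI := finite_E k A N M
  refine Groth.KEuler.good_of_finiteLength _ _ ?_
  rw [← Module.length_ne_top_iff, ← (tensorQuotEquivQuotSMul (E k A N M) _).length_eq,
    (LinearEquiv.lTensor (E k A N M) (quotEquiv (n := n) k A)).length_eq, length_tensor]
  exact Module.length_ne_top_iff.2 h

/-- Positivity from the dimension of the support on the product. -/
theorem intMult_chi_pos [Module.Finite A M] [Module.Finite A N] (h : IsFiniteLength A (M ⊗[A] N))
    (hd : (n : WithBot ℕ∞) ≤ Module.supportDim (Cq k A) (E k A N M)) :
    0 < IntMult.chi A M N := by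
  haveI := finite_E k A N M
  rw [intMult_chi_eq_kEuler (n := n) k A N M]
  refine (Groth.KEuler.chi_dim n _ (eqn_mem_maximalIdeal k A) _ (good_E k A N M h)).2.1 ?_
  exact le_antisymm (Groth.KEuler.dim_le_of_good (eqn_mem_maximalIdeal k A) _ (good_E k A N M h)) hd

end Groth.Calg6.Diag
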