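import Groth.Agent.Cycles.StalkPrimes
import Groth.Agent.QCohMod.Affine
import Groth.Agent.MilnorKLambda.FinLen
import Mathlib.Algebra.Module.LocalizedModule.Basic

/-!
The stalk of a quasi-coherent module at a generisation is a localisation of the stalk.
-/

set_option autoImplicit false

universe u

open CategoryTheory AlgebraicGeometry IsLocalRing

namespace Groth.Calg6.StalkSupport

variable {X : Scheme.{u}} (M : X.Modules) {x ξ : X} (h : ξ ⤳ x)

/-- Scalars through the specialisation. -/
@[reducible] noncomputable def genModule : Module (X.presheaf.stalk x) (M.presheaf.stalk ξ) :=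
  Module.compHom _ (X.presheaf.stalkSpecializes h).hom

/-- The specialisation map of stalks. -/
noncomputable def specₗ :
    letI := genModule M h
    M.presheaf.stalk x →ₗ[X.presheaf.stalk x] M.presheaf.stalk ξ :=
  letI := genModule M h
  { toFun := M.presheaf.stalkSpecializes h
    map_add' := map_add _
    map_smul' := fun c t => by
      obtain ⟨V, hxV, a, rfl⟩ := TopCat.Presheaf.exists_germ_eq X.presheaf c
      obtain ⟨W, hxW, m, rfl⟩ := Groth.QCohMod.exists_germ M x t
      have hxO : x ∈ V ⊓ W := ⟨hxV, hxW⟩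
      have hξO : ξ ∈ V ⊓ W := h.mem_open (V ⊓ W).2 hxO
      rw [RingHom.id_apply, ← TopCat.Presheaf.germ_res_apply X.presheaf (homOfLE (inf_le_left (b := W))) x hxO a,
        ← Groth.QCohMod.germ_res M (inf_le_right (a := V)) x hxO m, ← Groth.QCohMod.germ_smul M x hxO]
      refine (TopCat.Presheaf.germ_stalkSpecializes_apply M.presheaf hxO h _).trans ?_
      refine (Groth.QCohMod.germ_smul M ξ hξO _ _).trans ?_
      exact (congrArg₂ (fun (c : X.presheaf.stalk ξ) (t : M.presheaf.stalk ξ) => c • t)
        (TopCat.Presheaf.germ_stalkSpecializes_apply X.presheaf hxO h _)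
        (TopCat.Presheaf.germ_stalkSpecializes_apply M.presheaf hxO h _)).symm }

theorem specₗ_germ {U : X.Opens} (hxU : x ∈ U) (m : Γ(M, U)) :
    specₗ M h (Groth.QCohMod.germ M x hxU m) = Groth.QCohMod.germ M ξ (h.mem_open U.2 hxU) m :=
  TopCat.Presheaf.germ_stalkSpecializes_apply M.presheaf hxU h m

theorem isLocalizedModule_spec [M.IsQuasicoherent] :
    letI := genModule M h
    IsLocalizedModule (Groth.Cycles.genPrime h).asIdeal.primeCompl (specₗ M h) := by
  letI := genModule M h
  obtain ⟨U, hU, hxU, -⟩ := exists_isAffineOpen_mem_and_subset (U := (⊤ : X.Opens)) (x := x) trivial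
  have hξU : ξ ∈ U := h.mem_open U.2 hxU
  have hmem : ∀ a : Γ(X, U), ξ ∈ X.basicOpen a →
      X.presheaf.germ U x hxU a ∉ (Groth.Cycles.genPrime h).asIdeal := fun a ha hp => by
    rw [Scheme.mem_basicOpen X a ξ hξU, ← X.presheaf.germ_stalkSpecializes_apply hxU h a] at ha
    exact (IsLocalRing.mem_maximalIdeal _).1 hp ha
  refine ⟨fun s => ?_, fun t => ?_, fun {u v} huv => ?_⟩
  · rw [Module.End.isUnit_iff]
    have hs : IsUnit ((X.presheaf.stalkSpecializes h).hom s.1) := by
      by_contra hc
      exact s.2 ((IsLocalRing.mem_maximalIdeal _).2 hc)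
    exact hs.smul_bijective
  · obtain ⟨a, m, ha, hm⟩ := Groth.QCohMod.exists_smul_germ_eq M hU ξ hξU t
    refine ⟨⟨Groth.QCohMod.germ M x hxU m, ⟨_, hmem a ha⟩⟩, ?_⟩
    change (X.presheaf.stalkSpecializes h).hom (X.presheaf.germ U x hxU a) • t = _
    rw [X.presheaf.germ_stalkSpecializes_apply hxU h a, hm, specₗ_germ]
  · obtain ⟨a, m, ha, hm⟩ := Groth.QCohMod.exists_smul_germ_eq M hU x hxU (u - v)
    have h0 : Groth.QCohMod.germ M ξ hξU m = 0 := by
      have h1 := specₗ_germ M h hxU m
      rw [← hm, map_smul, map_sub, huv, sub_self, smul_zero] at h1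
      exact h1.symm
    obtain ⟨b, hb, hbm⟩ := Groth.QCohMod.exists_smul_eq_zero_of_germ_eq_zero M hU ξ hξU m h0
    have haξ : ξ ∈ X.basicOpen a := h.mem_open (X.basicOpen a).2 ha
    refine ⟨⟨X.presheaf.germ U x hxU (b * a), hmem _ (by rw [Scheme.basicOpen_mul]; exact ⟨hb, haξ⟩)⟩, ?_⟩
    change X.presheaf.germ U x hxU (b * a) • u = X.presheaf.germ U x hxU (b * a) • v
    rw [← sub_eq_zero, ← smul_sub, map_mul, mul_smul, hm, ← Groth.QCohMod.germ_smul M x hxU, hbm, map_zero]

/-- The length at a prime of the stalk is the length of the stalk at the generisation. -/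
theorem lq_stalk [M.IsQuasicoherent] :
    Groth.MilnorKLambda.Per.lq (Groth.Cycles.genPrime h).asIdeal (M.presheaf.stalk x) =
      Module.length (X.presheaf.stalk ξ) (M.presheaf.stalk ξ) := by
  letI := genModule M h
  haveI := isLocalizedModule_spec M h
  letI := (X.presheaf.stalkSpecializes h).hom.toAlgebra
  haveI : IsScalarTower (X.presheaf.stalk x) (X.presheaf.stalk ξ) (M.presheaf.stalk ξ) :=
    IsScalarTower.of_algebraMap_smul fun _ _ => rfl
  haveI := Groth.Cycles.isLocalization_stalkSpecializes h
  let e : Localization.AtPrime (Groth.Cycles.genPrime h).asIdeal ≃ₐ[X.presheaf.stalk x] X.presheaf.stalk ξ :=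
    IsLocalization.algEquiv (Groth.Cycles.genPrime h).asIdeal.primeCompl _ _
  letI : Algebra (Localization.AtPrime (Groth.Cycles.genPrime h).asIdeal) (X.presheaf.stalk ξ) :=
    e.toRingEquiv.toRingHom.toAlgebra
  letI : Module (Localization.AtPrime (Groth.Cycles.genPrime h).asIdeal) (M.presheaf.stalk ξ) :=
    Module.compHom _ e.toRingEquiv.toRingHom
  haveI : IsScalarTower (X.presheaf.stalk x) (Localization.AtPrime (Groth.Cycles.genPrime h).asIdeal)
      (M.presheaf.stalk ξ) := IsScalarTower.of_algebraMap_smul fun r t => by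
    change e (algebraMap _ _ r) • t = _
    rw [AlgEquiv.commutes, algebraMap_smul]
  haveI : IsScalarTower (Localization.AtPrime (Groth.Cycles.genPrime h).asIdeal) (X.presheaf.stalk ξ)
      (M.presheaf.stalk ξ) := IsScalarTower.of_algebraMap_smul fun _ _ => rfl
  rw [Groth.MilnorKLambda.Per.lq, ((IsLocalizedModule.iso (Groth.Cycles.genPrime h).asIdeal.primeCompl
    (specₗ M h)).extendScalarsOfIsLocalization (Groth.Cycles.genPrime h).asIdeal.primeCompl
      (Localization.AtPrime (Groth.Cycles.genPrime h).asIdeal)).length_eq]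
  exact Module.length_eq_of_surjective (R := X.presheaf.stalk ξ)
    (S := Localization.AtPrime (Groth.Cycles.genPrime h).asIdeal) (M := M.presheaf.stalk ξ) e.surjective

theorem genPrime_mem_support_iff [M.IsQuasicoherent] :
    Groth.Cycles.genPrime h ∈ Module.support (X.presheaf.stalk x) (M.presheaf.stalk x) ↔
      Nontrivial (M.presheaf.stalk ξ) := by
  letI := genModule M h
  haveI := isLocalizedModule_spec M h
  rw [Module.mem_support_iff]
  exact (IsLocalizedModule.iso (Groth.Cycles.genPrime h).asIdeal.primeCompl (specₗ M h)).toEquiv.nontrivial_congr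

end Groth.Calg6.StalkSupport
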