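import Groth.Agent.Calg6.DiagStalk
import Groth.Agent.Calg6.ChiFormula
import Groth.Agent.S6470
import Groth.Agent.CycInter.ExtProd
import Groth.Agent.EtaleAlgebra.EtaleCriterion
import Groth.Agent.VarietyBC.TensorAlgClosed
import Mathlib.AlgebraicGeometry.PullbackCarrier

/-!
The component of a product of two closed subvarieties through a point of the diagonal.
-/

set_option autoImplicit false
set_option linter.style.haveILetI false

universe u

open CategoryTheory CategoryTheory.Limits AlgebraicGeometry TensorProduct IsLocalRing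
open Groth.Calg6.DiagStalk

namespace Groth.Calg6.DiagCycle

variable {X Y : Scheme.{u}}

/-- The prime of a generalisation pulls back to the prime of its image. -/
theorem comap_genPrime (h : Y ⟶ X) {y t : Y} {x a : X} (hs : t ⤳ y) (hx : h y = x) (ha : h t = a)
    (hsa : a ⤳ x) :
    (Groth.Cycles.genPrime hs).asIdeal.comap (stalkMapAt h y x hx).hom =
      (Groth.Cycles.genPrime hsa).asIdeal := by
  subst hx ha
  rw [stalkMapAt_rfl]
  refine congrArg PrimeSpectrum.asIdeal ((X.fromSpecStalk (h y)).isEmbedding.injective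
    (a₁ := (Spec.map (h.stalkMap y)) (Groth.Cycles.genPrime hs)) (a₂ := Groth.Cycles.genPrime hsa) ?_)
  rw [Groth.Cycles.fromSpecStalk_genPrime, ← Scheme.Hom.comp_apply, Scheme.SpecMap_stalkMap_fromSpecStalk,
    Scheme.Hom.comp_apply, Groth.Cycles.fromSpecStalk_genPrime]

/-- Generalisation commutes with the maps of local rings. -/
theorem stalkSpecializes_stalkMapAt (h : Y ⟶ X) {y t : Y} {x a : X} (hs : t ⤳ y) (hx : h y = x) (ha : h t = a)
    (hsa : a ⤳ x) :
    X.presheaf.stalkSpecializes hsa ≫ stalkMapAt h t a ha =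
      stalkMapAt h y x hx ≫ Y.presheaf.stalkSpecializes hs := by
  subst hx ha
  rw [stalkMapAt_rfl, stalkMapAt_rfl]
  exact Scheme.Hom.stalkSpecializes_stalkMap h t y hs

/-- The prime of a point generates the maximal ideal of its local ring. -/
theorem map_genPrime_eq_maximalIdeal {x a : X} (h : a ⤳ x) :
    (Groth.Cycles.genPrime h).asIdeal.map (X.presheaf.stalkSpecializes h).hom =
      maximalIdeal (X.presheaf.stalk a) := by
  letI := (X.presheaf.stalkSpecializes h).hom.toAlgebra
  haveI := Groth.Cycles.isLocalization_stalkSpecializes h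
  exact IsLocalization.AtPrime.map_eq_maximalIdeal (Groth.Cycles.genPrime h).asIdeal (X.presheaf.stalk a)

variable {K : Type u} [Field K] (f : X ⟶ Spec (CommRingCat.of K)) [Smooth f]

/-- Reduction to the diagonal at a point of a smooth scheme over a field. -/
theorem chi_diag_point (x : X) (z : ↥(pullback f f)) (hz : pullback.diagonal f x = z)
    (hz₁ : pullback.fst f f z = x) (hz₂ : pullback.snd f f z = x) (I J : Ideal (X.presheaf.stalk x)) :
    IntMult.chi ((pullback f f).presheaf.stalk z)
      ((pullback f f).presheaf.stalk z ⧸ RingHom.ker (stalkMapAt (pullback.diagonal f) x z hz).hom)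
      ((pullback f f).presheaf.stalk z ⧸ (I.map (stalkMapAt (pullback.fst f f) z x hz₁).hom ⊔
        J.map (stalkMapAt (pullback.snd f f) z x hz₂).hom)) =
      IntMult.chi (X.presheaf.stalk x) (X.presheaf.stalk x ⧸ J) (X.presheaf.stalk x ⧸ I) := by
  obtain ⟨U₀, hU₀, U, hU, hxU, hle, hstd⟩ := Smooth.exists_isStandardSmooth f x
  obtain rfl : U₀ = ⊤ := top_le_iff.1 fun z _ => (Subsingleton.elim (f x) z) ▸ hle hxU
  let φ : K →+* Γ(X, U) := (f.appLE ⊤ U hle).hom.comp (Scheme.ΓSpecIso (CommRingCat.of K)).inv.hom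
  have hφ : φ.IsStandardSmooth := RingHom.isStandardSmooth_respectsIso.2 _
    (Scheme.ΓSpecIso (CommRingCat.of K)).commRingCatIsoToRingEquiv.symm hstd
  obtain ⟨n', g, hg, hget⟩ := hφ.exists_etale_mvPolynomial
  letI : Algebra K Γ(X, U) := φ.toAlgebra
  letI : Algebra (MvPolynomial (Fin n') K) Γ(X, U) := g.toAlgebra
  haveI : IsScalarTower K (MvPolynomial (Fin n') K) Γ(X, U) := IsScalarTower.of_algebraMap_eq' hg.symm
  haveI : Algebra.Etale (MvPolynomial (Fin n') K) Γ(X, U) := hget
  haveI : Algebra.FiniteType K Γ(X, U) :=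
    Algebra.FiniteType.trans (S := MvPolynomial (Fin n') K) inferInstance inferInstance
  letI : Algebra Γ(X, U) (X.presheaf.stalk x) := TopCat.Presheaf.algebra_section_stalk X.presheaf ⟨x, hxU⟩
  let m := (hU.primeIdealOf ⟨x, hxU⟩).asIdeal
  haveI : IsLocalization.AtPrime (X.presheaf.stalk x) m := hU.isLocalization_stalk ⟨x, hxU⟩
  letI algK : Algebra (CommRingCat.of K) (X.presheaf.stalk x) := (Groth.Calg6.ProdStalk.baseHom f x).hom.toAlgebra
  letI algK' : Algebra K (X.presheaf.stalk x) := algK
  haveI : IsScalarTower K Γ(X, U) (X.presheaf.stalk x) := IsScalarTower.of_algebraMap_eq fun r =>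
    (congr($(Groth.Calg6.ProdStalk.baseHom_appLE f x U hxU hle).hom r)).symm
  letI : Algebra (MvPolynomial (Fin n') K) (X.presheaf.stalk x) :=
    ((algebraMap Γ(X, U) (X.presheaf.stalk x)).comp (algebraMap (MvPolynomial (Fin n') K) Γ(X, U))).toAlgebra
  haveI : IsScalarTower (MvPolynomial (Fin n') K) Γ(X, U) (X.presheaf.stalk x) := IsScalarTower.of_algebraMap_eq' rfl
  haveI : IsScalarTower K (MvPolynomial (Fin n') K) (X.presheaf.stalk x) := IsScalarTower.of_algebraMap_eq fun r => by
    rw [IsScalarTower.algebraMap_apply K Γ(X, U) (X.presheaf.stalk x),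
      IsScalarTower.algebraMap_apply (MvPolynomial (Fin n') K) Γ(X, U) (X.presheaf.stalk x),
      ← IsScalarTower.algebraMap_apply K (MvPolynomial (Fin n') K) Γ(X, U)]
  haveI : Module.Flat Γ(X, U) (X.presheaf.stalk x) := IsLocalization.flat _ m.primeCompl
  haveI : Algebra.EssFiniteType Γ(X, U) (X.presheaf.stalk x) := Algebra.EssFiniteType.of_isLocalization _ m.primeCompl
  haveI : Algebra.EssFiniteType K (X.presheaf.stalk x) := Algebra.EssFiniteType.comp K Γ(X, U) _
  haveI : IsNoetherianRing (X.presheaf.stalk x) := Algebra.EssFiniteType.isNoetherianRing K _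
  haveI : Algebra.FormallyUnramified Γ(X, U) (X.presheaf.stalk x) :=
    Algebra.FormallyUnramified.of_isLocalization m.primeCompl
  haveI : Algebra.FormallyUnramified (MvPolynomial (Fin n') K) (X.presheaf.stalk x) :=
    Algebra.FormallyUnramified.comp _ Γ(X, U) _
  haveI : Module.Flat (MvPolynomial (Fin n') K) Γ(X, U) := inferInstance
  haveI : Module.Flat (MvPolynomial (Fin n') K) (X.presheaf.stalk x) := Module.Flat.trans _ Γ(X, U) _
  obtain ⟨π, hl, hr, hloc⟩ := exists_pi f f z x x hz₁ hz₂
  let δ := (stalkMapAt (pullback.diagonal f) x z hz).hom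
  have hδ : δ.comp π = (Algebra.TensorProduct.lmul' (CommRingCat.of K) (S := X.presheaf.stalk x)).toRingHom := by
    have e₁ : stalkMapAt (pullback.fst f f) z x hz₁ ≫ stalkMapAt (pullback.diagonal f) x z hz = 𝟙 _ := by
      rw [stalkMapAt_comp _ _ x z x hz hz₁ (by rw [pullback.diagonal_fst]; rfl),
        stalkMapAt_congr (pullback.diagonal_fst f) x x _ rfl, stalkMapAt_id]
    have e₂ : stalkMapAt (pullback.snd f f) z x hz₂ ≫ stalkMapAt (pullback.diagonal f) x z hz = 𝟙 _ := by
      rw [stalkMapAt_comp _ _ x z x hz hz₂ (by rw [pullback.diagonal_snd]; rfl),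
        stalkMapAt_congr (pullback.diagonal_snd f) x x _ rfl, stalkMapAt_id]
    refine RingHom.ext fun c => ?_
    induction c using TensorProduct.induction_on with
    | zero => simp only [map_zero]
    | add c d hc hd => simp only [map_add, hc, hd]
    | tmul c d =>
      change δ (π _) = Algebra.TensorProduct.lmul' (CommRingCat.of K) _
      rw [Algebra.TensorProduct.lmul'_apply_tmul,
        show c ⊗ₜ[(CommRingCat.of K)] d = (c ⊗ₜ[(CommRingCat.of K)] (1 : X.presheaf.stalk x)) *
            ((1 : X.presheaf.stalk x) ⊗ₜ[(CommRingCat.of K)] d) by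
          rw [Algebra.TensorProduct.tmul_mul_tmul, mul_one, one_mul], map_mul, map_mul]
      refine congrArg₂ (· * ·) ?_ ?_
      · exact (congrArg δ (congrArg (fun h => h c) hl)).trans congr($(e₁).hom c)
      · exact (congrArg δ (congrArg (fun h => h d) hr)).trans congr($(e₂).hom d)
  have h := Groth.Calg6.Diag.chi_reduce (n := n') K (X.presheaf.stalk x) π hloc δ hδ I J
  refine Eq.trans ?_ h
  rw [← hl, ← hr]

omit [Smooth f] in
/-- The two primes of generalisations span a prime of the local ring at the diagonal. -/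
theorem isPrime_sup [IsAlgClosed K] (x : X) (z : ↥(pullback f f)) (hz₁ : pullback.fst f f z = x)
    (hz₂ : pullback.snd f f z = x) (I J : Ideal (X.presheaf.stalk x)) [I.IsPrime] [J.IsPrime] :
    let L := I.map (stalkMapAt (pullback.fst f f) z x hz₁).hom ⊔ J.map (stalkMapAt (pullback.snd f f) z x hz₂).hom
    L.IsPrime ∧ L.comap (stalkMapAt (pullback.fst f f) z x hz₁).hom = I ∧
      L.comap (stalkMapAt (pullback.snd f f) z x hz₂).hom = J := by
  intro L
  letI : Algebra (CommRingCat.of K) (X.presheaf.stalk x) := (Groth.Calg6.ProdStalk.baseHom f x).hom.toAlgebra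
  letI : Algebra K (X.presheaf.stalk x) := (Groth.Calg6.ProdStalk.baseHom f x).hom.toAlgebra
  obtain ⟨π, hl, hr, hloc⟩ := exists_pi f f z x x hz₁ hz₂
  letI := π.toAlgebra
  haveI := hloc
  let A := X.presheaf.stalk x
  let φ : A ⊗[K] A →ₐ[K] (A ⧸ I) ⊗[K] (A ⧸ J) :=
    Algebra.TensorProduct.map (Ideal.Quotient.mkₐ K I) (Ideal.Quotient.mkₐ K J)
  haveI : IsDomain ((A ⧸ I) ⊗[K] (A ⧸ J)) := Groth.VarietyBC.isDomain_tensor
  haveI hk : (RingHom.ker φ).IsPrime := RingHom.ker_isPrime φ
  have hL : L = (RingHom.ker φ).map π := by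
    rw [Algebra.TensorProduct.map_ker _ _ Ideal.Quotient.mk_surjective Ideal.Quotient.mk_surjective, Ideal.map_sup]
    have e₁ : RingHom.ker (Ideal.Quotient.mkₐ K I) = I := Ideal.mk_ker
    have e₂ : RingHom.ker (Ideal.Quotient.mkₐ K J) = J := Ideal.mk_ker
    rw [e₁, e₂]
    change I.map _ ⊔ J.map _ = _
    rw [← hl, ← hr, ← Ideal.map_map, ← Ideal.map_map]
    rfl
  have hle : L ≤ maximalIdeal _ :=
    sup_le (Ideal.map_le_iff_le_comap.2 ((le_maximalIdeal Ideal.IsPrime.ne_top').trans
        (IsLocalRing.maximalIdeal_comap (stalkMapAt (pullback.fst f f) z x hz₁).hom).ge))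
      (Ideal.map_le_iff_le_comap.2 ((le_maximalIdeal Ideal.IsPrime.ne_top').trans
        (IsLocalRing.maximalIdeal_comap (stalkMapAt (pullback.snd f f) z x hz₂).hom).ge))
  have hdisj : Disjoint (((maximalIdeal ((pullback f f).presheaf.stalk z)).comap π).primeCompl : Set (A ⊗[K] A))
      (RingHom.ker φ : Set (A ⊗[K] A)) :=
    Set.disjoint_left.2 fun c hc hc' => hc (hle (hL ▸ Ideal.mem_map_of_mem π hc'))
  have hcomap : L.comap π = RingHom.ker φ := by
    rw [hL]
    exact IsLocalization.under_map_of_isPrime_disjoint _ ((pullback f f).presheaf.stalk z) hk hdisj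
  refine ⟨hL ▸ IsLocalization.isPrime_of_isPrime_disjoint _ ((pullback f f).presheaf.stalk z) _ hk hdisj, ?_, ?_⟩
  · ext c
    rw [← hl, ← Ideal.comap_comap, hcomap, Ideal.mem_comap, RingHom.mem_ker]
    change φ (c ⊗ₜ[K] (1 : A)) = 0 ↔ c ∈ I
    rw [Algebra.TensorProduct.map_tmul, map_one, ← Ideal.Quotient.eq_zero_iff_mem]
    exact map_eq_zero_iff (Algebra.TensorProduct.includeLeft (R := K) (S := K) (A := A ⧸ I) (B := A ⧸ J))
      (Algebra.TensorProduct.includeLeft_injective (algebraMap K (A ⧸ J)).injective)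
  · ext c
    rw [← hr, ← Ideal.comap_comap, hcomap, Ideal.mem_comap, RingHom.mem_ker]
    change φ ((1 : A) ⊗ₜ[K] c) = 0 ↔ c ∈ J
    rw [Algebra.TensorProduct.map_tmul, map_one, ← Ideal.Quotient.eq_zero_iff_mem]
    exact map_eq_zero_iff (Algebra.TensorProduct.includeRight (R := K) (A := A ⧸ I) (B := A ⧸ J))
      (Algebra.TensorProduct.includeRight_injective (algebraMap K (A ⧸ I)).injective)

/-- The component through a diagonal point of the product of two point closures. -/
theorem exists_component [IsAlgClosed K] [IsSeparated f] [QuasiCompact f] [IsIntegral X] {δ : X → ℤ}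
    (hδ : Cyc.DeltaCompat f δ fun _ => 0) {δ₂ : ↥(pullback f f) → ℤ}
    (h₂ : Cyc.DeltaCompat (pullback.fst f f ≫ f) δ₂ fun _ => 0) (x a b : X) (ha : a ⤳ x) (hb : b ⤳ x) :
    ∃ w : ↥(pullback f f), w ⤳ pullback.diagonal f x ∧ pullback.fst f f w = a ∧ pullback.snd f f w = b ∧
      δ₂ w = δ a + δ b ∧
      ((Module.length ((pullback f f).presheaf.stalk w) ((pullback f f).presheaf.stalk w ⧸
        (Groth.CycleLimits.fibreIdeal (pullback.fst f f) w ⊔
          Groth.CycleLimits.fibreIdeal (pullback.snd f f) w))).toNat : ℤ) = 1 ∧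
      IntMult.mult (IntMult.ptIdeal (pullback.diagonal f (genericPoint X))) (IntMult.ptIdeal w)
        (pullback.diagonal f x) = IntMult.mult (IntMult.ptIdeal a) (IntMult.ptIdeal b) x ∧
      ∀ w' : ↥(pullback f f), w' ⤳ pullback.diagonal f x → pullback.fst f f w' = a →
        pullback.snd f f w' = b → δ₂ w' = δ a + δ b → w' = w := by
  set z := pullback.diagonal f x with hz
  have hz₁ : pullback.fst f f z = x := by rw [hz, ← Scheme.Hom.comp_apply, pullback.diagonal_fst]; rfl
  have hz₂ : pullback.snd f f z = x := by rw [hz, ← Scheme.Hom.comp_apply, pullback.diagonal_snd]; rfl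
  let I := (Groth.Cycles.genPrime ha).asIdeal
  let J := (Groth.Cycles.genPrime hb).asIdeal
  obtain ⟨hL, hLI, hLJ⟩ := isPrime_sup f x z hz₁ hz₂ I J
  let Q : PrimeSpectrum ((pullback f f).presheaf.stalk z) :=
    ⟨I.map (stalkMapAt (pullback.fst f f) z x hz₁).hom ⊔ J.map (stalkMapAt (pullback.snd f f) z x hz₂).hom, hL⟩
  set w := (pullback f f).fromSpecStalk z Q with hw
  have hwz : w ⤳ z := Scheme.range_fromSpecStalk.le ⟨Q, rfl⟩
  have hQ : Groth.Cycles.genPrime hwz = Q := Groth.Cycles.genPrime_fromSpecStalk Q hwz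
  have hw₁ : pullback.fst f f w = a := by
    have hs : pullback.fst f f w ⤳ x := hz₁ ▸ hwz.map (pullback.fst f f).continuous
    rw [← Groth.Cycles.fromSpecStalk_genPrime hs, ← Groth.Cycles.fromSpecStalk_genPrime ha]
    congr 1
    refine PrimeSpectrum.ext ?_
    rw [← comap_genPrime (pullback.fst f f) hwz hz₁ rfl hs, hQ]
    exact hLI
  have hw₂ : pullback.snd f f w = b := by
    have hs : pullback.snd f f w ⤳ x := hz₂ ▸ hwz.map (pullback.snd f f).continuous
    rw [← Groth.Cycles.fromSpecStalk_genPrime hs, ← Groth.Cycles.fromSpecStalk_genPrime hb]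
    congr 1
    refine PrimeSpectrum.ext ?_
    rw [← comap_genPrime (pullback.snd f f) hwz hz₂ rfl hs, hQ]
    exact hLJ
  -- the largest such point
  have hmax : ∀ (t : ↥(pullback f f)) (ht : t ⤳ z), pullback.fst f f t = a → pullback.snd f f t = b →
      w ⤳ t := by
    intro t ht h1 h2
    have hle : Q.asIdeal ≤ (Groth.Cycles.genPrime ht).asIdeal :=
      sup_le (Ideal.map_le_iff_le_comap.2 (comap_genPrime (pullback.fst f f) ht hz₁ h1 ha).ge)
        (Ideal.map_le_iff_le_comap.2 (comap_genPrime (pullback.snd f f) ht hz₂ h2 hb).ge)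
    have := ((PrimeSpectrum.le_iff_specializes Q (Groth.Cycles.genPrime ht)).1 hle).map
      ((pullback f f).fromSpecStalk z).continuous
    rwa [Groth.Cycles.fromSpecStalk_genPrime] at this
  have hdelta : δ₂ w = δ a + δ b := by
    obtain ⟨W, j, _, _, _, hjr, hjη⟩ := Groth.Cycles.closure_scheme b
    have : IsIntegral W := isIntegral_of_irreducibleSpace_of_isReduced W
    obtain ⟨v, hv, -⟩ := Scheme.Pullback.exists_preimage_pullback (f := pullback.snd f f) (g := j) w
      (genericPoint W) (hw₂.trans hjη.symm)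
    have hgen : Groth.CycleLimits.IsFibreGeneric (pullback.fst (pullback.snd f f) j ≫ pullback.fst f f) v := by
      intro t ht hts
      have hts' : pullback.fst (pullback.snd f f) j t ⤳ w := hv ▸ hts.map (pullback.fst _ j).continuous
      have h1 : pullback.fst f f (pullback.fst (pullback.snd f f) j t) = a := by
        rw [← Scheme.Hom.comp_apply, ht, Scheme.Hom.comp_apply, hv, hw₁]
      have h2 : pullback.snd f f (pullback.fst (pullback.snd f f) j t) = b := by
        refine (Specializes.antisymm ?_ ?_).eq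
        · exact hw₂ ▸ hts'.map (pullback.snd f f).continuous
        · rw [← Scheme.Hom.comp_apply, pullback.condition, Scheme.Hom.comp_apply]
          exact specializes_iff_mem_closure.2 (hjr.le ⟨_, rfl⟩)
      have heq := (hts'.antisymm (hmax _ (hts'.trans hwz) h1 h2)).eq
      exact (pullback.fst (pullback.snd f f) j).isEmbedding.injective (heq.trans hv.symm)
    have h := Groth.CycInter.Ext.delta_fibreGeneric f f (pullback.fst f f) (pullback.snd f f)
      (IsPullback.of_hasPullback f f) hδ hδ h₂ j v hgen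
    rwa [hv, Scheme.Hom.comp_apply, hv, hw₁, hjη] at h
  refine ⟨w, hwz, hw₁, hw₂, hdelta, ?_, ?_, fun w' hw' h1 h2 hd => ?_⟩
  · have hmax' : maximalIdeal ((pullback f f).presheaf.stalk w) ≤
        Groth.CycleLimits.fibreIdeal (pullback.fst f f) w ⊔ Groth.CycleLimits.fibreIdeal (pullback.snd f f) w := by
      rw [← map_genPrime_eq_maximalIdeal hwz, hQ]
      change Ideal.map _ (_ ⊔ _) ≤ _
      rw [Ideal.map_sup, Ideal.map_map, Ideal.map_map]
      refine sup_le_sup ?_ ?_
      · have hs : pullback.fst f f w ⤳ x := hz₁ ▸ hwz.map (pullback.fst f f).continuous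
        rw [← CommRingCat.hom_comp, ← stalkSpecializes_stalkMapAt (pullback.fst f f) hwz hz₁ rfl hs,
          CommRingCat.hom_comp, ← Ideal.map_map, stalkMapAt_rfl]
        refine Ideal.map_mono (le_of_eq ?_)
        rw [← map_genPrime_eq_maximalIdeal hs]
        exact congrArg (Ideal.map _) ((comap_genPrime (pullback.fst f f) hwz hz₁ hw₁ ha).symm.trans
          (comap_genPrime (pullback.fst f f) hwz hz₁ rfl hs))
      · have hs : pullback.snd f f w ⤳ x := hz₂ ▸ hwz.map (pullback.snd f f).continuous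
        rw [← CommRingCat.hom_comp, ← stalkSpecializes_stalkMapAt (pullback.snd f f) hwz hz₂ rfl hs,
          CommRingCat.hom_comp, ← Ideal.map_map, stalkMapAt_rfl]
        refine Ideal.map_mono (le_of_eq ?_)
        rw [← map_genPrime_eq_maximalIdeal hs]
        exact congrArg (Ideal.map _) ((comap_genPrime (pullback.snd f f) hwz hz₂ hw₂ hb).symm.trans
          (comap_genPrime (pullback.snd f f) hwz hz₂ rfl hs))
    have hne : ∀ (p : pullback f f ⟶ X), Groth.CycleLimits.fibreIdeal p w ≤ maximalIdeal _ := fun p =>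
      le_maximalIdeal (Groth.CycleLimits.fibreIdeal_ne_top p w)
    rw [le_antisymm (sup_le (hne _) (hne _)) hmax']
    rw [Module.length_eq_one_iff.2 (isSimpleModule_iff_isCoatom.2
      (maximalIdeal.isMaximal ((pullback f f).presheaf.stalk w)).out), ENat.toNat_one, Nat.cast_one]
  · have hη : genericPoint X ⤳ x := genericPoint_specializes x
    have hηz : pullback.diagonal f (genericPoint X) ⤳ z := hη.map (pullback.diagonal f).continuous
    have hbot : (Groth.Cycles.genPrime hη).asIdeal = ⊥ := by
      have h := (Groth.Cycles.genPrime_mem_minimalPrimes_iff hη).2 fun y hy =>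
        (hy.antisymm (genericPoint_specializes y)).eq
      rwa [IsDomain.minimalPrimes_eq_singleton_bot] at h
    have hker : (Groth.Cycles.genPrime hηz).asIdeal =
        RingHom.ker (stalkMapAt (pullback.diagonal f) x z hz.symm).hom := by
      rw [← comap_genPrime (pullback.diagonal f) hη hz.symm rfl hηz, hbot]
      rfl
    rw [IntMult.mult, IntMult.mult, Groth.Agent.S6470.stalkIdeal_ptIdeal hηz,
      Groth.Agent.S6470.stalkIdeal_ptIdeal hwz, Groth.Agent.S6470.stalkIdeal_ptIdeal ha,
      Groth.Agent.S6470.stalkIdeal_ptIdeal hb, hker, hQ, Groth.Calg6.Diag.intMult_chi_symm]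
    exact chi_diag_point f x z hz.symm hz₁ hz₂ I J
  · by_contra hne
    have := ((Groth.CycInter.Ext.isSetup_field (pullback.fst f f ≫ f) h₂).2.2 w w' (hmax w' hw' h1 h2)
      (Ne.symm hne)).1
    omega

end Groth.Calg6.DiagCycle
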