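import Groth.Agent.Calg6.DiagTor
import Groth.Agent.VarietyBC.ProjInter
import Mathlib.RingTheory.Ideal.GoingDown
import Mathlib.LinearAlgebra.TensorProduct.Quotient
import Mathlib.LinearAlgebra.TensorProduct.RightExactness
import Mathlib.RingTheory.KrullDimension.Module

/-!
The dimension of the support of `A/Q ⊗_k A/P` at the diagonal closed point.
-/

set_option autoImplicit false
set_option backward.isDefEq.respectTransparency false

universe u

open TensorProduct IsLocalRing

namespace Groth.Calg6.Diag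

variable (k : Type u) [Field k] (A : Type u) [CommRing A] [Algebra k A] [IsLocalRing A]

theorem finite_E' (N M : Type u) [AddCommGroup N] [Module k N] [Module A N] [IsScalarTower k A N]
    [AddCommGroup M] [Module k M] [Module A M] [IsScalarTower k A M] [Module.Finite A M] [Module.Finite A N] :
    Module.Finite (Cq k A) (E k A N M) :=
  haveI := W.finite (k := k) (A := A) (N := N) (M := M)
  haveI : Module.Finite (Cq k A) (Cq k A ⊗[A ⊗[k] A] W k N M) := inferInstance
  Module.Finite.equiv (toE k A N M)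

omit [IsLocalRing A] in
/-- A generator of `A/I ⊗_k A/J` and its annihilator. -/
theorem exists_quotEquiv_W (I J : Ideal A) :
    Nonempty (((A ⊗[k] A) ⧸ (I.map (Algebra.TensorProduct.includeLeft : A →ₐ[k] A ⊗[k] A) ⊔
      J.map (Algebra.TensorProduct.includeRight : A →ₐ[k] A ⊗[k] A))) ≃ₗ[A ⊗[k] A] W k (A ⧸ I) (A ⧸ J)) := by
  let f := LinearMap.toSpanSingleton (A ⊗[k] A) (W k (A ⧸ I) (A ⧸ J)) (mkW 1 1)
  let g := Algebra.TensorProduct.map (Ideal.Quotient.mkₐ k I) (Ideal.Quotient.mkₐ k J)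
  have hfg : ∀ c, f c = (g c : (A ⧸ I) ⊗[k] (A ⧸ J)) := fun c => by
    induction c using TensorProduct.induction_on with
    | zero => exact (map_zero f).trans (map_zero g).symm
    | add x y hx hy =>
      rw [map_add, hx, hy, map_add]
    | tmul a b =>
      rw [LinearMap.toSpanSingleton_apply, tmul_smul_mkW, Algebra.TensorProduct.map_tmul]
      change ((a • (1 : A ⧸ I)) ⊗ₜ[k] (b • (1 : A ⧸ J))) = _
      rw [Algebra.smul_def, Algebra.smul_def, mul_one, mul_one]
      rfl
  have hsurj : Function.Surjective f := fun w => by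
    obtain ⟨c, hc⟩ := Algebra.TensorProduct.map_surjective (Ideal.Quotient.mkₐ k I) (Ideal.Quotient.mkₐ k J)
      (Ideal.Quotient.mkₐ_surjective k I) (Ideal.Quotient.mkₐ_surjective k J) w
    exact ⟨c, (hfg c).trans hc⟩
  have hker : LinearMap.ker f = I.map (Algebra.TensorProduct.includeLeft : A →ₐ[k] A ⊗[k] A) ⊔
      J.map (Algebra.TensorProduct.includeRight : A →ₐ[k] A ⊗[k] A) := by
    have h : LinearMap.ker f = RingHom.ker g := SetLike.ext fun c => by
      rw [LinearMap.mem_ker, RingHom.mem_ker, hfg]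
    rw [h, Algebra.TensorProduct.map_ker _ _ (Ideal.Quotient.mkₐ_surjective k I)
      (Ideal.Quotient.mkₐ_surjective k J)]
    have hk : ∀ I : Ideal A, RingHom.ker (Ideal.Quotient.mkₐ k I) = I := fun I => Ideal.mk_ker
    rw [hk, hk]
  exact ⟨(Submodule.quotEquivOfEq _ _ hker.symm).trans (f.quotKerEquivOfSurjective hsurj)⟩

/-- The annihilator on the local ring of the diagonal. -/
theorem annihilator_E_le (I J : Ideal A) :
    Module.annihilator (Cq k A) (E k A (A ⧸ I) (A ⧸ J)) ≤
      (I.map (Algebra.TensorProduct.includeLeft : A →ₐ[k] A ⊗[k] A) ⊔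
        J.map (Algebra.TensorProduct.includeRight : A →ₐ[k] A ⊗[k] A)).map
        (algebraMap (A ⊗[k] A) (Cq k A)) := by
  obtain ⟨e⟩ := exists_quotEquiv_W k A I J
  set 𝔟 := I.map (Algebra.TensorProduct.includeLeft : A →ₐ[k] A ⊗[k] A) ⊔
    J.map (Algebra.TensorProduct.includeRight : A →ₐ[k] A ⊗[k] A)
  intro c hc
  have h := Module.mem_annihilator.1 hc (toE k A _ _ (1 ⊗ₜ e (Ideal.Quotient.mk 𝔟 1)))
  rw [← map_smul, LinearEquiv.map_eq_zero_iff, TensorProduct.smul_tmul', smul_eq_mul, mul_one] at h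
  have h2 := congrArg (fun z => tensorQuotEquivQuotSMul (Cq k A) 𝔟 (LinearEquiv.lTensor (Cq k A) e.symm z)) h
  simp only [LinearEquiv.lTensor_tmul, LinearEquiv.symm_apply_apply, map_zero, tensorQuotEquivQuotSMul_tmul_mk,
    one_smul, Submodule.Quotient.mk_eq_zero] at h2
  rwa [Ideal.smul_top_eq_map] at h2

/-- The product of the closures has a component of dimension at least `n` at the diagonal point. -/
theorem le_supportDim_E {B : Type u} [CommRing B] [Algebra k B] [Algebra.FiniteType k B] [Algebra B A]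
    [IsScalarTower k B A] [Module.Flat B A] (P Q : Ideal B) [P.IsPrime] [Q.IsPrime]
    (hP : P ≤ (maximalIdeal A).comap (algebraMap B A)) (hQ : Q ≤ (maximalIdeal A).comap (algebraMap B A))
    [IsNoetherianRing A] (n : ℕ)
    (hdim : ringKrullDim (B ⧸ (maximalIdeal A).comap (algebraMap B A)) + (n : WithBot ℕ∞) ≤
      ringKrullDim (B ⧸ Q) + ringKrullDim (B ⧸ P)) :
    (n : WithBot ℕ∞) ≤ Module.supportDim (Cq k A)
      (E k A (A ⧸ Q.map (algebraMap B A)) (A ⧸ P.map (algebraMap B A))) := by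
  set m := (maximalIdeal A).comap (algebraMap B A) with hm
  let ψ : (B ⧸ Q) ⊗[k] (B ⧸ P) →ₐ[k] B ⧸ m :=
    Algebra.TensorProduct.lift (Ideal.Quotient.factorₐ k hQ) (Ideal.Quotient.factorₐ k hP)
      fun _ _ => Commute.all _ _
  obtain ⟨p, hpq, hpd⟩ := Groth.VarietyBC.ProjInter.exists_prime_dim_tensor k (B ⧸ Q) (B ⧸ P)
    ⟨RingHom.ker ψ, RingHom.ker_isPrime _⟩
  let D := ((B ⧸ Q) ⊗[k] (B ⧸ P)) ⧸ p.asIdeal
  haveI hft := Groth.VarietyBC.ProjInter.finiteType_tensor k (B ⧸ Q) (B ⧸ P)
  haveI : Algebra.FiniteType k D := hft.of_surjective (Ideal.Quotient.mkₐ k p.asIdeal) (Ideal.Quotient.mkₐ_surjective _ _)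
  haveI : IsDomain D := Ideal.Quotient.isDomain p.asIdeal
  let ω : D →ₐ[k] B ⧸ m := Ideal.Quotient.liftₐ p.asIdeal ψ fun x hx => hpq hx
  have hω : Function.Surjective ω := fun z => by
    obtain ⟨b, rfl⟩ := Ideal.Quotient.mk_surjective z
    exact ⟨Ideal.Quotient.mk _ (Ideal.Quotient.mk Q b ⊗ₜ[k] 1), by simp [ω, ψ, D]⟩
  let qD : PrimeSpectrum D := ⟨RingHom.ker ω, RingHom.ker_isPrime _⟩
  have hht : (n : ℕ∞) ≤ Order.height qD := by
    have h1 := Groth.VarietyBC.ProjInter.dim_quotient_add_height k D qD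
    rw [ringKrullDim_eq_of_ringEquiv (RingHom.quotientKerEquivOfSurjective (f := ω.toRingHom) hω),
      PrimeSpectrum.height_eq_orderHeight] at h1
    have h2 := hdim.trans (hpd.trans h1.ge)
    obtain ⟨d, hd⟩ := Groth.VarietyBC.ProjInter.exists_dim_eq k (B ⧸ m)
    rw [hd] at h2
    generalize Order.height qD = t at h2 ⊢
    induction t using ENat.recTopCoe with
    | top => exact le_top
    | coe t =>
      have h3 : ((d + n : ℕ) : WithBot ℕ∞) ≤ ((d + t : ℕ) : WithBot ℕ∞) := by exact_mod_cast h2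
      have h4 : d + n ≤ d + t := by exact_mod_cast h3
      exact_mod_cast (by omega : n ≤ t)
  obtain ⟨l, hlast, hlen⟩ := Order.exists_series_of_le_height qD hht
  -- the chain in `B ⊗ B`
  let π₀ : B ⊗[k] B →ₐ[k] D := (Ideal.Quotient.mkₐ k p.asIdeal).comp
    (Algebra.TensorProduct.map (Ideal.Quotient.mkₐ k Q) (Ideal.Quotient.mkₐ k P))
  have hπ : Function.Surjective π₀ := (Ideal.Quotient.mkₐ_surjective k p.asIdeal).comp
    (Algebra.TensorProduct.map_surjective _ _ (Ideal.Quotient.mkₐ_surjective k Q) (Ideal.Quotient.mkₐ_surjective k P))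
  let l' : LTSeries (PrimeSpectrum (B ⊗[k] B)) := l.map (PrimeSpectrum.comap π₀.toRingHom) fun x y hxy => by
    refine lt_of_le_of_ne (Ideal.comap_mono hxy.le) fun h => hxy.ne ?_
    exact PrimeSpectrum.comap_injective_of_surjective π₀.toRingHom hπ h
  let f : B →ₐ[k] A := IsScalarTower.toAlgHom k B A
  let φ : B ⊗[k] B →ₐ[k] A ⊗[k] A := Algebra.TensorProduct.map f f
  letI : Algebra (B ⊗[k] B) (A ⊗[k] A) := φ.toRingHom.toAlgebra
  haveI : Module.Flat (B ⊗[k] B) (A ⊗[k] A) := by
    have h1 : φ.toRingHom.Flat := RingHom.Flat.tensorProductMap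
      (RingHom.flat_algebraMap_iff.2 inferInstance) (RingHom.flat_algebraMap_iff.2 inferInstance)
    exact h1
  haveI : Module.Flat (A ⊗[k] A) (Cq k A) := IsLocalization.flat _ (diagPt k A).primeCompl
  letI : Algebra (B ⊗[k] B) (Cq k A) := ((algebraMap (A ⊗[k] A) (Cq k A)).comp φ.toRingHom).toAlgebra
  haveI : IsScalarTower (B ⊗[k] B) (A ⊗[k] A) (Cq k A) := IsScalarTower.of_algebraMap_eq fun _ => rfl
  haveI : Module.Flat (B ⊗[k] B) (Cq k A) := Module.Flat.trans (B ⊗[k] B) (A ⊗[k] A) (Cq k A)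
  have key : ∀ c, ω (π₀ c) = Ideal.Quotient.mk m (Algebra.TensorProduct.lmul' k c) ∧
      algebraMap B A (Algebra.TensorProduct.lmul' k c) = Algebra.TensorProduct.lmul' k (φ c) := fun c => by
    induction c using TensorProduct.induction_on with
    | zero => simp
    | add x y hx hy => simp only [map_add, hx.1, hy.1, hx.2, hy.2, and_self]
    | tmul a b => exact ⟨by simp [ω, π₀, ψ, D], by simp [φ, f]⟩
  haveI : (maximalIdeal (Cq k A)).LiesOver l'.last.asIdeal := ⟨by
    rw [LTSeries.last_map, hlast]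
    ext c
    rw [Ideal.under_def, IsScalarTower.algebraMap_eq (B ⊗[k] B) (A ⊗[k] A) (Cq k A), ← Ideal.comap_comap,
      show (maximalIdeal (Cq k A)).comap (algebraMap (A ⊗[k] A) (Cq k A)) = diagPt k A from
        IsLocalization.AtPrime.under_maximalIdeal (Cq k A) (diagPt k A)]
    change ω (π₀ c) = 0 ↔ Algebra.TensorProduct.lmul' k (φ c) ∈ maximalIdeal A
    rw [(key c).1, ← (key c).2, Ideal.Quotient.eq_zero_iff_mem]
    rfl⟩
  obtain ⟨L, hLlen, -, hLmap⟩ := Ideal.exists_ltSeries_of_hasGoingDown l' (maximalIdeal (Cq k A))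
  have h0 : PrimeSpectrum.comap (algebraMap (B ⊗[k] B) (Cq k A)) L.head = l'.head := by
    rw [← L.toList_getElem_zero_eq_head, ← l'.toList_getElem_zero_eq_head,
      List.getElem_map_rev (PrimeSpectrum.comap (algebraMap (B ⊗[k] B) (Cq k A))), List.getElem_of_eq hLmap]
  have hmem : ∀ c : B ⊗[k] B, π₀ c = 0 → algebraMap (A ⊗[k] A) (Cq k A) (φ c) ∈ L.head.asIdeal := fun c hc => by
    have : c ∈ l'.head.asIdeal := by
      rw [LTSeries.head_map]
      show π₀ c ∈ l.head.asIdeal
      rw [hc]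
      exact zero_mem _
    rwa [← h0] at this
  haveI := finite_E' k A (A ⧸ Q.map (algebraMap B A)) (A ⧸ P.map (algebraMap B A))
  have hann : Module.annihilator (Cq k A) (E k A (A ⧸ Q.map (algebraMap B A)) (A ⧸ P.map (algebraMap B A))) ≤
      L.head.asIdeal := by
    refine (annihilator_E_le k A _ _).trans ?_
    rw [Ideal.map_sup, sup_le_iff]
    constructor
    · rw [Ideal.map_le_iff_le_comap, Ideal.map_le_iff_le_comap, Ideal.map_le_iff_le_comap]
      intro x hx
      have := hmem (x ⊗ₜ[k] 1) (by simp [π₀, D, Ideal.Quotient.eq_zero_iff_mem.2 hx])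
      simpa [φ, f] using this
    · rw [Ideal.map_le_iff_le_comap, Ideal.map_le_iff_le_comap, Ideal.map_le_iff_le_comap]
      intro x hx
      have := hmem (1 ⊗ₜ[k] x) (by simp [π₀, D, Ideal.Quotient.eq_zero_iff_mem.2 hx])
      simpa [φ, f] using this
  have hsupp : ∀ i, L i ∈ Module.support (Cq k A)
      (E k A (A ⧸ Q.map (algebraMap B A)) (A ⧸ P.map (algebraMap B A))) := fun i => by
    rw [Module.support_eq_zeroLocus]
    exact hann.trans (L.head_le i)
  have := Order.LTSeries.length_le_krullDim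
    (LTSeries.mk L.length (fun i => (⟨L i, hsupp i⟩ : Module.support (Cq k A)
      (E k A (A ⧸ Q.map (algebraMap B A)) (A ⧸ P.map (algebraMap B A))))) fun i j hij => L.strictMono hij)
  rw [show n = L.length from hlen.symm.trans hLlen.symm]
  exact this

end Groth.Calg6.Diag
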