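import Mathlib.RingTheory.TensorProduct.Maps
import Mathlib.RingTheory.Localization.AtPrime.Basic
import Mathlib.RingTheory.LocalRing.MaximalIdeal.Basic
import Mathlib.RingTheory.Flat.Localization
import Mathlib.RingTheory.Flat.Stability
import Mathlib.LinearAlgebra.TensorProduct.Tower
import Mathlib.LinearAlgebra.Basis.VectorSpace
import Mathlib.RingTheory.TensorProduct.Free
import Mathlib.RingTheory.Finiteness.Basic

/-!
The module `N ⊗_k M` over the local ring of `A ⊗_k A` at the diagonal closed point.
-/

set_option autoImplicit false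

universe u

open TensorProduct IsLocalRing

namespace Groth.Calg6.Diag

variable (k : Type u) [Field k] (A : Type u) [CommRing A] [Algebra k A]

/-- `N ⊗_k M` as a module over `A ⊗_k A`. -/
def W (N M : Type u) [AddCommGroup N] [Module k N] [AddCommGroup M] [Module k M] : Type u := N ⊗[k] M

noncomputable instance W.instAddCommGroup (N M : Type u) [AddCommGroup N] [Module k N] [AddCommGroup M]
    [Module k M] : AddCommGroup (W k N M) :=
  inferInstanceAs (AddCommGroup (N ⊗[k] M))

/-- The action of `A ⊗_k A` on `N ⊗_k M`. -/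
noncomputable def act (N M : Type u) [AddCommGroup N] [Module k N] [Module A N] [IsScalarTower k A N]
    [AddCommGroup M] [Module k M] [Module A M] [IsScalarTower k A M] :
    A ⊗[k] A →ₐ[k] Module.End k (N ⊗[k] M) :=
  Algebra.TensorProduct.lift
    ((Module.End.rTensorAlgHom k N M).comp (Algebra.lsmul k k N))
    ((Module.End.lTensorAlgHom k M N).comp (Algebra.lsmul k k M))
    fun a b => TensorProduct.ext' fun x y => by
      change (LinearMap.rTensor M _) ((LinearMap.lTensor N _) (x ⊗ₜ[k] y)) =
        (LinearMap.lTensor N _) ((LinearMap.rTensor M _) (x ⊗ₜ[k] y))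
      simp only [LinearMap.lTensor_tmul, LinearMap.rTensor_tmul]

noncomputable instance W.instModule (N M : Type u) [AddCommGroup N] [Module k N] [Module A N]
    [IsScalarTower k A N] [AddCommGroup M] [Module k M] [Module A M] [IsScalarTower k A M] :
    Module (A ⊗[k] A) (W k N M) :=
  Module.compHom (N ⊗[k] M) (act k A N M).toRingHom

variable {k A}
variable {N M M' : Type u} [AddCommGroup N] [Module k N] [Module A N] [IsScalarTower k A N]
  [AddCommGroup M] [Module k M] [Module A M] [IsScalarTower k A M]
  [AddCommGroup M'] [Module k M'] [Module A M'] [IsScalarTower k A M']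

/-- pure tensors -/
def mkW (x : N) (y : M) : W k N M := (x ⊗ₜ[k] y : N ⊗[k] M)

theorem tmul_smul_mkW (a b : A) (x : N) (y : M) :
    (a ⊗ₜ[k] b) • (mkW x y : W k N M) = mkW (a • x) (b • y) := by
  change (act k A N M (a ⊗ₜ[k] b)) (x ⊗ₜ[k] y) = _
  rw [act, Algebra.TensorProduct.lift_tmul]
  rfl

theorem W.induction {p : W k N M → Prop} (w : W k N M) (h0 : p 0) (hm : ∀ x y, p (mkW x y))
    (ha : ∀ u v, p u → p v → p (u + v)) : p w :=
  TensorProduct.induction_on (motive := p) w h0 hm ha

theorem mkW_zero_left (y : M) : (mkW 0 y : W k N M) = 0 := TensorProduct.zero_tmul N y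

theorem mkW_zero_right (x : N) : (mkW x 0 : W k N M) = 0 := TensorProduct.tmul_zero M x

theorem mkW_add_left (x x' : N) (y : M) : (mkW (x + x') y : W k N M) = mkW x y + mkW x' y :=
  TensorProduct.add_tmul x x' y

theorem mkW_add_right (x : N) (y y' : M) : (mkW x (y + y') : W k N M) = mkW x y + mkW x y' :=
  TensorProduct.tmul_add x y y'

/-- The additive map underlying functoriality. -/
noncomputable def Wadd (v : M →ₗ[A] M') : W k N M →+ W k N M' :=
  ((v.restrictScalars k).lTensor N).toAddMonoidHom

theorem Wadd_mkW (v : M →ₗ[A] M') (x : N) (y : M) : Wadd (k := k) v (mkW x y) = mkW x (v y) := rfl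

/-- Functoriality in the second factor. -/
noncomputable def Wmap (v : M →ₗ[A] M') : W k N M →ₗ[A ⊗[k] A] W k N M' where
  toFun := Wadd v
  map_add' := map_add _
  map_smul' c w := by
    induction c using TensorProduct.induction_on with
    | zero => simp
    | add c d hc hd =>
      simp only [RingHom.id_apply] at hc hd ⊢
      rw [add_smul, add_smul, map_add, hc, hd]
    | tmul a b =>
      induction w using W.induction with
      | h0 => simp
      | ha u v hu hv =>
        simp only [RingHom.id_apply] at hu hv ⊢
        rw [smul_add, map_add, map_add, hu, hv, smul_add]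
      | hm x y => rw [RingHom.id_apply, tmul_smul_mkW, Wadd_mkW, Wadd_mkW, tmul_smul_mkW, map_smul]

theorem Wmap_mkW (v : M →ₗ[A] M') (x : N) (y : M) : Wmap (k := k) v (mkW x y) = mkW x (v y) := rfl

theorem Wmap_injective (v : M →ₗ[A] M') (hv : Function.Injective v) :
    Function.Injective (Wmap (k := k) (N := N) v) :=
  Module.Flat.lTensor_preserves_injective_linearMap (M := N) (v.restrictScalars k) hv

theorem Wmap_surjective (v : M →ₗ[A] M') (hv : Function.Surjective v) :
    Function.Surjective (Wmap (k := k) (N := N) v) :=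
  LinearMap.lTensor_surjective N (g := v.restrictScalars k) hv

theorem Wmap_exact {M'' : Type u} [AddCommGroup M''] [Module k M''] [Module A M''] [IsScalarTower k A M'']
    (v : M →ₗ[A] M') (ρ : M' →ₗ[A] M'') (hρ : Function.Surjective ρ) (h : Function.Exact v ρ) :
    Function.Exact (Wmap (k := k) (N := N) v) (Wmap (k := k) (N := N) ρ) :=
  lTensor_exact N (f := v.restrictScalars k) (g := ρ.restrictScalars k) h hρ

theorem W.finite [Module.Finite A N] [Module.Finite A M] : Module.Finite (A ⊗[k] A) (W k N M) := by
  obtain ⟨s, hs⟩ := Module.Finite.fg_top (R := A) (M := N)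
  obtain ⟨t, ht⟩ := Module.Finite.fg_top (R := A) (M := M)
  classical
  refine ⟨⟨(s ×ˢ t).image fun p => mkW p.1 p.2, top_le_iff.1 fun w hw => ?_⟩⟩
  clear hw
  induction w using W.induction with
  | h0 => exact zero_mem _
  | ha u v hu hv => exact add_mem hu hv
  | hm x y =>
    have hy : ∀ y' ∈ t, ∀ x' : N, (mkW x' y' : W k N M) ∈ Submodule.span (A ⊗[k] A)
        (((s ×ˢ t).image fun p => (mkW p.1 p.2 : W k N M) : Finset (W k N M)) : Set (W k N M)) := by
      intro y' hy' x'
      have hx : x' ∈ Submodule.span A (s : Set N) := by rw [hs]; trivial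
      induction hx using Submodule.span_induction with
      | mem z hz => exact Submodule.subset_span (Finset.mem_image.2 ⟨(z, y'), Finset.mem_product.2 ⟨hz, hy'⟩, rfl⟩)
      | zero =>
        rw [show (mkW 0 y' : W k N M) = 0 from TensorProduct.zero_tmul N y']
        exact zero_mem _
      | add z z' _ _ h h' =>
        rw [show (mkW (z + z') y' : W k N M) = mkW z y' + mkW z' y' from TensorProduct.add_tmul z z' y']
        exact add_mem h h'
      | smul c z _ h =>
        rw [show (mkW (c • z) y' : W k N M) = (c ⊗ₜ[k] (1 : A)) • mkW z y' by rw [tmul_smul_mkW, one_smul]]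
        exact Submodule.smul_mem _ _ h
    have hy' : y ∈ Submodule.span A (t : Set M) := by rw [ht]; trivial
    induction hy' using Submodule.span_induction generalizing x with
    | mem z hz => exact hy z hz x
    | zero =>
      rw [show (mkW x 0 : W k N M) = 0 from TensorProduct.tmul_zero M x]
      exact zero_mem _
    | add z z' _ _ h h' =>
      rw [show (mkW x (z + z') : W k N M) = mkW x z + mkW x z' from TensorProduct.tmul_add x z z']
      exact add_mem (h x) (h' x)
    | smul c z _ h =>
      rw [show (mkW x (c • z) : W k N M) = ((1 : A) ⊗ₜ[k] c) • mkW x z by rw [tmul_smul_mkW, one_smul]]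
      exact Submodule.smul_mem _ _ (h x)

section Free

variable {b : ℕ}

/-- `C ⊗_A N^b → N ⊗_k A^b`. -/
noncomputable def freeMap : (A ⊗[k] A) ⊗[A] (Fin b → N) →ₗ[A ⊗[k] A] W k N (Fin b → A) :=
  letI : Module A (W k N (Fin b → A)) := Module.compHom (W k N (Fin b → A)) (algebraMap A (A ⊗[k] A))
  haveI : IsScalarTower A (A ⊗[k] A) (W k N (Fin b → A)) := IsScalarTower.of_algebraMap_smul fun _ _ => rfl
  LinearMap.liftBaseChange (A ⊗[k] A)
    { toFun := fun m => ∑ i, mkW (m i) (Pi.single i 1)
      map_add' := fun m m' => by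
        rw [← Finset.sum_add_distrib]
        exact Finset.sum_congr rfl fun i _ => TensorProduct.add_tmul _ _ _
      map_smul' := fun a m => by
        rw [RingHom.id_apply, Finset.smul_sum]
        refine Finset.sum_congr rfl fun i _ => ?_
        change _ = (a ⊗ₜ[k] (1 : A)) • (mkW (m i) (Pi.single i 1) : W k N (Fin b → A))
        rw [tmul_smul_mkW, one_smul]
        rfl }

theorem freeMap_tmul (c : A ⊗[k] A) (m : Fin b → N) :
    freeMap (k := k) (c ⊗ₜ[A] m) = c • ∑ i, mkW (m i) (Pi.single i (1 : A)) := by
  simp [freeMap]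

theorem freeMap_bijective : Function.Bijective (freeMap (k := k) (A := A) (N := N) (b := b)) := by
  classical
  let g : N →ₗ[k] (Fin b → A) →ₗ[k] (A ⊗[k] A) ⊗[A] (Fin b → N) :=
    LinearMap.mk₂ k (fun x y => ∑ i, ((1 : A) ⊗ₜ[k] y i) ⊗ₜ[A] (Pi.single i x : Fin b → N))
      (fun x x' y => by simp only [Pi.single_add, TensorProduct.tmul_add, Finset.sum_add_distrib])
      (fun c x y => by
        rw [Finset.smul_sum]
        refine Finset.sum_congr rfl fun i _ => ?_
        rw [Pi.single_smul, TensorProduct.tmul_smul])
      (fun x y y' => by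
        simp only [Pi.add_apply, TensorProduct.tmul_add, TensorProduct.add_tmul, Finset.sum_add_distrib])
      (fun c x y => by
        rw [Finset.smul_sum]
        refine Finset.sum_congr rfl fun i _ => ?_
        rw [Pi.smul_apply, TensorProduct.tmul_smul, TensorProduct.smul_tmul', ← TensorProduct.smul_tmul' (R := k) c (1 : A) (y i)]
        exact (TensorProduct.smul_tmul' (R := A) c ((1 : A) ⊗ₜ[k] y i) (Pi.single i x : Fin b → N)).symm)
  let G : W k N (Fin b → A) →+ (A ⊗[k] A) ⊗[A] (Fin b → N) := (TensorProduct.lift g).toAddMonoidHom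
  have hG : ∀ (x : N) (y : Fin b → A), G (mkW x y) =
      ∑ i, ((1 : A) ⊗ₜ[k] y i) ⊗ₜ[A] (Pi.single i x : Fin b → N) := fun x y => TensorProduct.lift.tmul (f' := g) x y
  refine Function.bijective_iff_has_inverse.2 ⟨fun w => G w, fun z => ?_, fun w => ?_⟩
  · induction z using TensorProduct.induction_on with
    | zero => simp
    | add u v hu hv =>
      dsimp only at hu hv ⊢
      rw [map_add, map_add, hu, hv]
    | tmul c m =>
      induction c using TensorProduct.induction_on with
      | zero => simp
      | add u v hu hv =>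
        dsimp only at hu hv ⊢
        rw [TensorProduct.add_tmul, map_add, map_add, hu, hv]
      | tmul a a' =>
        rw [freeMap_tmul, Finset.smul_sum]
        refine (map_sum G _ _).trans ?_
        have he : ∀ i j, ((1 : A) ⊗ₜ[k] ((a' • (Pi.single i (1 : A) : Fin b → A)) j)) ⊗ₜ[A]
            (Pi.single j (a • m i) : Fin b → N) =
              if j = i then (a ⊗ₜ[k] a') ⊗ₜ[A] (Pi.single i (m i) : Fin b → N) else 0 := fun i j => by
          by_cases h : j = i
          · subst h
            rw [if_pos rfl, Pi.smul_apply, Pi.single_eq_same, smul_eq_mul, mul_one, Pi.single_smul,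
              ← TensorProduct.smul_tmul, TensorProduct.smul_tmul' a (1 : A) a', smul_eq_mul, mul_one]
          · simp [if_neg h, Pi.single_eq_of_ne h]
        rw [Finset.sum_congr rfl fun i _ => (congrArg G (tmul_smul_mkW a a' (m i) _)).trans
          ((hG _ _).trans (Finset.sum_congr rfl fun j _ => he i j))]
        simp only [Finset.sum_ite_eq', Finset.mem_univ, if_true, ← TensorProduct.tmul_sum]
        rw [Finset.univ_sum_single]
  · induction w using W.induction with
    | h0 => simp
    | ha u v hu hv =>
      dsimp only at hu hv ⊢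
      rw [map_add, map_add, hu, hv]
    | hm x y =>
      refine (congrArg (freeMap (k := k)) (hG x y)).trans ?_
      rw [map_sum]
      have he : ∀ i, freeMap (k := k) (((1 : A) ⊗ₜ[k] y i) ⊗ₜ[A] (Pi.single i x : Fin b → N)) =
          (mkW x (Pi.single i (y i)) : W k N (Fin b → A)) := fun i => by
        rw [freeMap_tmul, Finset.sum_eq_single i (fun j _ hj => ?_) (by simp)]
        · rw [tmul_smul_mkW, Pi.single_eq_same, one_smul, ← Pi.single_smul, smul_eq_mul, mul_one]
        · rw [Pi.single_eq_of_ne hj]
          exact TensorProduct.zero_tmul _ _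
      rw [Finset.sum_congr rfl fun i _ => he i]
      exact (TensorProduct.tmul_sum x _ _).symm.trans (congrArg (x ⊗ₜ[k] ·) (Finset.univ_sum_single y))

end Free

end Groth.Calg6.Diag
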