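import Groth.Agent.Calg6.DiagChi
import Groth.Agent.Calg6.DiagDim
import Mathlib.RingTheory.Etale.Basic
import Mathlib.RingTheory.Smooth.Flat

/-!
Positivity of the intersection number at a point of an etale chart.
-/

set_option autoImplicit false

universe u

open TensorProduct IsLocalRing

namespace Groth.Calg6.Diag

/-- `dim A/V + dim B/m ≤ dim B/P` for a prime `V` of a localisation `A = B_m` with preimage `P`. -/
theorem dim_add_le_dim_comap {k B A : Type u} [Field k] [CommRing B] [Algebra k B] [Algebra.FiniteType k B]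
    [CommRing A] [Algebra B A] [IsLocalRing A] (m : Ideal B) [m.IsPrime] [IsLocalization.AtPrime A m]
    (V : Ideal A) [V.IsPrime] :
    ringKrullDim (B ⧸ m) + ringKrullDim (A ⧸ V) ≤ ringKrullDim (B ⧸ V.comap (algebraMap B A)) := by
  set P := V.comap (algebraMap B A) with hP
  let q : B ⧸ P →+* A ⧸ V := Ideal.quotientMap V (algebraMap B A) le_rfl
  haveI : IsLocalRing (A ⧸ V) := IsLocalRing.of_surjective' (Ideal.Quotient.mk V) Ideal.Quotient.mk_surjective
  have hqc : q.comp (Ideal.Quotient.mk P) = (Ideal.Quotient.mk V).comp (algebraMap B A) :=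
    Ideal.quotientMap_comp_mk _
  have hmono : StrictMono (PrimeSpectrum.comap q) := fun x y hxy => by
    refine lt_of_le_of_ne (Ideal.comap_mono hxy.le) fun h => hxy.ne ?_
    have h2 := congrArg (PrimeSpectrum.comap (Ideal.Quotient.mk P)) h
    rw [← PrimeSpectrum.comap_comp_apply, ← PrimeSpectrum.comap_comp_apply, hqc, PrimeSpectrum.comap_comp_apply,
      PrimeSpectrum.comap_comp_apply] at h2
    exact PrimeSpectrum.comap_injective_of_surjective _ Ideal.Quotient.mk_surjective
      (PrimeSpectrum.localization_comap_injective A m.primeCompl h2)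
  let M : PrimeSpectrum (B ⧸ P) := PrimeSpectrum.comap q ⟨maximalIdeal (A ⧸ V), inferInstance⟩
  have h1 : ringKrullDim (A ⧸ V) ≤ (M.asIdeal.height : WithBot ℕ∞) := by
    have h := Order.height_le_height_apply_of_strictMono (PrimeSpectrum.comap q) hmono
      ⟨maximalIdeal (A ⧸ V), inferInstance⟩
    rw [← PrimeSpectrum.height_eq_orderHeight, ← PrimeSpectrum.height_eq_orderHeight] at h
    exact (IsLocalRing.maximalIdeal_height_eq_ringKrullDim (R := A ⧸ V)).ge.trans (WithBot.coe_le_coe.2 h)
  have hMm : M.asIdeal.comap (Ideal.Quotient.mk P) = m := by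
    change (((maximalIdeal (A ⧸ V)).comap q).comap (Ideal.Quotient.mk P)) = m
    haveI : IsLocalHom (Ideal.Quotient.mk V) :=
      Function.Surjective.isLocalHom (Ideal.Quotient.mk V) Ideal.Quotient.mk_surjective
    rw [Ideal.comap_comap, hqc, ← Ideal.comap_comap, IsLocalRing.maximalIdeal_comap (Ideal.Quotient.mk V)]
    exact IsLocalization.AtPrime.under_maximalIdeal A m
  have h2 := Groth.VarietyBC.ProjInter.dim_quotient_add_height k (B ⧸ P) M
  have e : ringKrullDim ((B ⧸ P) ⧸ M.asIdeal) = ringKrullDim (B ⧸ m) :=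
    (ringKrullDim_eq_of_ringEquiv ((RingHom.quotientKerEquivOfSurjective
      (f := (Ideal.Quotient.mk M.asIdeal).comp (Ideal.Quotient.mk P))
      (Ideal.Quotient.mk_surjective.comp Ideal.Quotient.mk_surjective)).symm.trans
        (Ideal.quotEquivOfEq (by rw [← RingHom.comap_ker, Ideal.mk_ker, hMm]))))
  rw [← h2, e]
  exact add_le_add le_rfl h1

/-- Positivity at a point of an etale chart. -/
theorem chi_quot_pos {k : Type u} [Field k] {n : ℕ} {B : Type u} [CommRing B] [Algebra k B]
    [Algebra.FiniteType k B] [Algebra (MvPolynomial (Fin n) k) B] [IsScalarTower k (MvPolynomial (Fin n) k) B]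
    [Algebra.Etale (MvPolynomial (Fin n) k) B] {A : Type u} [CommRing A] [IsLocalRing A] [Algebra B A]
    (m : Ideal B) [m.IsPrime] [IsLocalization.AtPrime A m] (V W : Ideal A) [V.IsPrime] [W.IsPrime]
    (hfin : IsFiniteLength A (A ⧸ (V ⊔ W))) {h a b : ℕ} (hh : ringKrullDim (B ⧸ m) = h)
    (ha : ringKrullDim (A ⧸ V) = a) (hb : ringKrullDim (A ⧸ W) = b) (hn : n ≤ h + (a + b)) :
    0 < IntMult.chi A (A ⧸ W) (A ⧸ V) := by
  letI : Algebra k A := ((algebraMap B A).comp (algebraMap k B)).toAlgebra
  haveI : IsScalarTower k B A := IsScalarTower.of_algebraMap_eq' rfl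
  letI : Algebra (MvPolynomial (Fin n) k) A := ((algebraMap B A).comp (algebraMap (MvPolynomial (Fin n) k) B)).toAlgebra
  haveI : IsScalarTower (MvPolynomial (Fin n) k) B A := IsScalarTower.of_algebraMap_eq' rfl
  haveI : IsScalarTower k (MvPolynomial (Fin n) k) A := IsScalarTower.of_algebraMap_eq fun x => by
    change algebraMap B A (algebraMap k B x) = algebraMap B A (algebraMap (MvPolynomial (Fin n) k) B _)
    rw [← IsScalarTower.algebraMap_apply k (MvPolynomial (Fin n) k) B]
  haveI : Module.Flat B A := IsLocalization.flat A m.primeCompl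
  haveI : Algebra.EssFiniteType B A := Algebra.EssFiniteType.of_isLocalization A m.primeCompl
  haveI : Algebra.EssFiniteType k A := Algebra.EssFiniteType.comp k B A
  haveI : IsNoetherianRing A := Algebra.EssFiniteType.isNoetherianRing k A
  haveI : Algebra.FormallyUnramified B A := Algebra.FormallyUnramified.of_isLocalization m.primeCompl
  haveI : Algebra.FormallyUnramified (MvPolynomial (Fin n) k) A := Algebra.FormallyUnramified.comp _ B A
  haveI : Module.Flat (MvPolynomial (Fin n) k) B := inferInstance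
  haveI : Module.Flat (MvPolynomial (Fin n) k) A := Module.Flat.trans _ B A
  have hmax : (maximalIdeal A).comap (algebraMap B A) = m := IsLocalization.AtPrime.under_maximalIdeal A m
  have hle : ∀ I : Ideal A, I ≠ ⊤ → I.comap (algebraMap B A) ≤ (maximalIdeal A).comap (algebraMap B A) :=
    fun I hI => Ideal.comap_mono (IsLocalRing.le_maximalIdeal hI)
  have hdim : ringKrullDim (B ⧸ (maximalIdeal A).comap (algebraMap B A)) + (n : WithBot ℕ∞) ≤
      ringKrullDim (B ⧸ V.comap (algebraMap B A)) + ringKrullDim (B ⧸ W.comap (algebraMap B A)) := by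
    refine le_trans ?_ (add_le_add (dim_add_le_dim_comap (k := k) m V) (dim_add_le_dim_comap (k := k) m W))
    rw [ringKrullDim_eq_of_ringEquiv (Ideal.quotEquivOfEq hmax), hh, ha, hb]
    exact_mod_cast (show h + n ≤ h + a + (h + b) by omega)
  have h2 := le_supportDim_E k A (W.comap (algebraMap B A)) (V.comap (algebraMap B A))
    (hle W Ideal.IsPrime.ne_top') (hle V Ideal.IsPrime.ne_top') n hdim
  rw [IsLocalization.map_comap m.primeCompl, IsLocalization.map_comap m.primeCompl] at h2
  refine intMult_chi_pos (n := n) k A (A ⧸ V) (A ⧸ W) ?_ h2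
  rw [← Module.length_ne_top_iff]
  refine ne_top_of_le_ne_top (Module.length_ne_top_iff.2 hfin) ?_
  refine Module.length_le_of_surjective
    (Submodule.liftQ (V ⊔ W) (LinearMap.toSpanSingleton A ((A ⧸ W) ⊗[A] (A ⧸ V)) (1 ⊗ₜ[A] 1))
      (sup_le (fun x hx => ?_) (fun x hx => ?_))) fun z => ?_
  · rw [LinearMap.mem_ker, LinearMap.toSpanSingleton_apply, ← TensorProduct.tmul_smul,
      show x • (1 : A ⧸ V) = 0 by rw [Algebra.smul_def, mul_one]; exact Ideal.Quotient.eq_zero_iff_mem.2 hx,
      TensorProduct.tmul_zero]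
  · rw [LinearMap.mem_ker, LinearMap.toSpanSingleton_apply, TensorProduct.smul_tmul',
      show x • (1 : A ⧸ W) = 0 by rw [Algebra.smul_def, mul_one]; exact Ideal.Quotient.eq_zero_iff_mem.2 hx,
      TensorProduct.zero_tmul]
  · induction z using TensorProduct.induction_on with
    | zero => exact ⟨0, map_zero _⟩
    | add u v hu hv =>
      obtain ⟨u, rfl⟩ := hu
      obtain ⟨v, rfl⟩ := hv
      exact ⟨u + v, map_add _ _ _⟩
    | tmul x y =>
      obtain ⟨x, rfl⟩ := Ideal.Quotient.mk_surjective x
      obtain ⟨y, rfl⟩ := Ideal.Quotient.mk_surjective y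
      refine ⟨Submodule.Quotient.mk (x * y), ?_⟩
      rw [Submodule.liftQ_apply, LinearMap.toSpanSingleton_apply, mul_smul, ← TensorProduct.tmul_smul,
        TensorProduct.smul_tmul', Algebra.smul_def, Algebra.smul_def, mul_one, mul_one]
      rfl

end Groth.Calg6.Diag
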