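import Groth.Agent.Calg6.DiagChi
import Groth.Agent.Calg6.ChiBaseChange
import Mathlib.RingTheory.TensorProduct.Quotient
import Mathlib.LinearAlgebra.TensorProduct.RightExactness

/-!
Reduction to the diagonal over any model of the local ring of the diagonal.
-/

set_option autoImplicit false
set_option backward.isDefEq.respectTransparency false

universe u

open TensorProduct IsLocalRing CategoryTheory

namespace Groth.Calg6.Diag

/-- The intersection number does not depend on the isomorphism class of the second module. -/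
theorem intMult_chi_congr_right {S : Type u} [CommRing S] (P : Type u) [AddCommGroup P] [Module S P]
    {Q Q' : Type u} [AddCommGroup Q] [Module S Q] [AddCommGroup Q'] [Module S Q'] (e : Q ≃ₗ[S] Q') :
    IntMult.chi S P Q = IntMult.chi S P Q' := by
  refine finsum_congr fun i => ?_
  have h : Module.length S (DRing.Tor S i P Q) = Module.length S (DRing.Tor S i P Q') :=
    (((CategoryTheory.Tor (ModuleCat.{u} S) i).obj (ModuleCat.of S P)).mapIso
      e.toModuleIso).toLinearEquiv.length_eq
  rw [h]

/-- Kernel of a map between localisations of tensor products induced by quotient maps. -/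
theorem ker_eq_map {R A B A' B' C C' : Type u} [CommRing R] [CommRing A] [CommRing B] [CommRing A']
    [CommRing B'] [Algebra R A] [Algebra R B] [Algebra R A'] [Algebra R B'] [CommRing C] [CommRing C']
    [IsLocalRing C] [IsLocalRing C']
    (a : A →ₐ[R] A') (b : B →ₐ[R] B') (ha : Function.Surjective a) (hb : Function.Surjective b)
    (π : A ⊗[R] B →+* C) (π' : A' ⊗[R] B' →+* C')
    (hloc : letI := π.toAlgebra; IsLocalization.AtPrime C ((maximalIdeal C).comap π))
    (hloc' : letI := π'.toAlgebra; IsLocalization.AtPrime C' ((maximalIdeal C').comap π'))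
    (ψ : C →+* C') [IsLocalHom ψ]
    (hψ : ψ.comp π = π'.comp (Algebra.TensorProduct.map a b).toRingHom) :
    RingHom.ker ψ = (RingHom.ker a).map (π.comp Algebra.TensorProduct.includeLeftRingHom) ⊔
      (RingHom.ker b).map (π.comp (Algebra.TensorProduct.includeRight (R := R) (A := A) (B := B)).toRingHom) := by
  let φ := Algebra.TensorProduct.map a b
  have hK : (RingHom.ker a).map (π.comp Algebra.TensorProduct.includeLeftRingHom) ⊔
      (RingHom.ker b).map (π.comp (Algebra.TensorProduct.includeRight (R := R) (A := A) (B := B)).toRingHom) =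
      (RingHom.ker φ).map π := by
    rw [Algebra.TensorProduct.map_ker _ _ ha hb, Ideal.map_sup, ← Ideal.map_map, ← Ideal.map_map]
    rfl
  have hψ' : ∀ x, ψ (π x) = π' (φ x) := fun x => congrArg (fun h => h x) hψ
  rw [hK]
  refine le_antisymm ?_ (Ideal.map_le_iff_le_comap.2 fun x hx => ?_)
  · intro c hc
    letI := π.toAlgebra
    letI := π'.toAlgebra
    haveI := hloc
    haveI := hloc'
    obtain ⟨⟨x, s⟩, h⟩ := IsLocalization.surj ((maximalIdeal C).comap π).primeCompl c
    change c * π (s : A ⊗[R] B) = π x at h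
    have h0 : π' (φ x) = π' 0 := by
      rw [map_zero, ← hψ', ← h, map_mul, RingHom.mem_ker.1 hc, zero_mul]
    obtain ⟨⟨t', ht'⟩, ht0⟩ := IsLocalization.exists_of_eq (M := ((maximalIdeal C').comap π').primeCompl) h0
    obtain ⟨t, rfl⟩ := Algebra.TensorProduct.map_surjective a b ha hb t'
    have hu : IsUnit (π t) := isUnit_of_map_unit ψ _ (by rw [hψ']; exact notMem_maximalIdeal.1 ht')
    have hs : IsUnit (π (s : A ⊗[R] B)) := notMem_maximalIdeal.1 s.2
    have hm : π (t * x) ∈ (RingHom.ker φ).map π := Ideal.mem_map_of_mem _ (by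
      rw [RingHom.mem_ker, map_mul]
      simpa using ht0)
    rw [map_mul, ← h] at hm
    exact (Ideal.mul_unit_mem_iff_mem _ hs).1 ((Ideal.unit_mul_mem_iff_mem _ hu).1 hm)
  · rw [Ideal.mem_comap, RingHom.mem_ker, hψ', RingHom.mem_ker.1 hx, map_zero]

/-- The reduction to the diagonal, over a model of the local ring of the diagonal. -/
theorem chi_reduce (k : Type u) [Field k] (A : Type u) [CommRing A] [Algebra k A] [IsLocalRing A]
    [IsNoetherianRing A] {n : ℕ} [Algebra (MvPolynomial (Fin n) k) A]
    [IsScalarTower k (MvPolynomial (Fin n) k) A] [Algebra.EssFiniteType k A]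
    [Algebra.FormallyUnramified (MvPolynomial (Fin n) k) A] [Module.Flat (MvPolynomial (Fin n) k) A]
    {C : Type u} [CommRing C] [IsLocalRing C] (π : A ⊗[k] A →+* C)
    (hloc : letI := π.toAlgebra; IsLocalization.AtPrime C ((maximalIdeal C).comap π))
    (δ : C →+* A) [IsLocalHom δ] (hδ : δ.comp π = (Algebra.TensorProduct.lmul' k (S := A)).toRingHom)
    (I J : Ideal A) :
    IntMult.chi C (C ⧸ RingHom.ker δ)
      (C ⧸ (I.map (π.comp Algebra.TensorProduct.includeLeftRingHom) ⊔
        J.map (π.comp (Algebra.TensorProduct.includeRight (R := k) (A := A) (B := A)).toRingHom))) =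
      IntMult.chi A (A ⧸ J) (A ⧸ I) := by
  letI := π.toAlgebra
  have hP : (maximalIdeal C).comap π = diagPt k A := by
    rw [diagPt, ← hδ, ← Ideal.comap_comap, IsLocalRing.maximalIdeal_comap δ]
  haveI hloc' : IsLocalization.AtPrime C (diagPt k A) := by
    have h := hloc
    simp only [hP] at h
    exact h
  let e : Cq k A ≃ₐ[A ⊗[k] A] C := IsLocalization.algEquiv (diagPt k A).primeCompl _ _
  letI : Algebra (Cq k A) C := e.toRingEquiv.toRingHom.toAlgebra
  haveI : IsScalarTower (A ⊗[k] A) (Cq k A) C := IsScalarTower.of_algebraMap_eq fun x => (e.commutes x).symm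
  have hbij : Function.Bijective (Algebra.linearMap (Cq k A) C) := e.bijective
  haveI : Module.Flat (Cq k A) C := Module.Flat.of_linearEquiv (LinearEquiv.ofBijective _ hbij).symm
  haveI : IsLocalHom (algebraMap (Cq k A) C) := ⟨fun x hx => (isUnit_map_iff e x).1 hx⟩
  haveI : Module.Finite (Cq k A) A := Module.Finite.of_surjective (Algebra.linearMap (Cq k A) A)
    (algebraMap_surjective k A)
  have hlen : Module.length C (C ⧸ (maximalIdeal (Cq k A)).map (algebraMap (Cq k A) C)) = 1 := by
    have hm : (maximalIdeal (Cq k A)).map (algebraMap (Cq k A) C) = maximalIdeal C := by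
      refine le_antisymm (Ideal.map_le_iff_le_comap.2 ?_) fun x hx => ?_
      · exact (IsLocalRing.maximalIdeal_comap (algebraMap (Cq k A) C)).ge
      · obtain ⟨y, rfl⟩ := e.surjective x
        refine Ideal.mem_map_of_mem _ ?_
        rw [IsLocalRing.mem_maximalIdeal, mem_nonunits_iff] at hx ⊢
        exact fun hy => hx (hy.map e)
    rw [hm, Module.length_eq_one_iff, isSimpleModule_iff_isCoatom]
    exact (maximalIdeal.isMaximal C).out
  -- the two modules
  let M := A ⧸ J
  let N := A ⧸ I
  let K : Ideal (A ⊗[k] A) :=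
    I.map (Algebra.TensorProduct.includeLeftRingHom) ⊔
      J.map (Algebra.TensorProduct.includeRight (R := k) (A := A) (B := A)).toRingHom
  let gen : W k N M := mkW (Ideal.Quotient.mk I 1) (Ideal.Quotient.mk J 1)
  let φ := Algebra.TensorProduct.map (Ideal.Quotient.mkₐ k I) (Ideal.Quotient.mkₐ k J)
  have hgen : ∀ t : A ⊗[k] A, t • gen = (φ t : W k N M) := fun t => by
    induction t using TensorProduct.induction_on with
    | zero => rw [zero_smul, map_zero]
    | add x y hx hy => rw [add_smul, hx, hy, map_add]
    | tmul a b =>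
      rw [tmul_smul_mkW]
      simp only [φ, Algebra.TensorProduct.map_tmul, Ideal.Quotient.mkₐ_eq_mk]
      change mkW (Ideal.Quotient.mk I (a * 1)) (Ideal.Quotient.mk J (b * 1)) = _
      rw [mul_one, mul_one]
      rfl
  let T : (A ⊗[k] A) →ₗ[A ⊗[k] A] W k N M := LinearMap.toSpanSingleton _ _ gen
  have hT : Function.Surjective T := fun w => by
    obtain ⟨t, ht⟩ := Algebra.TensorProduct.map_surjective (Ideal.Quotient.mkₐ k I) (Ideal.Quotient.mkₐ k J)
      Ideal.Quotient.mk_surjective Ideal.Quotient.mk_surjective (w : N ⊗[k] M)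
    exact ⟨t, (hgen t).trans ht⟩
  have hker : LinearMap.ker T = K := by
    ext t
    have h : t ∈ RingHom.ker φ ↔ t ∈ K := by
      rw [Algebra.TensorProduct.map_ker _ _ Ideal.Quotient.mk_surjective Ideal.Quotient.mk_surjective]
      have e₁ : RingHom.ker (Ideal.Quotient.mkₐ k I) = I := Ideal.mk_ker
      have e₂ : RingHom.ker (Ideal.Quotient.mkₐ k J) = J := Ideal.mk_ker
      rw [e₁, e₂]
      rfl
    rw [← h, LinearMap.mem_ker, RingHom.mem_ker]
    exact ⟨fun ht => (hgen t).symm.trans ht, fun ht => (hgen t).trans ht⟩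
  let w : ((A ⊗[k] A) ⧸ K) ≃ₗ[A ⊗[k] A] W k N M :=
    (Submodule.quotEquivOfEq _ _ hker.symm).trans (T.quotKerEquivOfSurjective hT)
  let eE : C ⊗[Cq k A] E k A N M ≃ₗ[C]
      C ⧸ (I.map (π.comp Algebra.TensorProduct.includeLeftRingHom) ⊔
        J.map (π.comp (Algebra.TensorProduct.includeRight (R := k) (A := A) (B := A)).toRingHom)) :=
    ((toE k A N M).symm.baseChange (Cq k A) C _ _).trans
      ((AlgebraTensorModule.cancelBaseChange (A ⊗[k] A) (Cq k A) C C (W k N M)).trans
        ((w.symm.baseChange (A ⊗[k] A) C _ _).trans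
          ((Algebra.TensorProduct.quotIdealMapEquivTensorQuot C K).symm.toLinearEquiv.trans
            (Submodule.quotEquivOfEq _ _ (by
              rw [show algebraMap (A ⊗[k] A) C = π from rfl]
              simp only [K, Ideal.map_sup, Ideal.map_map])))))
  let eA : C ⊗[Cq k A] A ≃ₗ[C] C ⧸ RingHom.ker δ :=
    (((Algebra.linearMap (Cq k A) A).quotKerEquivOfSurjective
        (algebraMap_surjective k A)).symm.baseChange (Cq k A) C _ _).trans
      ((Algebra.TensorProduct.quotIdealMapEquivTensorQuot C
        (RingHom.ker (algebraMap (Cq k A) A))).symm.toLinearEquiv.trans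
        (Submodule.quotEquivOfEq _ _ (by
          have hcomp : δ.comp (algebraMap (Cq k A) C) = algebraMap (Cq k A) A := by
            refine IsLocalization.ringHom_ext (diagPt k A).primeCompl (RingHom.ext fun x => ?_)
            change δ (algebraMap (Cq k A) C (algebraMap _ _ x)) = algebraMap (Cq k A) A (algebraMap _ _ x)
            rw [← IsScalarTower.algebraMap_apply, algebraMap_CqA]
            exact congrArg (fun h => h x) hδ
          refine le_antisymm (Ideal.map_le_iff_le_comap.2 fun x hx => ?_) fun x hx => ?_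
          · rw [Ideal.mem_comap, RingHom.mem_ker, ← RingHom.comp_apply, hcomp]
            exact hx
          · obtain ⟨y, rfl⟩ := e.surjective x
            refine Ideal.mem_map_of_mem _ ?_
            rw [RingHom.mem_ker, ← hcomp]
            exact hx)))
  rw [← intMult_chi_congr_left eA, ← intMult_chi_congr_right _ eE,
    Groth.Calg6.ChiBaseChange.intMult_chi (Cq k A) C A (E k A N M), hlen, ENat.toNat_one, Nat.cast_one, mul_one]
  refine finsum_congr fun i => ?_
  obtain ⟨s⟩ := Groth.HTorLib.tor_symm (A := Cq k A) i (E k A N M) A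
  rw [← s.length_eq, length_tor k A N i M]

end Groth.Calg6.Diag
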