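import Groth.Agent.Calg6.DiagModule
import Groth.Agent.KoszulCone.Polynomial
import Mathlib.RingTheory.Unramified.Finite
import Mathlib.RingTheory.EssentialFiniteness
import Mathlib.RingTheory.RingHom.Flat
import Mathlib.RingTheory.Regular.Flat

/-!
The local ring of `A ⊗_k A` at the diagonal closed point, and equations of the diagonal.
-/

set_option autoImplicit false

universe u

open TensorProduct IsLocalRing

namespace Groth.Calg6.Diag

/-- Two maps from an unramified algebra agreeing on the coordinates agree if their identification is invertible. -/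
theorem eq_of_agree {k : Type u} [Field k] {A : Type u} [CommRing A] [Algebra k A] {n : ℕ}
    [Algebra (MvPolynomial (Fin n) k) A] [IsScalarTower k (MvPolynomial (Fin n) k) A]
    [Algebra.EssFiniteType k A] [Algebra.FormallyUnramified (MvPolynomial (Fin n) k) A]
    {D : Type u} [CommRing D] [Algebra k D] (a b : A →ₐ[k] D)
    (hgen : a.comp (IsScalarTower.toAlgHom k (MvPolynomial (Fin n) k) A) =
      b.comp (IsScalarTower.toAlgHom k (MvPolynomial (Fin n) k) A))
    (ω : D →+* A) (hωa : ∀ x, ω (a x) = x) (hωb : ∀ x, ω (b x) = x)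
    (hu : ∀ w, ω w = 1 → IsUnit w) : ∀ x, a x = b x := by
  let g : MvPolynomial (Fin n) k →ₐ[k] A := IsScalarTower.toAlgHom k _ A
  letI : Algebra (MvPolynomial (Fin n) k) D := (a.comp g).toRingHom.toAlgebra
  haveI : Algebra.EssFiniteType (MvPolynomial (Fin n) k) A := Algebra.EssFiniteType.of_comp k _ A
  let a' : A →ₐ[MvPolynomial (Fin n) k] D := { a.toRingHom with commutes' := fun _ => rfl }
  let b' : A →ₐ[MvPolynomial (Fin n) k] D :=
    { b.toRingHom with commutes' := fun x => (congrArg (fun φ => φ x) hgen).symm }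
  obtain ⟨t, ht, ht1⟩ := Algebra.FormallyUnramified.iff_exists_tensorProduct.1
    (show Algebra.FormallyUnramified (MvPolynomial (Fin n) k) A from inferInstance)
  let Φ : A ⊗[MvPolynomial (Fin n) k] A →ₐ[MvPolynomial (Fin n) k] D :=
    Algebra.TensorProduct.lift a' b' fun _ _ => Commute.all _ _
  have hω : ∀ z, ω (Φ z) = Algebra.TensorProduct.lmul' (MvPolynomial (Fin n) k) z := fun z => by
    induction z using TensorProduct.induction_on with
    | zero => simp
    | tmul x y =>
      rw [Algebra.TensorProduct.lift_tmul, Algebra.TensorProduct.lmul'_apply_tmul, map_mul]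
      exact congrArg₂ (· * ·) (hωa x) (hωb y)
    | add x y hx hy => simp only [map_add, hx, hy]
  have hunit : IsUnit (Φ t) := hu _ ((hω t).trans ht1)
  intro x
  have h1 := congrArg Φ (ht x)
  rw [map_mul, map_sub, map_zero, Algebra.TensorProduct.lift_tmul, Algebra.TensorProduct.lift_tmul,
    map_one, map_one, one_mul, mul_one] at h1
  exact (sub_eq_zero.1 (hunit.mul_left_eq_zero.1 h1)).symm

variable (k : Type u) [Field k] (A : Type u) [CommRing A] [Algebra k A] [IsLocalRing A]

/-- The closed point of the diagonal. -/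
noncomputable def diagPt : Ideal (A ⊗[k] A) :=
  (maximalIdeal A).comap (Algebra.TensorProduct.lmul' k (S := A)).toRingHom

instance diagPt_isPrime : (diagPt k A).IsPrime := Ideal.comap_isPrime _ _

/-- The local ring at the diagonal closed point. -/
def Cq : Type u := Localization.AtPrime (diagPt k A)

noncomputable instance commRingCq : CommRing (Cq k A) :=
  inferInstanceAs (CommRing (Localization.AtPrime (diagPt k A)))

noncomputable instance algebraTensorCq : Algebra (A ⊗[k] A) (Cq k A) :=
  inferInstanceAs (Algebra (A ⊗[k] A) (Localization.AtPrime (diagPt k A)))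

instance isLocalizationCq : IsLocalization.AtPrime (Cq k A) (diagPt k A) :=
  inferInstanceAs (IsLocalization.AtPrime (Localization.AtPrime (diagPt k A)) (diagPt k A))

instance isLocalRingCq : IsLocalRing (Cq k A) :=
  IsLocalization.AtPrime.isLocalRing (Cq k A) (diagPt k A)

noncomputable instance algebraLeftCq : Algebra A (Cq k A) :=
  ((algebraMap (A ⊗[k] A) (Cq k A)).comp (algebraMap A (A ⊗[k] A))).toAlgebra

instance isScalarTowerLeftCq : IsScalarTower A (A ⊗[k] A) (Cq k A) :=
  IsScalarTower.of_algebraMap_eq fun _ => rfl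

noncomputable instance algebraBaseCq : Algebra k (Cq k A) :=
  ((algebraMap (A ⊗[k] A) (Cq k A)).comp (algebraMap k (A ⊗[k] A))).toAlgebra

instance isScalarTowerBaseCq : IsScalarTower k (A ⊗[k] A) (Cq k A) :=
  IsScalarTower.of_algebraMap_eq fun _ => rfl

/-- Restriction to the diagonal. -/
noncomputable def mu : Cq k A →+* A :=
  IsLocalization.lift (M := (diagPt k A).primeCompl) (g := (Algebra.TensorProduct.lmul' k (S := A)).toRingHom)
    fun c => by
      by_contra h
      exact c.2 ((IsLocalRing.mem_maximalIdeal _).2 h)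

noncomputable instance algebraCqA : Algebra (Cq k A) A := (mu k A).toAlgebra

theorem algebraMap_CqA (c : A ⊗[k] A) :
    algebraMap (Cq k A) A (algebraMap (A ⊗[k] A) (Cq k A) c) = Algebra.TensorProduct.lmul' k c :=
  IsLocalization.lift_eq _ c

theorem mu_left (a : A) :
    algebraMap (Cq k A) A (algebraMap (A ⊗[k] A) (Cq k A) (a ⊗ₜ[k] (1 : A))) = a := by
  rw [algebraMap_CqA, Algebra.TensorProduct.lmul'_apply_tmul, mul_one]

theorem algebraMap_surjective : Function.Surjective (algebraMap (Cq k A) A) :=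
  fun a => ⟨_, mu_left k A a⟩

instance isScalarTower_left : IsScalarTower A (Cq k A) A := by
  refine IsScalarTower.of_algebraMap_eq fun a => ?_
  rw [IsScalarTower.algebraMap_apply A (A ⊗[k] A) (Cq k A)]
  exact (mu_left k A a).symm

instance flat_left : Module.Flat A (Cq k A) :=
  haveI : Module.Flat (A ⊗[k] A) (Cq k A) := IsLocalization.flat _ (diagPt k A).primeCompl
  Module.Flat.trans A (A ⊗[k] A) (Cq k A)

instance isNoetherianRing_Cq [IsNoetherianRing (A ⊗[k] A)] : IsNoetherianRing (Cq k A) :=
  IsLocalization.isNoetherianRing (diagPt k A).primeCompl (Cq k A) inferInstance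

instance isNoetherianRing_tensor [Algebra.EssFiniteType k A] : IsNoetherianRing (A ⊗[k] A) := by
  haveI : IsNoetherianRing A := Algebra.EssFiniteType.isNoetherianRing k A
  haveI : Algebra.EssFiniteType A (A ⊗[k] A) := Algebra.EssFiniteType.baseChange k A A
  exact Algebra.EssFiniteType.isNoetherianRing A (A ⊗[k] A)

section Equations

variable {n : ℕ} [Algebra (MvPolynomial (Fin n) k) A] [IsScalarTower k (MvPolynomial (Fin n) k) A]

local notation "R" => MvPolynomial (Fin n) k

/-- The equations of the diagonal. -/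
noncomputable def eqn (i : Fin n) : Cq k A :=
  algebraMap (A ⊗[k] A) (Cq k A)
    (algebraMap (MvPolynomial (Fin n) k) A (MvPolynomial.X i) ⊗ₜ[k] (1 : A) -
      (1 : A) ⊗ₜ[k] algebraMap (MvPolynomial (Fin n) k) A (MvPolynomial.X i))

omit [IsScalarTower k (MvPolynomial (Fin n) k) A] in
theorem eqn_mem_ker (i : Fin n) : eqn k A i ∈ RingHom.ker (algebraMap (Cq k A) A) := by
  rw [RingHom.mem_ker, eqn, algebraMap_CqA, map_sub, Algebra.TensorProduct.lmul'_apply_tmul,
    Algebra.TensorProduct.lmul'_apply_tmul, mul_one, one_mul, sub_self]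

/-- The equations generate the ideal of the diagonal. -/
theorem ker_eq_span [Algebra.EssFiniteType k A] [Algebra.FormallyUnramified (MvPolynomial (Fin n) k) A] :
    RingHom.ker (algebraMap (Cq k A) A) = Ideal.span (Set.range (eqn (n := n) k A)) := by
  refine le_antisymm ?_ (Ideal.span_le.2 (by rintro _ ⟨i, rfl⟩; exact eqn_mem_ker k A i))
  set J : Ideal (Cq k A) := Ideal.span (Set.range (eqn (n := n) k A)) with hJ
  let a : A →ₐ[k] (Cq k A ⧸ J) := ((Ideal.Quotient.mkₐ k J).comp (IsScalarTower.toAlgHom k (A ⊗[k] A) (Cq k A))).comp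
    Algebra.TensorProduct.includeLeft
  let b : A →ₐ[k] (Cq k A ⧸ J) := ((Ideal.Quotient.mkₐ k J).comp (IsScalarTower.toAlgHom k (A ⊗[k] A) (Cq k A))).comp
    Algebra.TensorProduct.includeRight
  let g : MvPolynomial (Fin n) k →ₐ[k] A := IsScalarTower.toAlgHom k _ A
  have hgen : a.comp g = b.comp g := MvPolynomial.algHom_ext fun i => by
    refine Ideal.Quotient.eq.2 ?_
    rw [← map_sub]
    exact Ideal.subset_span ⟨i, rfl⟩
  let ω : (Cq k A ⧸ J) →+* A := Ideal.Quotient.lift J (algebraMap (Cq k A) A) fun z hz =>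
    RingHom.mem_ker.1 ((Ideal.span_le.2 (by rintro _ ⟨i, rfl⟩; exact eqn_mem_ker k A i)) hz)
  have hab : ∀ x, a x = b x := by
    refine eq_of_agree (k := k) (A := A) (n := n) (D := Cq k A ⧸ J) a b hgen ω (fun x => mu_left k A x) (fun x => ?_) fun w hw => ?_
    · refine (algebraMap_CqA k A ((1 : A) ⊗ₜ[k] x)).trans ?_
      rw [Algebra.TensorProduct.lmul'_apply_tmul, one_mul]
    obtain ⟨z, rfl⟩ := Ideal.Quotient.mk_surjective w
    have h1 : algebraMap (Cq k A) A z = 1 := hw
    refine IsUnit.map _ ?_
    by_contra hc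
    have hzm : z ∈ maximalIdeal (Cq k A) := hc
    obtain ⟨c, s, rfl⟩ := IsLocalization.exists_mk'_eq (diagPt k A).primeCompl z
    rw [IsLocalization.AtPrime.mk'_mem_maximal_iff (Cq k A) (diagPt k A)] at hzm
    have hspec := congrArg (algebraMap (Cq k A) A) (IsLocalization.mk'_spec (Cq k A) c s)
    rw [map_mul, h1, one_mul, algebraMap_CqA, algebraMap_CqA] at hspec
    refine s.2 ?_
    change Algebra.TensorProduct.lmul' k (s : A ⊗[k] A) ∈ maximalIdeal A
    rw [hspec]
    exact hzm
  intro z hz
  have key : ∀ c : A ⊗[k] A, Ideal.Quotient.mk J (algebraMap _ _ c) =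
      a (Algebra.TensorProduct.lmul' k c) := fun c => by
    induction c using TensorProduct.induction_on with
    | zero => simp
    | add x y hx hy => simp only [map_add, hx, hy]
    | tmul x y =>
      rw [Algebra.TensorProduct.lmul'_apply_tmul, map_mul, hab y,
        show x ⊗ₜ[k] y = (x ⊗ₜ[k] (1 : A)) * ((1 : A) ⊗ₜ[k] y) by
          rw [Algebra.TensorProduct.tmul_mul_tmul, mul_one, one_mul], map_mul, map_mul]
      rfl
  obtain ⟨c, s, rfl⟩ := IsLocalization.exists_mk'_eq (diagPt k A).primeCompl z
  have hc : Algebra.TensorProduct.lmul' k c = 0 := by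
    have h := congrArg (algebraMap (Cq k A) A) (IsLocalization.mk'_spec (Cq k A) c s)
    rw [map_mul, RingHom.mem_ker.1 hz, zero_mul, algebraMap_CqA] at h
    exact h.symm
  rw [← Ideal.Quotient.eq_zero_iff_mem]
  have hu := (IsLocalization.map_units (Cq k A) s).map (Ideal.Quotient.mk J)
  refine hu.mul_left_eq_zero.1 ?_
  rw [← map_mul, IsLocalization.mk'_spec, key, hc, map_zero]

/-- The equations form a regular sequence. -/
theorem isWeaklyRegular_eqn [Module.Flat (MvPolynomial (Fin n) k) A] :
    RingTheory.Sequence.IsWeaklyRegular (Cq k A) (List.ofFn (eqn (n := n) k A)) := by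
  let S := MvPolynomial (Fin n) k ⊗[k] MvPolynomial (Fin n) k
  let E : S →ₐ[R] MvPolynomial (Fin n) R :=
    Algebra.TensorProduct.lift (Algebra.ofId R (MvPolynomial (Fin n) R))
      ((MvPolynomial.aeval fun i => MvPolynomial.C (MvPolynomial.X i) - MvPolynomial.X i :
        R →ₐ[k] MvPolynomial (Fin n) R)) fun _ _ => Commute.all _ _
  let F : MvPolynomial (Fin n) R →ₐ[R] S :=
    MvPolynomial.aeval fun i => MvPolynomial.X i ⊗ₜ[k] (1 : R) - (1 : R) ⊗ₜ[k] MvPolynomial.X i
  have hFE : F.comp E = AlgHom.id R S := by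
    refine Algebra.TensorProduct.ext (by ext) (MvPolynomial.algHom_ext fun i => ?_)
    simp [E, F]
    exact sub_eq_iff_eq_add.2 (by rw [AlgHom.id_apply]; exact (add_sub_cancel _ _).symm)
  have hEF : E.comp F = AlgHom.id R (MvPolynomial (Fin n) R) := MvPolynomial.algHom_ext fun i => by
    simp only [E, F, AlgHom.comp_apply, MvPolynomial.aeval_X, map_sub, AlgHom.id_apply]
    rw [Algebra.TensorProduct.lift_tmul, Algebra.TensorProduct.lift_tmul, map_one, map_one, mul_one, one_mul, MvPolynomial.aeval_X, Algebra.ofId_apply, MvPolynomial.algebraMap_eq, sub_sub_cancel]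
  let e : MvPolynomial (Fin n) R ≃ₐ[R] S := AlgEquiv.ofAlgHom F E hFE hEF
  have hS : RingTheory.Sequence.IsWeaklyRegular S
      (List.ofFn fun i : Fin n => MvPolynomial.X i ⊗ₜ[k] (1 : R) - (1 : R) ⊗ₜ[k] MvPolynomial.X i) := by
    have h := Groth.KoszulCone.isWeaklyRegular_varList_pow (A := R) n 1
    simp only [pow_one, List.map_id'] at h
    refine (e.toRingEquiv.toAddEquiv.isWeaklyRegular_congr
      (as := List.ofFn fun j : Fin n => (MvPolynomial.X j : MvPolynomial (Fin n) R)) ?_).1 h
    rw [List.forall₂_iff_get]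
    refine ⟨by simp, fun j h1 h2 x => ?_⟩
    simp only [List.get_eq_getElem, List.getElem_ofFn]
    change e (MvPolynomial.X _ • x) = _
    rw [smul_eq_mul, map_mul, smul_eq_mul]
    congr 1
    simp [e, F]
  let φ : S →ₐ[k] A ⊗[k] A :=
    Algebra.TensorProduct.map (IsScalarTower.toAlgHom k R A) (IsScalarTower.toAlgHom k R A)
  letI : Algebra S (A ⊗[k] A) := φ.toRingHom.toAlgebra
  haveI : Module.Flat S (A ⊗[k] A) := by
    have h1 : φ.toRingHom.Flat := RingHom.Flat.tensorProductMap
      (RingHom.flat_algebraMap_iff.2 inferInstance) (RingHom.flat_algebraMap_iff.2 inferInstance)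
    exact h1
  haveI : Module.Flat (A ⊗[k] A) (Cq k A) := IsLocalization.flat _ (diagPt k A).primeCompl
  letI : Algebra S (Cq k A) := ((algebraMap (A ⊗[k] A) (Cq k A)).comp φ.toRingHom).toAlgebra
  haveI : IsScalarTower S (A ⊗[k] A) (Cq k A) := IsScalarTower.of_algebraMap_eq fun _ => rfl
  haveI : Module.Flat S (Cq k A) := Module.Flat.trans S (A ⊗[k] A) (Cq k A)
  have h := hS.of_flat (S := Cq k A)
  rw [List.map_ofFn] at h
  have heq : List.ofFn (eqn (n := n) k A) = List.ofFn (algebraMap S (Cq k A) ∘ fun i : Fin n =>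
      MvPolynomial.X i ⊗ₜ[k] (1 : R) - (1 : R) ⊗ₜ[k] MvPolynomial.X i) := by
    congr 1
    funext i
    rw [Function.comp_apply, IsScalarTower.algebraMap_apply S (A ⊗[k] A) (Cq k A)]
    simp only [eqn, φ, RingHom.algebraMap_toAlgebra, map_sub, AlgHom.toRingHom_eq_coe, RingHom.coe_coe]
    erw [Algebra.TensorProduct.map_tmul, Algebra.TensorProduct.map_tmul, map_one]
    rfl
  rw [heq]
  exact h

end Equations

end Groth.Calg6.Diag
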