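import Groth.Agent.Calg6.ProdStalk
import Groth.Agent.Calg6.DiagReduce
import Groth.Agent.Calg6.ClosedImmStalk

/-!
Maps of local rings at named points, and the local rings of products over a field at named points.
-/

set_option autoImplicit false

universe u

open CategoryTheory CategoryTheory.Limits AlgebraicGeometry TensorProduct Groth.Calg6.ProdStalk

namespace Groth.Calg6.DiagStalk

variable {X Y Z : Scheme.{u}}

/-- The map of local rings along a morphism, at a point given by name. -/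
noncomputable def stalkMapAt (h : Y ⟶ X) (y : Y) (x : X) (hx : h y = x) :
    X.presheaf.stalk x ⟶ Y.presheaf.stalk y :=
  (X.presheaf.stalkCongr (.of_eq hx.symm)).hom ≫ h.stalkMap y

theorem stalkMapAt_rfl (h : Y ⟶ X) (y : Y) : stalkMapAt h y (h y) rfl = h.stalkMap y := by
  rw [stalkMapAt, TopCat.Presheaf.stalkCongr_hom, TopCat.Presheaf.stalkSpecializes_refl, Category.id_comp]

theorem stalkMapAt_id (x : X) : stalkMapAt (𝟙 X) x x rfl = 𝟙 _ := by
  refine (stalkMapAt_rfl (𝟙 X) x).trans ?_
  exact Scheme.Hom.stalkMap_id _ x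

theorem stalkMapAt_congr {h h' : Y ⟶ X} (e : h = h') (y : Y) (x : X) (hx : h y = x) (hx' : h' y = x) :
    stalkMapAt h y x hx = stalkMapAt h' y x hx' := by
  subst e
  rfl

theorem stalkMapAt_comp (h : Y ⟶ X) (g : Z ⟶ Y) (z : Z) (y : Y) (x : X) (hy : g z = y) (hx : h y = x)
    (hzx : (g ≫ h) z = x) : stalkMapAt h y x hx ≫ stalkMapAt g z y hy = stalkMapAt (g ≫ h) z x hzx := by
  subst hy hx
  rw [stalkMapAt_rfl, stalkMapAt_rfl]
  exact (Scheme.Hom.stalkMap_comp g h z).symm.trans (stalkMapAt_rfl (g ≫ h) z).symm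

instance isLocalHom_stalkMapAt (h : Y ⟶ X) (y : Y) (x : X) (hx : h y = x) :
    IsLocalHom (stalkMapAt h y x hx).hom := by
  subst hx
  rw [stalkMapAt_rfl]
  infer_instance

theorem baseHom_stalkMapAt {R : CommRingCat.{u}} (f : X ⟶ Spec R) (h : Y ⟶ X) (y : Y) (x : X) (hx : h y = x) :
    baseHom f x ≫ stalkMapAt h y x hx = baseHom (h ≫ f) y := by
  subst hx
  rw [stalkMapAt_rfl, baseHom, baseHom, Category.assoc, Category.assoc, Scheme.Hom.germ_stalkMap,
    Scheme.Hom.comp_appTop, Category.assoc]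
  rfl

theorem ker_stalkMapAt (i : Y ⟶ X) [IsClosedImmersion i] (y : Y) (x : X) (hx : i y = x) :
    RingHom.ker (stalkMapAt i y x hx).hom = IntMult.stalkIdeal i.ker x := by
  subst hx
  rw [stalkMapAt_rfl]
  exact Groth.Calg6.ClosedImmStalk.ker_stalkMap_eq i y

theorem surjective_stalkMapAt (i : Y ⟶ X) [IsClosedImmersion i] (y : Y) (x : X) (hx : i y = x) :
    Function.Surjective (stalkMapAt i y x hx).hom := by
  subst hx
  rw [stalkMapAt_rfl]
  exact i.stalkMap_surjective y

/-- The local ring of a product at a point with named projections. -/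
theorem exists_pi {R : CommRingCat.{u}} [Subsingleton ↥(Spec R)] (f : X ⟶ Spec R) (g : Y ⟶ Spec R)
    (z : ↥(pullback f g)) (x : X) (y : Y) (hx : pullback.fst f g z = x) (hy : pullback.snd f g z = y) :
    letI := (baseHom f x).hom.toAlgebra
    letI := (baseHom g y).hom.toAlgebra
    ∃ π : X.presheaf.stalk x ⊗[R] Y.presheaf.stalk y →+* (pullback f g).presheaf.stalk z,
      π.comp Algebra.TensorProduct.includeLeftRingHom = (stalkMapAt (pullback.fst f g) z x hx).hom ∧
      π.comp (Algebra.TensorProduct.includeRight (R := R) (A := X.presheaf.stalk x)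
        (B := Y.presheaf.stalk y)).toRingHom = (stalkMapAt (pullback.snd f g) z y hy).hom ∧
      (letI := π.toAlgebra
       IsLocalization.AtPrime ((pullback f g).presheaf.stalk z)
        ((IsLocalRing.maximalIdeal ((pullback f g).presheaf.stalk z)).comap π)) := by
  subst hx hy
  letI := (baseHom f (pullback.fst f g z)).hom.toAlgebra
  letI := (baseHom g (pullback.snd f g z)).hom.toAlgebra
  letI := (baseHom (pullback.fst f g ≫ f) z).hom.toAlgebra
  let a : X.presheaf.stalk (pullback.fst f g z) →ₐ[R] (pullback f g).presheaf.stalk z :=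
    AlgHom.mk (stalkMapAt (pullback.fst f g) z _ rfl).hom fun r =>
      congr($(baseHom_stalkMapAt f (pullback.fst f g) z _ rfl).hom r)
  let b : Y.presheaf.stalk (pullback.snd f g z) →ₐ[R] (pullback f g).presheaf.stalk z :=
    AlgHom.mk (stalkMapAt (pullback.snd f g) z _ rfl).hom fun r =>
      (congr($(baseHom_stalkMapAt g (pullback.snd f g) z _ rfl).hom r)).trans
        (congrArg (fun h => (baseHom h z).hom r) pullback.condition.symm)
  let π := (Algebra.TensorProduct.lift a b fun _ _ => Commute.all _ _).toRingHom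
  have hl : π.comp Algebra.TensorProduct.includeLeftRingHom =
      (stalkMapAt (pullback.fst f g) z _ rfl).hom := RingHom.ext fun c => by
    change Algebra.TensorProduct.lift a b (fun _ _ => Commute.all _ _) (c ⊗ₜ[R] 1) = _
    rw [Algebra.TensorProduct.lift_tmul, map_one, mul_one]
    rfl
  have hr : π.comp (Algebra.TensorProduct.includeRight (R := R) (A := X.presheaf.stalk (pullback.fst f g z))
      (B := Y.presheaf.stalk (pullback.snd f g z))).toRingHom =
      (stalkMapAt (pullback.snd f g) z _ rfl).hom := RingHom.ext fun c => by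
    change Algebra.TensorProduct.lift a b (fun _ _ => Commute.all _ _) (1 ⊗ₜ[R] c) = _
    rw [Algebra.TensorProduct.lift_tmul, map_one, one_mul]
    rfl
  exact ⟨π, hl, hr, isLocalization_prod_stalk f g z π (hl.trans (by rw [stalkMapAt_rfl]))
    (hr.trans (by rw [stalkMapAt_rfl]))⟩

/-- The ideal of a product of closed subschemes at a point. -/
theorem ker_prod {R : CommRingCat.{u}} [Subsingleton ↥(Spec R)] {V W : Scheme.{u}} (f : X ⟶ Spec R)
    (g : Y ⟶ Spec R) (i : V ⟶ X) (j : W ⟶ Y) [IsClosedImmersion i] [IsClosedImmersion j]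
    (p : pullback (i ≫ f) (j ≫ g) ⟶ pullback f g) (hp₁ : p ≫ pullback.fst f g = pullback.fst _ _ ≫ i)
    (hp₂ : p ≫ pullback.snd f g = pullback.snd _ _ ≫ j)
    (z' : ↥(pullback (i ≫ f) (j ≫ g))) (z : ↥(pullback f g)) (x : X) (y : Y) (hz : p z' = z)
    (hx : pullback.fst f g z = x) (hy : pullback.snd f g z = y) :
    RingHom.ker (stalkMapAt p z' z hz).hom =
      (IntMult.stalkIdeal i.ker x).map (stalkMapAt (pullback.fst f g) z x hx).hom ⊔
        (IntMult.stalkIdeal j.ker y).map (stalkMapAt (pullback.snd f g) z y hy).hom := by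
  letI := (baseHom f x).hom.toAlgebra
  letI := (baseHom g y).hom.toAlgebra
  letI := (baseHom (i ≫ f) (pullback.fst (i ≫ f) (j ≫ g) z')).hom.toAlgebra
  letI := (baseHom (j ≫ g) (pullback.snd (i ≫ f) (j ≫ g) z')).hom.toAlgebra
  obtain ⟨π, hl, hr, hloc⟩ := exists_pi f g z x y hx hy
  obtain ⟨π', hl', hr', hloc'⟩ := exists_pi (i ≫ f) (j ≫ g) z' _ _ rfl rfl
  have hv : i (pullback.fst (i ≫ f) (j ≫ g) z') = x := by
    rw [← hx, ← hz, ← Scheme.Hom.comp_apply, ← Scheme.Hom.comp_apply, hp₁]
  have hw : j (pullback.snd (i ≫ f) (j ≫ g) z') = y := by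
    rw [← hy, ← hz, ← Scheme.Hom.comp_apply, ← Scheme.Hom.comp_apply, hp₂]
  let a : X.presheaf.stalk x →ₐ[R] V.presheaf.stalk (pullback.fst (i ≫ f) (j ≫ g) z') :=
    AlgHom.mk (stalkMapAt i _ x hv).hom fun r => congr($(baseHom_stalkMapAt f i _ x hv).hom r)
  let b : Y.presheaf.stalk y →ₐ[R] W.presheaf.stalk (pullback.snd (i ≫ f) (j ≫ g) z') :=
    AlgHom.mk (stalkMapAt j _ y hw).hom fun r => congr($(baseHom_stalkMapAt g j _ y hw).hom r)
  have hψ : (stalkMapAt p z' z hz).hom.comp π = π'.comp (Algebra.TensorProduct.map a b).toRingHom := by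
    have e₁ : stalkMapAt (pullback.fst f g) z x hx ≫ stalkMapAt p z' z hz =
        stalkMapAt i _ x hv ≫ stalkMapAt (pullback.fst (i ≫ f) (j ≫ g)) z' _ rfl := by
      rw [stalkMapAt_comp _ _ z' z x hz hx (by rw [Scheme.Hom.comp_apply, hz, hx]),
        stalkMapAt_comp _ _ z' _ x rfl hv (by rw [Scheme.Hom.comp_apply, hv])]
      exact stalkMapAt_congr hp₁ _ _ _ _
    have e₂ : stalkMapAt (pullback.snd f g) z y hy ≫ stalkMapAt p z' z hz =
        stalkMapAt j _ y hw ≫ stalkMapAt (pullback.snd (i ≫ f) (j ≫ g)) z' _ rfl := by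
      rw [stalkMapAt_comp _ _ z' z y hz hy (by rw [Scheme.Hom.comp_apply, hz, hy]),
        stalkMapAt_comp _ _ z' _ y rfl hw (by rw [Scheme.Hom.comp_apply, hw])]
      exact stalkMapAt_congr hp₂ _ _ _ _
    refine RingHom.ext fun c => ?_
    induction c using TensorProduct.induction_on with
    | zero => simp only [map_zero]
    | add c d hc hd => simp only [map_add, hc, hd]
    | tmul c d =>
      have hc : π (c ⊗ₜ[R] 1) = (stalkMapAt (pullback.fst f g) z x hx).hom c := congrArg (fun h => h c) hl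
      have hd : π (1 ⊗ₜ[R] d) = (stalkMapAt (pullback.snd f g) z y hy).hom d := congrArg (fun h => h d) hr
      have hc' : π' (a c ⊗ₜ[R] 1) = (stalkMapAt (pullback.fst (i ≫ f) (j ≫ g)) z' _ rfl).hom (a c) :=
        congrArg (fun h => h (a c)) hl'
      have hd' : π' (1 ⊗ₜ[R] b d) = (stalkMapAt (pullback.snd (i ≫ f) (j ≫ g)) z' _ rfl).hom (b d) :=
        congrArg (fun h => h (b d)) hr'
      rw [show c ⊗ₜ[R] d = (c ⊗ₜ[R] (1 : Y.presheaf.stalk y)) * ((1 : X.presheaf.stalk x) ⊗ₜ[R] d) by
        rw [Algebra.TensorProduct.tmul_mul_tmul, mul_one, one_mul], map_mul, map_mul]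
      refine congrArg₂ (· * ·) ?_ ?_
      · rw [RingHom.comp_apply, hc, RingHom.comp_apply]
        change _ = π' (Algebra.TensorProduct.map a b (c ⊗ₜ[R] 1))
        rw [Algebra.TensorProduct.map_tmul, map_one, hc']
        exact congr($(e₁).hom c)
      · rw [RingHom.comp_apply, hd, RingHom.comp_apply]
        change _ = π' (Algebra.TensorProduct.map a b (1 ⊗ₜ[R] d))
        rw [Algebra.TensorProduct.map_tmul, map_one, hd']
        exact congr($(e₂).hom d)
  rw [Groth.Calg6.Diag.ker_eq_map a b (surjective_stalkMapAt i _ x hv) (surjective_stalkMapAt j _ y hw)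
    π π' hloc hloc' _ hψ, hl, hr]
  exact congrArg₂ (fun I J => Ideal.map _ I ⊔ Ideal.map _ J) (ker_stalkMapAt i _ x hv) (ker_stalkMapAt j _ y hw)

end Groth.Calg6.DiagStalk
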