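import Groth.Agent.Calg6.DiagRing
import Groth.Agent.Calg6.TorAcyclic
import Groth.Agent.HTopHyper.HTor.BaseChange

/-!
`Tor` over `A` is `Tor` over the local ring of `A ⊗_k A` at the diagonal closed point.
-/

set_option autoImplicit false
set_option backward.isDefEq.respectTransparency false

universe u

open TensorProduct IsLocalRing CategoryTheory

namespace Groth.Calg6.Diag

variable (k : Type u) [Field k] (A : Type u) [CommRing A] [Algebra k A] [IsLocalRing A]

noncomputable instance algebraTensorA : Algebra (A ⊗[k] A) A :=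
  (Algebra.TensorProduct.lmul' k (S := A)).toRingHom.toAlgebra

instance isScalarTower_tensor : IsScalarTower (A ⊗[k] A) (Cq k A) A :=
  IsScalarTower.of_algebraMap_eq fun c => (algebraMap_CqA k A c).symm

variable (N : Type u) [AddCommGroup N] [Module k N] [Module A N] [IsScalarTower k A N]

/-- The module on the local ring. -/
def E (M : Type u) [AddCommGroup M] [Module k M] [Module A M] [IsScalarTower k A M] : Type u :=
  Cq k A ⊗[A ⊗[k] A] W k N M

noncomputable instance E.instAddCommGroup (M : Type u) [AddCommGroup M] [Module k M] [Module A M]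
    [IsScalarTower k A M] : AddCommGroup (E k A N M) :=
  inferInstanceAs (AddCommGroup (Cq k A ⊗[A ⊗[k] A] W k N M))

noncomputable instance E.instModule (M : Type u) [AddCommGroup M] [Module k M] [Module A M]
    [IsScalarTower k A M] : Module (Cq k A) (E k A N M) :=
  inferInstanceAs (Module (Cq k A) (Cq k A ⊗[A ⊗[k] A] W k N M))

/-- The localisation map. -/
noncomputable def toE (M : Type u) [AddCommGroup M] [Module k M] [Module A M] [IsScalarTower k A M] :
    Cq k A ⊗[A ⊗[k] A] W k N M ≃ₗ[Cq k A] E k A N M :=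
  LinearEquiv.refl _ _

/-- Functoriality on the local ring. -/
noncomputable def Emap {M M' : Type u} [AddCommGroup M] [Module k M] [Module A M] [IsScalarTower k A M]
    [AddCommGroup M'] [Module k M'] [Module A M'] [IsScalarTower k A M'] (v : M →ₗ[A] M') :
    E k A N M →ₗ[Cq k A] E k A N M' :=
  (toE k A N M').toLinearMap ∘ₗ (Wmap (k := k) (N := N) v).baseChange (Cq k A) ∘ₗ (toE k A N M).symm.toLinearMap

variable {M M' : Type u} [AddCommGroup M] [Module k M] [Module A M] [IsScalarTower k A M]
  [AddCommGroup M'] [Module k M'] [Module A M'] [IsScalarTower k A M']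

omit [IsLocalRing A] in
/-- `A ⊗_C (N ⊗_k M) ≅ M ⊗_A N`, with naturality. -/
theorem exists_psi : ∃ ψ : ∀ (M : Type u) [AddCommGroup M] [Module k M] [Module A M] [IsScalarTower k A M],
    A ⊗[A ⊗[k] A] W k N M ≃ₗ[A] M ⊗[A] N,
    ∀ (M : Type u) [AddCommGroup M] [Module k M] [Module A M] [IsScalarTower k A M] (a : A) (x : N) (y : M),
      ψ M (a ⊗ₜ mkW x y) = a • (y ⊗ₜ[A] x) := by
  suffices h : ∀ (M : Type u) [AddCommGroup M] [Module k M] [Module A M] [IsScalarTower k A M],
      ∃ ψ : A ⊗[A ⊗[k] A] W k N M ≃ₗ[A] M ⊗[A] N, ∀ (a : A) (x : N) (y : M),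
        ψ (a ⊗ₜ mkW x y) = a • (y ⊗ₜ[A] x) from
    ⟨fun M _ _ _ _ => (h M).choose, fun M _ _ _ _ => (h M).choose_spec⟩
  intro M _ _ _ _
  let Ψ : W k N M →+ M ⊗[A] N :=
    (TensorProduct.lift (LinearMap.mk₂ k (fun (x : N) (y : M) => y ⊗ₜ[A] x)
      (fun x x' y => TensorProduct.tmul_add y x x') (fun c x y => (TensorProduct.tmul_smul c y x))
      (fun x y y' => TensorProduct.add_tmul y y' x) (fun c x y => (TensorProduct.smul_tmul' c y x).symm)) :
      N ⊗[k] M →ₗ[k] M ⊗[A] N).toAddMonoidHom
  have hΨ : ∀ (x : N) (y : M), Ψ (mkW x y) = y ⊗ₜ[A] x := fun x y => rfl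
  letI : Module (A ⊗[k] A) (M ⊗[A] N) := Module.compHom _ (algebraMap (A ⊗[k] A) A)
  haveI : IsScalarTower (A ⊗[k] A) A (M ⊗[A] N) := IsScalarTower.of_algebraMap_smul fun _ _ => rfl
  have hlin : ∀ (c : A ⊗[k] A) (w : W k N M), Ψ (c • w) = c • Ψ w := fun c w => by
    change _ = (Algebra.TensorProduct.lmul' k c : A) • Ψ w
    induction c using TensorProduct.induction_on with
    | zero => rw [zero_smul, map_zero, map_zero, zero_smul]
    | add c d hc hd => rw [add_smul, map_add, map_add, hc, hd, add_smul]
    | tmul a b =>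
      induction w using W.induction with
      | h0 => simp
      | ha u v hu hv => rw [smul_add, map_add, map_add, hu, hv, smul_add]
      | hm x y =>
        rw [tmul_smul_mkW, hΨ, hΨ, Algebra.TensorProduct.lmul'_apply_tmul, mul_smul, TensorProduct.tmul_smul,
          TensorProduct.smul_tmul' b]
  let fwd : A ⊗[A ⊗[k] A] W k N M →ₗ[A] M ⊗[A] N :=
    LinearMap.liftBaseChange A ({ toFun := Ψ, map_add' := map_add Ψ, map_smul' := hlin } :
      W k N M →ₗ[A ⊗[k] A] M ⊗[A] N)
  have hfwd : ∀ (a : A) (x : N) (y : M), fwd (a ⊗ₜ mkW x y) = a • (y ⊗ₜ[A] x) := fun a x y => by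
    simp [fwd, hΨ]
  have hsm : ∀ (c : A ⊗[k] A) (w : W k N M), (Algebra.TensorProduct.lmul' k c : A) • ((1 : A) ⊗ₜ[A ⊗[k] A] w) =
      (1 : A) ⊗ₜ[A ⊗[k] A] (c • w) := fun c w => by
    rw [← TensorProduct.smul_tmul, TensorProduct.smul_tmul', smul_eq_mul, mul_one, Algebra.smul_def, mul_one]
    rfl
  let bwd : M ⊗[A] N →ₗ[A] A ⊗[A ⊗[k] A] W k N M :=
    TensorProduct.lift (LinearMap.mk₂ A (fun (y : M) (x : N) => (1 : A) ⊗ₜ[A ⊗[k] A] (mkW x y : W k N M))
      (fun y y' x => by rw [mkW_add_right, TensorProduct.tmul_add])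
      (fun c y x => by
        have := hsm ((1 : A) ⊗ₜ[k] c) (mkW x y)
        rw [Algebra.TensorProduct.lmul'_apply_tmul, one_mul, tmul_smul_mkW, one_smul] at this
        exact this.symm)
      (fun y x x' => by rw [mkW_add_left, TensorProduct.tmul_add])
      (fun c y x => by
        have := hsm (c ⊗ₜ[k] (1 : A)) (mkW x y)
        rw [Algebra.TensorProduct.lmul'_apply_tmul, mul_one, tmul_smul_mkW, one_smul] at this
        exact this.symm))
  refine ⟨LinearEquiv.ofLinearMap fwd bwd ?_ ?_, hfwd⟩
  · refine TensorProduct.ext' fun y x => ?_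
    rw [LinearMap.comp_apply, TensorProduct.lift.tmul, LinearMap.mk₂_apply, hfwd, one_smul, LinearMap.id_apply]
  · refine LinearMap.ext fun z => ?_
    induction z using TensorProduct.induction_on with
    | zero => simp
    | add u v hu hv => simp only [map_add, hu, hv]
    | tmul a w =>
      induction w using W.induction with
      | h0 => simp
      | ha u v hu hv => simp only [TensorProduct.tmul_add, map_add, hu, hv]
      | hm x y =>
        rw [LinearMap.comp_apply, hfwd, map_smul, TensorProduct.lift.tmul, LinearMap.mk₂_apply,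
          TensorProduct.smul_tmul', smul_eq_mul, mul_one, LinearMap.id_apply]

omit [IsLocalRing A] in
theorem length_ker_rl {S : Type u} [CommRing S] {P Q T : Type u} [AddCommGroup P] [Module S P] [AddCommGroup Q]
    [Module S Q] [AddCommGroup T] [Module S T] (f : P →ₗ[S] Q) :
    Module.length S (LinearMap.ker (f.rTensor T)) = Module.length S (LinearMap.ker (f.lTensor T)) :=
  (Groth.HTorLib.kerRLEquiv f).length_eq

omit [IsLocalRing A] in
theorem length_ker_bc {S B : Type u} [CommRing S] [CommRing B] [Algebra S B]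
    (hB : Function.Surjective (algebraMap S B)) {P Q : Type u} [AddCommGroup P] [Module S P] [AddCommGroup Q]
    [Module S Q] (f : P →ₗ[S] Q) :
    Module.length S (LinearMap.ker (f.lTensor B)) = Module.length B (LinearMap.ker (f.baseChange B)) := by
  rw [← Module.length_eq_of_surjective (R := B) (M := LinearMap.ker (f.baseChange B)) hB]
  refine LinearEquiv.length_eq
    { toFun := fun z => ⟨z.1, z.2⟩
      map_add' := fun _ _ => rfl
      map_smul' := fun _ _ => rfl
      invFun := fun z => ⟨z.1, z.2⟩
      left_inv := fun _ => rfl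
      right_inv := fun _ => rfl }

/-- The kernel after restriction to the diagonal. -/
theorem length_ker_eq (v : M →ₗ[A] M') :
    Module.length (Cq k A) (LinearMap.ker ((Emap k A N v).rTensor A)) =
      Module.length A (LinearMap.ker (v.rTensor N)) := by
  obtain ⟨ψ, hψ⟩ := exists_psi k A N
  set f := Emap k A N v with hf
  let φ : ∀ (M : Type u) [AddCommGroup M] [Module k M] [Module A M] [IsScalarTower k A M],
      A ⊗[Cq k A] E k A N M ≃ₗ[A] M ⊗[A] N := fun M _ _ _ _ =>
    ((toE k A N M).symm.baseChange (Cq k A) A _ _).trans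
      ((AlgebraTensorModule.cancelBaseChange (A ⊗[k] A) (Cq k A) A A (W k N M)).trans (ψ M))
  have hnat : ∀ z, φ M' (f.baseChange A z) = v.rTensor N (φ M z) := fun z => by
    induction z using TensorProduct.induction_on with
    | zero => simp
    | add u v hu hv => simp only [map_add, hu, hv]
    | tmul a z =>
      obtain ⟨z, rfl⟩ := (toE k A N M).surjective z
      induction z using TensorProduct.induction_on with
      | zero => simp
      | add u v hu hv => simp only [map_add, TensorProduct.tmul_add, hu, hv]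
      | tmul c w =>
        induction w using W.induction with
        | h0 => simp
        | ha u v hu hv => simp only [TensorProduct.tmul_add, map_add, hu, hv]
        | hm x y =>
          rw [LinearMap.baseChange_tmul, hf, Emap]
          simp only [LinearMap.comp_apply, LinearEquiv.coe_coe, LinearEquiv.symm_apply_apply,
            LinearMap.baseChange_tmul, Wmap_mkW]
          simp only [φ, LinearEquiv.trans_apply, LinearEquiv.baseChange_tmul, LinearEquiv.symm_apply_apply, AlgebraTensorModule.cancelBaseChange_tmul, hψ,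
            map_smul, LinearMap.rTensor_tmul]
  let e₁ : LinearMap.ker (f.baseChange A) ≃ₗ[A] LinearMap.ker (v.rTensor N) :=
    LinearEquiv.ofSubmodules (φ M) _ _ (by
      ext z
      obtain ⟨z, rfl⟩ := (φ M).surjective z
      rw [Submodule.mem_map_equiv, LinearEquiv.symm_apply_apply, LinearMap.mem_ker, LinearMap.mem_ker, ← hnat,
        LinearEquiv.map_eq_zero_iff])
  rw [length_ker_rl f, length_ker_bc (algebraMap_surjective k A), e₁.length_eq]

theorem length_tensor (M : Type u) [AddCommGroup M] [Module k M] [Module A M] [IsScalarTower k A M] :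
    Module.length (Cq k A) (E k A N M ⊗[Cq k A] A) = Module.length A (M ⊗[A] N) := by
  obtain ⟨ψ, -⟩ := exists_psi k A N
  rw [(TensorProduct.comm (Cq k A) (E k A N M) A).length_eq,
    Module.length_eq_of_surjective (R := A) (algebraMap_surjective k A),
    (((toE k A N M).symm.baseChange (Cq k A) A _ _).trans
      ((AlgebraTensorModule.cancelBaseChange (A ⊗[k] A) (Cq k A) A A (W k N M)).trans (ψ M))).length_eq]

/-- Free modules are acyclic. -/
theorem subsingleton_tor_free (b p : ℕ) :
    Subsingleton (DRing.Tor (Cq k A) (p + 1) (E k A N (Fin b → A)) A) := by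
  let e : E k A N (Fin b → A) ≃ₗ[Cq k A] Cq k A ⊗[A] (Fin b → N) :=
    (toE k A N (Fin b → A)).symm.trans (((LinearEquiv.ofBijective (freeMap (k := k) (A := A) (N := N) (b := b)) freeMap_bijective).symm.baseChange
      (A ⊗[k] A) (Cq k A) _ _).trans
      (AlgebraTensorModule.cancelBaseChange A (A ⊗[k] A) (Cq k A) (Cq k A) (Fin b → N)))
  obtain ⟨φ, hφ⟩ := Groth.HTorLib.tor_baseChange_flat (A := A) (A' := Cq k A) A (Fin b → N) (p + 1)
  have := Groth.HTorLib.subsingleton_tor_of_flat_left (A := A) A (Fin b → N) p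
  have : Subsingleton (DRing.Tor (Cq k A) (p + 1) A (Cq k A ⊗[A] (Fin b → N))) := hφ.2.subsingleton
  have : Subsingleton (DRing.Tor (Cq k A) (p + 1) A (E k A N (Fin b → A))) :=
    (((CategoryTheory.Tor (ModuleCat.{u} (Cq k A)) (p + 1)).obj (ModuleCat.of (Cq k A) A)).mapIso
      e.toModuleIso).toLinearEquiv.toEquiv.subsingleton
  obtain ⟨e'⟩ := Groth.HTorLib.tor_symm (A := Cq k A) (p + 1) (E k A N (Fin b → A)) A
  exact e'.toEquiv.subsingleton

variable [IsNoetherianRing A]

/-- One step of the reduction. -/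
theorem length_tor_one {K F : Type u} [AddCommGroup K] [Module k K] [Module A K] [IsScalarTower k A K]
    [AddCommGroup F] [Module k F] [Module A F] [IsScalarTower k A F] [Module.Flat A F] (v : K →ₗ[A] F)
    (ρ : F →ₗ[A] M) (hv : Function.Injective v) (hρ : Function.Surjective ρ) (hvρ : Function.Exact v ρ)
    (hv' : Function.Injective (Emap k A N v)) (hρ' : Function.Surjective (Emap k A N ρ))
    (hex' : Function.Exact (Emap k A N v) (Emap k A N ρ))
    (h : Subsingleton (DRing.Tor (Cq k A) 1 (E k A N F) A)) :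
    Module.length (Cq k A) (DRing.Tor (Cq k A) 1 (E k A N M) A) = Module.length A (DRing.Tor A 1 M N) := by
  obtain ⟨e₁⟩ := Groth.Calg6.TorAcyclic.tor_one hv' hρ' hex' A h
  obtain ⟨e₂⟩ := Groth.Calg6.TorAcyclic.tor_one hv hρ hvρ N
    (Groth.HTorLib.subsingleton_tor_of_flat_left _ _ 0)
  rw [e₁.length_eq, e₂.length_eq, length_ker_eq]

/-- The reduction to the diagonal. -/
theorem length_tor : ∀ (i : ℕ) (M : Type u) [AddCommGroup M] [Module k M] [Module A M] [IsScalarTower k A M]
    [Module.Finite A M], Module.length (Cq k A) (DRing.Tor (Cq k A) i (E k A N M) A) =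
      Module.length A (DRing.Tor A i M N) := by
  intro i
  induction i using Nat.strong_induction_on with
  | _ i ih =>
  intro M _ _ _ _ _
  obtain ⟨b, ρ, hρ⟩ := Module.Finite.exists_fin' A M
  haveI : Module.Finite A (LinearMap.ker ρ) := Module.Finite.iff_fg.2 (IsNoetherian.noetherian _)
  have hvρ : Function.Exact (LinearMap.ker ρ).subtype ρ := LinearMap.exact_subtype_ker_map ρ
  haveI : Module.Flat (A ⊗[k] A) (Cq k A) := IsLocalization.flat _ (diagPt k A).primeCompl
  have hv' : Function.Injective (Emap k A N (LinearMap.ker ρ).subtype) :=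
    (toE k A N _).injective.comp ((Module.Flat.lTensor_preserves_injective_linearMap (M := Cq k A) _
      (Wmap_injective _ (LinearMap.ker ρ).subtype_injective)).comp (toE k A N _).symm.injective)
  have hρ' : Function.Surjective (Emap k A N ρ) :=
    (toE k A N _).surjective.comp ((LinearMap.lTensor_surjective (Cq k A) (Wmap_surjective _ hρ)).comp
      (toE k A N _).symm.surjective)
  have hex' : Function.Exact (Emap k A N (LinearMap.ker ρ).subtype) (Emap k A N ρ) :=
    lTensor_exact (Cq k A) (Wmap_exact _ _ hρ hvρ) (Wmap_surjective _ hρ)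
  match i, ih with
  | 0, _ =>
    obtain ⟨e₁⟩ := Groth.HTorLib.tor_zero_equiv (A := Cq k A) (E k A N M) A
    obtain ⟨e₂⟩ := Groth.HTorLib.tor_zero_equiv (A := A) M N
    rw [e₁.length_eq, e₂.length_eq, length_tensor]
  | 1, _ =>
    exact length_tor_one k A N (LinearMap.ker ρ).subtype ρ (LinearMap.ker ρ).subtype_injective hρ hvρ hv' hρ'
      hex' (subsingleton_tor_free k A N b 0)
  | p + 2, ih =>
    obtain ⟨e₁⟩ := Groth.Calg6.TorAcyclic.tor_shift hv' hρ' hex' A p (subsingleton_tor_free k A N b p)
      (subsingleton_tor_free k A N b (p + 1))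
    obtain ⟨e₂⟩ := Groth.HTorLib.tor_shift_left (LinearMap.ker ρ).subtype_injective hρ hvρ N p
    rw [e₁.length_eq, e₂.length_eq, ih (p + 1) (by omega) (LinearMap.ker ρ)]

end Groth.Calg6.Diag
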