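import Mathlib.RingTheory.RegularLocalRing.Defs
import Mathlib.RingTheory.Ideal.Cotangent
import Mathlib.Algebra.Module.SpanRankOperations
import Mathlib.LinearAlgebra.Dimension.Finrank

/-!
Two ideals summing to the maximal ideal of a regular local ring.
-/

set_option autoImplicit false

universe u

open IsLocalRing

namespace Groth.Calg6.EdimSum

variable {A : Type u} [CommRing A] [IsLocalRing A] [IsNoetherianRing A]

/-- Minimal generators may be chosen in any generating set. -/
theorem exists_finset_generators (G : Set A) (hG : Ideal.span G = maximalIdeal A) :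
    ∃ S : Finset A, (S : Set A) ⊆ G ∧ Ideal.span (S : Set A) = maximalIdeal A ∧
      S.card ≤ (maximalIdeal A).spanFinrank := by
  classical
  let s : Set (maximalIdeal A) := {x | (x : A) ∈ G}
  have hs : Submodule.span A s = ⊤ := by
    refine Submodule.map_injective_of_injective (maximalIdeal A).injective_subtype ?_
    rw [Submodule.map_span, Submodule.map_top, Submodule.range_subtype]
    refine Eq.trans ?_ hG
    refine congrArg (Submodule.span A) (Set.ext fun x => ⟨?_, fun hx => ?_⟩)
    · rintro ⟨y, hy, rfl⟩; exact hy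
    · exact ⟨⟨x, hG ▸ Ideal.subset_span hx⟩, hx, rfl⟩
  have htop := CotangentSpace.span_image_eq_top_iff.2 hs
  obtain ⟨b, hbs, hbspan, hli⟩ := exists_linearIndependent (ResidueField A) ((maximalIdeal A).toCotangent '' s)
  rw [htop] at hbspan
  haveI : Fintype b := (hli.setFinite).fintype
  choose lift hlift using fun x : b => hbs x.2
  let S₀ : Finset (maximalIdeal A) := Finset.univ.image lift
  refine ⟨S₀.image Subtype.val, ?_, ?_, ?_⟩
  · intro x hx
    obtain ⟨y, hy, rfl⟩ := Finset.mem_image.1 hx
    obtain ⟨z, -, rfl⟩ := Finset.mem_image.1 hy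
    exact (hlift z).1
  · have h : Submodule.span A (S₀ : Set (maximalIdeal A)) = ⊤ := by
      rw [← CotangentSpace.span_image_eq_top_iff, ← hbspan]
      refine congrArg (Submodule.span (ResidueField A)) (Set.ext fun x => ⟨?_, fun hx => ?_⟩)
      · rintro ⟨y, hy, rfl⟩
        obtain ⟨z, -, rfl⟩ := Finset.mem_image.1 hy
        rw [(hlift z).2]
        exact z.2
      · exact ⟨lift ⟨x, hx⟩, Finset.mem_image_of_mem _ (Finset.mem_univ _), (hlift ⟨x, hx⟩).2⟩
    have h2 := congrArg (Submodule.map (maximalIdeal A).subtype) h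
    rw [Submodule.map_span, Submodule.map_top, Submodule.range_subtype] at h2
    rw [Finset.coe_image]
    exact h2
  · refine Finset.card_image_le.trans (Finset.card_image_le.trans (le_of_eq ?_))
    rw [spanFinrank_maximalIdeal_eq_finrank_cotangentSpace, ← finrank_top (ResidueField A) (CotangentSpace A),
      ← hbspan, finrank_span_set_eq_card hli, Set.toFinset_card, Finset.card_univ]

omit [IsNoetherianRing A] in
theorem maximalIdeal_quotient_eq_span (V : Ideal A) [IsLocalRing (A ⧸ V)] (S : Finset A)
    (h : maximalIdeal A ≤ Ideal.span (S : Set A) ⊔ V) (hS : (S : Set A) ⊆ maximalIdeal A) :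
    maximalIdeal (A ⧸ V) = Ideal.span (Ideal.Quotient.mk V '' (S : Set A)) := by
  rw [← Ideal.map_span, ← IsLocalRing.map_maximalIdeal_of_surjective (Ideal.Quotient.mk V) Ideal.Quotient.mk_surjective]
  refine le_antisymm ((Ideal.map_mono h).trans ?_) (Ideal.map_mono (Ideal.span_le.2 hS))
  rw [Ideal.map_sup, Ideal.map_quotient_self, sup_bot_eq]

/-- Embedding dimensions add up to at most the dimension. -/
theorem edim_add_le [IsRegularLocalRing A] (V W : Ideal A) [IsLocalRing (A ⧸ V)] [IsLocalRing (A ⧸ W)]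
    (h : V ⊔ W = maximalIdeal A) {d : ℕ} (hd : ringKrullDim A = d) :
    (maximalIdeal (A ⧸ V)).spanFinrank + (maximalIdeal (A ⧸ W)).spanFinrank ≤ d := by
  classical
  obtain ⟨S, hSG, hSspan, hScard⟩ := exists_finset_generators ((V : Set A) ∪ W) (by
    rw [Ideal.span_union, Ideal.span_eq, Ideal.span_eq, h])
  have hSd : S.card ≤ d := by
    have h0 : ((maximalIdeal A).spanFinrank : WithBot ℕ∞) = (d : WithBot ℕ∞) := by
      rw [IsRegularLocalRing.spanFinrank_maximalIdeal, hd]
    exact hScard.trans (by exact_mod_cast h0.le)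
  have hSm : (S : Set A) ⊆ maximalIdeal A := fun x hx => hSspan ▸ Ideal.subset_span hx
  set SV := S.filter fun x => x ∉ V with hSV
  set SW := S.filter fun x => x ∈ V with hSW
  have hcard : SW.card + SV.card = S.card := Finset.card_filter_add_card_filter_not fun x => x ∈ V
  have hgenV : maximalIdeal A ≤ Ideal.span (SV : Set A) ⊔ V := by
    rw [← hSspan, Ideal.span_le]
    intro x hx
    by_cases hxV : x ∈ V
    · exact Ideal.mem_sup_right hxV
    · exact Ideal.mem_sup_left (Ideal.subset_span (Finset.mem_filter.2 ⟨hx, hxV⟩))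
  have hgenW : maximalIdeal A ≤ Ideal.span (SW : Set A) ⊔ W := by
    rw [← hSspan, Ideal.span_le]
    intro x hx
    by_cases hxV : x ∈ V
    · exact Ideal.mem_sup_left (Ideal.subset_span (Finset.mem_filter.2 ⟨hx, hxV⟩))
    · exact Ideal.mem_sup_right ((hSG hx).resolve_left hxV)
  have key : ∀ (I : Ideal A) [IsLocalRing (A ⧸ I)] (T : Finset A), maximalIdeal A ≤ Ideal.span (T : Set A) ⊔ I →
      T ⊆ S → (maximalIdeal (A ⧸ I)).spanFinrank ≤ T.card := fun I _ T hT hTS => by
    rw [maximalIdeal_quotient_eq_span I T hT ((Finset.coe_subset.2 hTS).trans hSm)]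
    refine (Submodule.spanFinrank_span_le_ncard_of_finite ((Finset.finite_toSet T).image _)).trans ?_
    exact (Set.ncard_image_le (Finset.finite_toSet T)).trans (Set.ncard_coe_finset T).le
  have hV := key V SV hgenV (Finset.filter_subset _ _)
  have hW := key W SW hgenW (Finset.filter_subset _ _)
  omega

/-- Both quotients are regular. -/
theorem isRegularLocalRing_quotient_of_sup [IsRegularLocalRing A] (V W : Ideal A)
    (h : V ⊔ W = maximalIdeal A) {d a b : ℕ} (hd : ringKrullDim A = d) (ha : ringKrullDim (A ⧸ V) = a)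
    (hb : ringKrullDim (A ⧸ W) = b) (hle : d ≤ a + b) :
    IsRegularLocalRing (A ⧸ V) ∧ IsRegularLocalRing (A ⧸ W) := by
  classical
  haveI : Nontrivial (A ⧸ V) := Ideal.Quotient.nontrivial_iff.2 fun e => by
    rw [e, top_sup_eq] at h
    exact (maximalIdeal.isMaximal A).ne_top h.symm
  haveI : Nontrivial (A ⧸ W) := Ideal.Quotient.nontrivial_iff.2 fun e => by
    rw [e, sup_top_eq] at h
    exact (maximalIdeal.isMaximal A).ne_top h.symm
  haveI := IsLocalRing.of_surjective' (Ideal.Quotient.mk V) Ideal.Quotient.mk_surjective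
  haveI := IsLocalRing.of_surjective' (Ideal.Quotient.mk W) Ideal.Quotient.mk_surjective
  have key := edim_add_le V W h hd
  have hVa : a ≤ (maximalIdeal (A ⧸ V)).spanFinrank := by
    have := ringKrullDim_le_spanFinrank_maximalIdeal (A ⧸ V)
    rw [ha] at this
    exact_mod_cast this
  have hWb : b ≤ (maximalIdeal (A ⧸ W)).spanFinrank := by
    have := ringKrullDim_le_spanFinrank_maximalIdeal (A ⧸ W)
    rw [hb] at this
    exact_mod_cast this
  exact ⟨IsRegularLocalRing.of_spanFinrank_maximalIdeal_le (A ⧸ V) (by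
      rw [ha]; exact_mod_cast (show (maximalIdeal (A ⧸ V)).spanFinrank ≤ a by omega)),
    IsRegularLocalRing.of_spanFinrank_maximalIdeal_le (A ⧸ W) (by
      rw [hb]; exact_mod_cast (show (maximalIdeal (A ⧸ W)).spanFinrank ≤ b by omega))⟩

/-- The dimensions add up to at most the dimension. -/
theorem dim_add_le_of_sup [IsRegularLocalRing A] (V W : Ideal A) (h : V ⊔ W = maximalIdeal A) {d a b : ℕ}
    (hd : ringKrullDim A = d) (ha : ringKrullDim (A ⧸ V) = a) (hb : ringKrullDim (A ⧸ W) = b) : a + b ≤ d := by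
  haveI : Nontrivial (A ⧸ V) := Ideal.Quotient.nontrivial_iff.2 fun e => by
    rw [e, top_sup_eq] at h
    exact (maximalIdeal.isMaximal A).ne_top h.symm
  haveI : Nontrivial (A ⧸ W) := Ideal.Quotient.nontrivial_iff.2 fun e => by
    rw [e, sup_top_eq] at h
    exact (maximalIdeal.isMaximal A).ne_top h.symm
  haveI := IsLocalRing.of_surjective' (Ideal.Quotient.mk V) Ideal.Quotient.mk_surjective
  haveI := IsLocalRing.of_surjective' (Ideal.Quotient.mk W) Ideal.Quotient.mk_surjective
  have key := edim_add_le V W h hd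
  have h1 := ringKrullDim_le_spanFinrank_maximalIdeal (A ⧸ V)
  have h2 := ringKrullDim_le_spanFinrank_maximalIdeal (A ⧸ W)
  rw [ha] at h1
  rw [hb] at h2
  have h1' : a ≤ (maximalIdeal (A ⧸ V)).spanFinrank := by exact_mod_cast h1
  have h2' : b ≤ (maximalIdeal (A ⧸ W)).spanFinrank := by exact_mod_cast h2
  omega

end Groth.Calg6.EdimSum
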