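import Groth.Agent.GrpschAbsch.GrpEtaleRel
import Mathlib.RingTheory.Etale.Kaehler
import Mathlib.RingTheory.DiscreteValuationRing.Basic

/-! η-étaleness and divisibility of differentials. -/

universe u

open TensorProduct AlgebraicGeometry
open scoped Pointwise

namespace Groth.Calg6.EtaEtale

/-- The generic fibre of an algebra over a discrete valuation ring. -/
theorem exists_tensor_equiv (V : Type u) [CommRing V] [IsDomain V] [IsDiscreteValuationRing V] (ϖ : V)
    (hϖ : Irreducible ϖ) (S : Type u) [CommRing S] [Algebra V S] :
    ∃ (_ : Algebra (FractionRing V) (Localization.Away (algebraMap V S ϖ)))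
      (_ : IsScalarTower V (FractionRing V) (Localization.Away (algebraMap V S ϖ))),
      Nonempty (FractionRing V ⊗[V] S ≃ₐ[FractionRing V] Localization.Away (algebraMap V S ϖ)) := by
  let St := Localization.Away (algebraMap V S ϖ)
  let K := FractionRing V
  have hu : ∀ v : nonZeroDivisors V, IsUnit (algebraMap V St v) := by
    intro v
    obtain ⟨n, u, hv⟩ := IsDiscreteValuationRing.eq_unit_mul_pow_irreducible (nonZeroDivisors.ne_zero v.2) hϖ
    rw [hv, map_mul, map_pow, IsScalarTower.algebraMap_apply V S St ϖ]
    exact (u.isUnit.map _).mul ((IsLocalization.Away.algebraMap_isUnit _).pow n)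
  letI alg : Algebra K St := (IsLocalization.lift hu).toAlgebra
  haveI tower : IsScalarTower V K St := IsScalarTower.of_algebraMap_eq fun v => (IsLocalization.lift_eq hu v).symm
  refine ⟨alg, tower, ?_⟩
  let f : K ⊗[V] S →ₐ[K] St :=
    Algebra.TensorProduct.lift (Algebra.ofId K St) (IsScalarTower.toAlgHom V S St) fun _ _ => Commute.all _ _
  let incl : S →ₐ[V] K ⊗[V] S := Algebra.TensorProduct.includeRight
  have hg : ∀ y : Submonoid.powers (algebraMap V S ϖ), IsUnit (incl y) := by
    rintro ⟨_, n, rfl⟩
    show IsUnit (incl (algebraMap V S ϖ ^ n))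
    rw [map_pow, AlgHom.commutes, IsScalarTower.algebraMap_apply V K (K ⊗[V] S)]
    refine IsUnit.pow n (IsUnit.map _ (isUnit_iff_ne_zero.mpr ?_))
    exact fun h => hϖ.ne_zero (IsFractionRing.injective V K (h.trans (map_zero _).symm))
  let g : St →+* K ⊗[V] S := IsLocalization.lift (g := incl.toRingHom) hg
  have hgS : ∀ s, g (algebraMap S St s) = (1 : K) ⊗ₜ[V] s := fun s => IsLocalization.lift_eq _ s
  have hfg : ∀ z, f (g z) = z := by
    have : (f : K ⊗[V] S →+* St).comp g = RingHom.id St :=
      IsLocalization.ringHom_ext (Submonoid.powers (algebraMap V S ϖ)) (RingHom.ext fun s => by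
        show f (g (algebraMap S St s)) = algebraMap S St s
        rw [hgS]
        simp [f])
    exact fun z => RingHom.congr_fun this z
  have hgK : ∀ k, g (algebraMap K St k) = algebraMap K (K ⊗[V] S) k := by
    intro k
    have : g.comp (algebraMap K St) = algebraMap K (K ⊗[V] S) :=
      IsLocalization.ringHom_ext (nonZeroDivisors V) (RingHom.ext fun v => by
        show g (algebraMap K St (algebraMap V K v)) = algebraMap K _ (algebraMap V K v)
        rw [← IsScalarTower.algebraMap_apply, IsScalarTower.algebraMap_apply V S St, hgS,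
          ← IsScalarTower.algebraMap_apply]
        exact Algebra.TensorProduct.includeRight.commutes v)
    exact RingHom.congr_fun this k
  have hgf : ∀ z, g (f z) = z := by
    intro z
    induction z using TensorProduct.induction_on with
    | zero => simp
    | tmul k s =>
      have : f (k ⊗ₜ s) = algebraMap K St k * algebraMap S St s := by simp [f]
      rw [this, map_mul, hgK, hgS, Algebra.TensorProduct.algebraMap_apply, Algebra.TensorProduct.tmul_mul_tmul,
        mul_one, one_mul]
      rfl
    | add a b ha hb => rw [map_add, map_add, ha, hb]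
  exact ⟨AlgEquiv.ofBijective f ⟨Function.LeftInverse.injective hgf, Function.RightInverse.surjective hfg⟩⟩

/-- A smooth algebra of relative dimension `d` is covered by standard smooth ones. -/
theorem exists_cover {K S : Type u} [CommRing K] [CommRing S] [Algebra K S] (d : ℕ)
    (h : SmoothOfRelativeDimension d (Spec.map (CommRingCat.ofHom (algebraMap K S)))) :
    ∃ s : Set S, Ideal.span s = ⊤ ∧
      ∀ g ∈ s, Algebra.IsStandardSmoothOfRelativeDimension d K (Localization.Away g) := by
  rw [HasRingHomProperty.Spec_iff (P := @SmoothOfRelativeDimension d)] at h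
  obtain ⟨s, hs, hloc⟩ := h
  refine ⟨s, hs, fun g hg => ?_⟩
  have h1 := hloc g hg
  rw [CommRingCat.hom_ofHom, ← IsScalarTower.algebraMap_eq K S (Localization.Away g),
    RingHom.IsStandardSmoothOfRelativeDimension, toAlgebra_algebraMap] at h1
  exact h1

/-- Unramified maps between smooth algebras of the same relative dimension are étale. -/
theorem etale_of_formallyUnramified {K S T : Type u} [CommRing K] [CommRing S] [CommRing T] [Algebra K S]
    [Algebra K T] [Algebra S T] [IsScalarTower K S T] [Algebra.FormallyUnramified S T] (d : ℕ)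
    (s : Set S) (hs : Ideal.span s = ⊤)
    (hS : ∀ g ∈ s, Algebra.IsStandardSmoothOfRelativeDimension d K (Localization.Away g))
    (t : Set T) (ht : Ideal.span t = ⊤)
    (hT : ∀ g ∈ t, Algebra.IsStandardSmoothOfRelativeDimension d K (Localization.Away g)) :
    Algebra.Etale S T := by
  rw [← RingHom.etale_algebraMap]
  refine RingHom.Etale.ofLocalizationSpanTarget _ ((algebraMap S T '' s) * t) ?_ ?_
  · rw [← Ideal.span_mul_span', ht, Ideal.mul_top, ← Ideal.map_span, hs, Ideal.map_top]
  rintro ⟨_, _, ⟨g, hg, rfl⟩, f, hf, rfl⟩
  show ((algebraMap T (Localization.Away (algebraMap S T g * f))).comp (algebraMap S T)).Etale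
  rw [← IsScalarTower.algebraMap_eq, RingHom.etale_algebraMap]
  let Sg := Localization.Away g
  let Tf := Localization.Away f
  let U := Localization.Away (algebraMap T Tf (algebraMap S T g))
  haveI := hS g hg
  haveI := hT f hf
  haveI : Algebra.IsStandardSmoothOfRelativeDimension 0 Tf U :=
    Algebra.IsStandardSmoothOfRelativeDimension.localization_away (algebraMap T Tf (algebraMap S T g))
  haveI hKU : Algebra.IsStandardSmoothOfRelativeDimension d K U := by
    have := Algebra.IsStandardSmoothOfRelativeDimension.trans d 0 K Tf U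
    rwa [zero_add] at this
  haveI : IsLocalization.Away (algebraMap S T g * f) U := inferInstance
  haveI : Algebra.FormallyUnramified T U :=
    Algebra.FormallyUnramified.of_isLocalization (Submonoid.powers (algebraMap S T g * f))
  haveI : Algebra.FormallyUnramified S U := Algebra.FormallyUnramified.comp S T U
  have hu : ∀ y : Submonoid.powers g, IsUnit (algebraMap S U y) := by
    rintro ⟨_, n, rfl⟩
    show IsUnit (algebraMap S U (g ^ n))
    rw [map_pow, IsScalarTower.algebraMap_apply S T U g]
    refine IsUnit.pow n ?_
    have := IsLocalization.Away.algebraMap_isUnit (S := U) (algebraMap S T g * f)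
    rw [map_mul] at this
    exact isUnit_of_mul_isUnit_left this
  letI : Algebra Sg U := (IsLocalization.lift (g := algebraMap S U) hu).toAlgebra
  haveI : IsScalarTower S Sg U := IsScalarTower.of_algebraMap_eq fun x => (IsLocalization.lift_eq hu x).symm
  haveI : IsScalarTower K Sg U := IsScalarTower.of_algebraMap_eq fun x => by
    rw [IsScalarTower.algebraMap_apply K S Sg, ← IsScalarTower.algebraMap_apply S Sg U,
      ← IsScalarTower.algebraMap_apply K S U]
  haveI : Algebra.FormallyUnramified Sg U := Algebra.FormallyUnramified.of_restrictScalars S Sg U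
  haveI : Algebra.Etale Sg U := Groth.GrpschAbsch.etale_of_isStandardSmoothOfRelativeDimension d (R := K)
  haveI : Algebra.Etale S Sg := Algebra.Etale.of_isLocalizationAway g
  haveI : Algebra.Etale S U := Algebra.Etale.comp S Sg U
  exact Algebra.Etale.of_equiv
    ((IsLocalization.algEquiv (Submonoid.powers (algebraMap S T g * f)) U
      (Localization.Away (algebraMap S T g * f))).restrictScalars S)

/-- Standard smooth covers along an isomorphism. -/
theorem standardSmooth_image {K S T : Type u} [CommRing K] [CommRing S] [CommRing T] [Algebra K S]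
    [Algebra K T] (d : ℕ) (e : S ≃ₐ[K] T) (s : Set S)
    (hs : ∀ g ∈ s, Algebra.IsStandardSmoothOfRelativeDimension d K (Localization.Away g)) :
    ∀ g ∈ e '' s, Algebra.IsStandardSmoothOfRelativeDimension d K (Localization.Away g) := by
  rintro _ ⟨g, hg, rfl⟩
  haveI := hs g hg
  letI : Algebra S T := e.toRingEquiv.toRingHom.toAlgebra
  let e' : Localization.Away g ≃+* Localization.Away (e g) :=
    IsLocalization.ringEquivOfRingEquiv (M := Submonoid.powers g) (T := Submonoid.powers (e g))
      _ _ e.toRingEquiv (Submonoid.map_powers _ g)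
  refine Algebra.IsStandardSmoothOfRelativeDimension.of_algEquiv d (R := K) (S := Localization.Away g)
    (AlgEquiv.ofRingEquiv (f := e') fun k => ?_)
  rw [IsScalarTower.algebraMap_apply K S (Localization.Away g), IsScalarTower.algebraMap_apply K T (Localization.Away (e g))]
  show IsLocalization.ringEquivOfRingEquiv _ _ _ _ _ = _
  rw [IsLocalization.ringEquivOfRingEquiv_eq, ← e.commutes k]
  rfl

/-- Standard smoothness passes to a further localisation. -/
theorem standardSmooth_localization {K S : Type u} [CommRing K] [CommRing S] [Algebra K S] (d : ℕ) (b : S)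
    (C : Type u) [CommRing C] [Algebra S C] [IsLocalization.Away b C] [Algebra K C] [IsScalarTower K S C]
    (g : S) (h : Algebra.IsStandardSmoothOfRelativeDimension d K (Localization.Away g)) :
    Algebra.IsStandardSmoothOfRelativeDimension d K (Localization.Away (algebraMap S C g)) := by
  haveI := h
  let Sg := Localization.Away g
  let U := Localization.Away (algebraMap S Sg b)
  haveI : Algebra.IsStandardSmoothOfRelativeDimension 0 Sg U :=
    Algebra.IsStandardSmoothOfRelativeDimension.localization_away (algebraMap S Sg b)
  haveI hKU : Algebra.IsStandardSmoothOfRelativeDimension d K U := by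
    have := Algebra.IsStandardSmoothOfRelativeDimension.trans d 0 K Sg U
    rwa [zero_add] at this
  haveI : IsLocalization.Away (b * g) U := inferInstance
  haveI : IsLocalization.Away (g * b) (Localization.Away (algebraMap S C g)) := inferInstance
  haveI : IsLocalization.Away (b * g) (Localization.Away (algebraMap S C g)) := mul_comm g b ▸ inferInstance
  exact Algebra.IsStandardSmoothOfRelativeDimension.of_algEquiv d (R := K) (S := U)
    ((IsLocalization.algEquiv (Submonoid.powers (b * g)) U (Localization.Away (algebraMap S C g))).restrictScalars K)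

variable (V : Type u) [CommRing V] [IsDomain V] [IsDiscreteValuationRing V] [CharZero V]
variable (ϖ : V) (hϖ : Irreducible ϖ) (p : ℕ) [Fact p.Prime] [CharP (IsLocalRing.ResidueField V) p]
variable {A R : Type u} [CommRing A] [Algebra V A] [CommRing R] [Algebra V R] [Algebra A R]
  [IsScalarTower V A R]

omit [CharZero V] in
include hϖ in
theorem exists_eq_mul : ∃ c, (p : V) = ϖ * c := by
  have : (p : V) ∈ IsLocalRing.maximalIdeal V := by
    rw [← IsLocalRing.residue_eq_zero_iff, map_natCast, CharP.cast_eq_zero]
  rw [hϖ.maximalIdeal_eq] at this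
  obtain ⟨c, hc⟩ := Ideal.mem_span_singleton'.mp this
  exact ⟨c, by rw [← hc, mul_comm]⟩

include hϖ in
/-- η-étale implies the divisibility. -/
theorem exists_pow_of_etale [Algebra.FiniteType V R] (a : R)
    (ha : Ideal.span {a} ⊔ Ideal.span {algebraMap V R ϖ} = ⊤)
    (he : ((algebraMap R (Localization.Away (a * algebraMap V R ϖ))).comp (algebraMap A R)).Etale) :
    ∃ n : ℕ, Ideal.span {((p : R)) ^ n} • (⊤ : Submodule R (Ω[R⁄A])) ≤
      Ideal.span {algebraMap V R ϖ * (p : R) ^ n} • (⊤ : Submodule R (Ω[R⁄A])) := by
  classical
  set t := algebraMap V R ϖ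
  let C := Localization.Away (a * t)
  rw [← IsScalarTower.algebraMap_eq A R C, RingHom.etale_algebraMap] at he
  haveI : Subsingleton (Ω[C⁄A]) := inferInstance
  haveI : Algebra.FiniteType A R := Algebra.FiniteType.of_restrictScalars_finiteType V A R
  have hloc : IsLocalizedModule (Submonoid.powers (a * t)) (KaehlerDifferential.map A A R C) := inferInstance
  have hkill : ∀ m : Ω[R⁄A], ∃ k, (a * t) ^ k • m = 0 := by
    intro m
    obtain ⟨⟨_, k, rfl⟩, hk⟩ := hloc.exists_of_eq (x₁ := m) (x₂ := 0) (Subsingleton.elim _ _)
    exact ⟨k, by simpa [Submonoid.smul_def] using hk⟩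
  obtain ⟨T, hT⟩ := Module.Finite.fg_top (R := R) (M := Ω[R⁄A])
  choose k hk using hkill
  set N := T.sup k
  have hN : ∀ m : Ω[R⁄A], (a * t) ^ N • m = 0 := by
    intro m
    have hm : m ∈ Submodule.span R (T : Set (Ω[R⁄A])) := hT ▸ Submodule.mem_top
    induction hm using Submodule.span_induction with
    | mem x hx =>
      obtain ⟨j, hj⟩ := Nat.exists_eq_add_of_le (Finset.le_sup (f := k) (Finset.mem_coe.mp hx))
      rw [show N = k x + j from hj, add_comm, pow_add, mul_smul, hk, smul_zero]
    | zero => exact smul_zero _
    | add x y _ _ hx hy => rw [smul_add, hx, hy, add_zero]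
    | smul r x _ hx => rw [smul_comm, hx, smul_zero]
  obtain ⟨c, hc⟩ := exists_eq_mul V ϖ hϖ p
  refine ⟨N, Submodule.smul_le.mpr fun r hr m _ => ?_⟩
  obtain ⟨r, rfl⟩ := Ideal.mem_span_singleton'.mp hr
  have hpR : (p : R) = t * algebraMap V R c := by
    rw [← map_natCast (algebraMap V R) p, hc, map_mul]
  have hco : IsCoprime (a ^ N) t := by
    refine (IsCoprime.pow_left ?_)
    rw [← Ideal.isCoprime_span_singleton_iff, Ideal.isCoprime_iff_sup_eq]
    exact ha
  obtain ⟨α, β, hαβ⟩ := hco
  have : (r * (p : R) ^ N) • m = (t * (p : R) ^ N) • ((r * β) • m) := by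
    have h0 : (α * r * algebraMap V R c ^ N) • ((a * t) ^ N • m) = 0 := by rw [hN, smul_zero]
    calc (r * (p : R) ^ N) • m
        = ((α * a ^ N + β * t) * (r * (p : R) ^ N)) • m := by rw [hαβ, one_mul]
      _ = (α * r * algebraMap V R c ^ N) • ((a * t) ^ N • m) + (t * (p : R) ^ N) • ((r * β) • m) := by
        rw [smul_smul, smul_smul, ← add_smul]
        congr 1
        rw [hpR]; ring
      _ = _ := by rw [h0, zero_add]
  rw [this]
  exact Submodule.smul_mem_smul (Ideal.mem_span_singleton_self _) trivial

include hϖ in
/-- The divisibility and equidimensional smoothness of the generic fibres imply η-étaleness. -/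
theorem exists_etale_of_pow [Algebra.FiniteType V R] (d : ℕ)
    (hA : SmoothOfRelativeDimension d
      (Spec.map (CommRingCat.ofHom (algebraMap (FractionRing V) (FractionRing V ⊗[V] A)))))
    (hR : SmoothOfRelativeDimension d
      (Spec.map (CommRingCat.ofHom (algebraMap (FractionRing V) (FractionRing V ⊗[V] R)))))
    (n : ℕ) (hn : Ideal.span {((p : R)) ^ n} • (⊤ : Submodule R (Ω[R⁄A])) ≤
      Ideal.span {algebraMap V R ϖ * (p : R) ^ n} • (⊤ : Submodule R (Ω[R⁄A]))) :
    ∃ a : R, Ideal.span {a} ⊔ Ideal.span {algebraMap V R ϖ} = ⊤ ∧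
      ((algebraMap R (Localization.Away (a * algebraMap V R ϖ))).comp (algebraMap A R)).Etale := by
  set t := algebraMap V R ϖ with ht
  haveI : Algebra.FiniteType A R := Algebra.FiniteType.of_restrictScalars_finiteType V A R
  haveI : IsNoetherianRing R := Algebra.FiniteType.isNoetherianRing V R
  set N := Ideal.span {((p : R)) ^ n} • (⊤ : Submodule R (Ω[R⁄A]))
  obtain ⟨a, ha1, ha⟩ := Submodule.exists_sub_one_mem_and_smul_eq_zero_of_fg_of_le_smul
    (Ideal.span {t}) N (IsNoetherian.noetherian N) (by
      rw [← Submodule.mul_smul, Ideal.span_singleton_mul_span_singleton]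
      exact hn)
  refine ⟨a, ?_, ?_⟩
  · rw [eq_top_iff]
    intro r _
    have h1 : (1 : R) = a - (a - 1) := by ring
    have : (1 : R) ∈ Ideal.span {a} ⊔ Ideal.span {t} := by
      rw [h1]
      exact Ideal.sub_mem _ (Ideal.mem_sup_left (Ideal.mem_span_singleton_self a)) (Ideal.mem_sup_right ha1)
    rw [(Ideal.eq_top_iff_one _).mpr this]; trivial
  let K := FractionRing V
  let tA := algebraMap V A ϖ
  obtain ⟨algA, towA, ⟨eA⟩⟩ := exists_tensor_equiv V ϖ hϖ A
  obtain ⟨algR, towR, ⟨eR⟩⟩ := exists_tensor_equiv V ϖ hϖ R
  let At := Localization.Away tA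
  let Rt := Localization.Away t
  let C := Localization.Away (algebraMap R Rt a)
  haveI : IsLocalization.Away (a * t) C := inferInstance
  have hunit : IsUnit (algebraMap R C t) := by
    have := IsLocalization.Away.algebraMap_isUnit (S := C) (a * t)
    rw [map_mul] at this
    exact isUnit_of_mul_isUnit_right this
  have hu : ∀ y : Submonoid.powers tA, IsUnit (algebraMap A C y) := by
    rintro ⟨_, k, rfl⟩
    show IsUnit (algebraMap A C (tA ^ k))
    rw [map_pow, IsScalarTower.algebraMap_apply A R C, ← IsScalarTower.algebraMap_apply V A R]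
    exact hunit.pow k
  letI : Algebra At C := (IsLocalization.lift (g := algebraMap A C) hu).toAlgebra
  haveI : IsScalarTower A At C := IsScalarTower.of_algebraMap_eq fun x => (IsLocalization.lift_eq hu x).symm
  haveI : IsScalarTower K At C := IsScalarTower.of_algebraMap_eq' <|
    IsLocalization.ringHom_ext (nonZeroDivisors V) (RingHom.ext fun v => by
      show algebraMap K C (algebraMap V K v) = algebraMap At C (algebraMap K At (algebraMap V K v))
      rw [← IsScalarTower.algebraMap_apply V K At, IsScalarTower.algebraMap_apply V A At,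
        ← IsScalarTower.algebraMap_apply A At C, IsScalarTower.algebraMap_apply K Rt C,
        ← IsScalarTower.algebraMap_apply V K Rt, IsScalarTower.algebraMap_apply V R Rt,
        ← IsScalarTower.algebraMap_apply R Rt C, IsScalarTower.algebraMap_apply V A R,
        ← IsScalarTower.algebraMap_apply A R C])
  -- `C` is unramified over `A`
  haveI : Subsingleton (Ω[C⁄A]) := by
    have hloc : IsLocalizedModule (Submonoid.powers (a * t)) (KaehlerDifferential.map A A R C) := inferInstance
    refine subsingleton_of_forall_eq 0 fun z => ?_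
    obtain ⟨⟨m, s⟩, hms⟩ := hloc.surj z
    have hp : IsUnit (algebraMap R C ((p : R) ^ n)) := by
      rw [map_pow, map_natCast]
      refine IsUnit.pow n ?_
      rw [← map_natCast (algebraMap K C) p]
      exact IsUnit.map _ (isUnit_iff_ne_zero.mpr (by
        rw [← map_natCast (algebraMap V K) p]
        exact fun h => Nat.cast_ne_zero.mpr (Fact.out : p.Prime).ne_zero
          (IsFractionRing.injective V K (h.trans (map_zero _).symm))))
    have haC : IsUnit (algebraMap R C a) := by
      have := IsLocalization.Away.algebraMap_isUnit (S := C) (a * t)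
      rw [map_mul] at this
      exact isUnit_of_mul_isUnit_left this
    have h0 : (a * (p : R) ^ n) • m = 0 := by
      rw [mul_smul]
      exact ha _ (Submodule.smul_mem_smul (Ideal.mem_span_singleton_self _) trivial)
    have h1 : KaehlerDifferential.map A A R C m = 0 := by
      have := congrArg (KaehlerDifferential.map A A R C) h0
      rw [map_smul, map_zero, ← algebraMap_smul C (a * (p : R) ^ n)] at this
      rw [map_mul] at this
      exact (haC.mul hp).smul_eq_zero.mp this
    rw [h1, Submonoid.smul_def, ← algebraMap_smul C (s : R)] at hms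
    exact (IsLocalization.map_units C s).smul_eq_zero.mp hms
  haveI : Algebra.FormallyUnramified A C := ⟨inferInstance⟩
  haveI : Algebra.FormallyUnramified At C := Algebra.FormallyUnramified.of_restrictScalars A At C
  obtain ⟨sA, hsA, hsA'⟩ := exists_cover d hA
  obtain ⟨sR, hsR, hsR'⟩ := exists_cover d hR
  have hSA : ∀ g ∈ eA '' sA, Algebra.IsStandardSmoothOfRelativeDimension d K (Localization.Away g) :=
    standardSmooth_image d eA sA hsA'
  have hSR : ∀ g ∈ eR '' sR, Algebra.IsStandardSmoothOfRelativeDimension d K (Localization.Away g) :=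
    standardSmooth_image d eR sR hsR'
  haveI : Algebra.Etale At C := by
    refine etale_of_formallyUnramified (K := K) d (eA '' sA) ?_ hSA (algebraMap Rt C '' (eR '' sR)) ?_ ?_
    · show Ideal.span ((eA.toRingEquiv.toRingHom : K ⊗[V] A →+* At) '' sA) = ⊤
      rw [← Ideal.map_span, hsA, Ideal.map_top]
    · rw [← Ideal.map_span,
        show eR '' sR = (eR.toRingEquiv.toRingHom : K ⊗[V] R →+* Rt) '' sR from rfl,
        ← Ideal.map_span, hsR, Ideal.map_top, Ideal.map_top]
    · rintro _ ⟨g, hg, rfl⟩
      exact standardSmooth_localization d (algebraMap R Rt a) C g (hSR g hg)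
  haveI : Algebra.Etale A At := Algebra.Etale.of_isLocalizationAway tA
  haveI : Algebra.Etale A C := Algebra.Etale.comp A At C
  rw [← IsScalarTower.algebraMap_eq, RingHom.etale_algebraMap]
  exact Algebra.Etale.of_equiv
    ((IsLocalization.algEquiv (Submonoid.powers (a * t)) C (Localization.Away (a * t))).restrictScalars A)

end Groth.Calg6.EtaEtale
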