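import Mathlib
import Groth.Agent.FlatMorOne.LocalCriterion

/-! Flatness after base change and localization when the map on the first Tor vanishes. -/

set_option autoImplicit false
universe u

open TensorProduct

namespace Groth.Calg6.FlatBC

/-- Kernel of a tensor with an exact sequence with flat cokernel. -/
theorem ker_lTensor_le {T : Type u} [CommRing T] {A B C Q : Type u} [AddCommGroup A] [Module T A]
    [AddCommGroup B] [Module T B] [AddCommGroup C] [Module T C] [Module.Flat T C] [AddCommGroup Q]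
    [Module T Q] (g : A →ₗ[T] B) (p : B →ₗ[T] C) (he : Function.Exact g p)
    (hp : Function.Surjective p) (x : Q ⊗[T] A) (hx : g.lTensor Q x = 0) :
    x ∈ LinearMap.range ((LinearMap.ker g).subtype.lTensor Q) := by
  let π := Finsupp.linearCombination T (id : Q → Q)
  have hπ : Function.Surjective π := fun q => ⟨Finsupp.single q 1, by simp [π]⟩
  have hinj : Function.Injective ((LinearMap.range g).subtype.lTensor Q) :=
    lTensor_injective_of_exact_of_exact_of_rTensor_injective (M₁ := LinearMap.ker π)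
      (LinearMap.exact_subtype_ker_map π) hπ
      (N₁ := ↥(LinearMap.range g)) (g₁ := (LinearMap.range g).subtype) (g₂ := p)
      (fun b => by rw [he b]; simp) hp
      (Module.Flat.rTensor_preserves_injective_linearMap _ Subtype.val_injective)
      (Module.Flat.lTensor_preserves_injective_linearMap _ Subtype.val_injective)
  have hx' : g.rangeRestrict.lTensor Q x = 0 := hinj (by
    rw [map_zero, ← hx, ← LinearMap.lTensor_comp_apply]; rfl)
  have hk : Function.Exact (LinearMap.ker g).subtype g.rangeRestrict := fun a => by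
    simp [Subtype.ext_iff]
  exact (lTensor_exact Q hk g.surjective_rangeRestrict x).mp hx'

variable {R : Type u} [CommRing R] (I : Ideal R) (R' : Type u) [CommRing R'] [Algebra R R']
variable (M : Type u) [AddCommGroup M] [Module R M]

/-- The image of `Tor₁(M, R/I)`. -/
def torImage : Submodule R' (↥(I.map (algebraMap R R')) ⊗[R] M) :=
  Submodule.span R' ((Algebra.idealMap R' I).rTensor M '' {x | I.subtype.rTensor M x = 0})

theorem ker_le_torImage_aux {F : Type u} [AddCommGroup F] [Module R F] [Module.Flat R F]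
    (π : F →ₗ[R] M) (hπ : Function.Surjective π) [Module.Flat (R ⧸ I) ((R ⧸ I) ⊗[R] M)]
    (z : ↥(I.map (algebraMap R R')) ⊗[R] M)
    (hz : ((I.map (algebraMap R R')).subtype.restrictScalars R).rTensor M z = 0) :
    z ∈ torImage I R' M := by
  let ι : ↥(I.map (algebraMap R R')) →ₗ[R] R' := (I.map (algebraMap R R')).subtype.restrictScalars R
  let K := LinearMap.ker π
  let i := K.subtype
  have he : Function.Exact i π := LinearMap.exact_subtype_ker_map π
  obtain ⟨ζ, rfl⟩ := LinearMap.lTensor_surjective (↥(I.map (algebraMap R R'))) hπ z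
  obtain ⟨k, hk⟩ : ∃ k, i.lTensor R' k = ι.rTensor F ζ := by
    refine (lTensor_exact R' (f := i) (g := π) he hπ _).mp ?_
    rw [← hz, ← LinearMap.comp_apply, ← LinearMap.comp_apply, LinearMap.lTensor_comp_rTensor,
      LinearMap.rTensor_comp_lTensor]
  -- reduction modulo `(I.map (algebraMap R R'))`
  let T := R ⧸ I
  let Q := R' ⧸ (I.map (algebraMap R R'))
  letI : Algebra T Q :=
    (Ideal.quotientMap (I.map (algebraMap R R')) (algebraMap R R') Ideal.le_comap_map).toAlgebra
  haveI : IsScalarTower R T Q := IsScalarTower.of_algebraMap_eq fun r => rfl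
  let mk : R' →ₗ[R] Q := (Ideal.Quotient.mkₐ R (I.map (algebraMap R R'))).toLinearMap
  have hmk : Function.Surjective mk := Ideal.Quotient.mk_surjective
  have hker : Function.Exact ι mk := fun r => by
    simp only [ι, mk, AlgHom.toLinearMap_apply, Ideal.Quotient.mkₐ_eq_mk,
      Ideal.Quotient.eq_zero_iff_mem]
    exact ⟨fun h => ⟨⟨r, Ideal.Quotient.eq_zero_iff_mem.mp h⟩, rfl⟩, fun ⟨y, hy⟩ =>
      Ideal.Quotient.eq_zero_iff_mem.mpr (hy ▸ y.2)⟩
  let good : Submodule R' (R' ⊗[R] K) :=
    Submodule.span R' ((fun κ => (1 : R') ⊗ₜ[R] κ) '' {κ | i κ ∈ I • (⊤ : Submodule R F)})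
  have hgood : mk.rTensor K k ∈ (fun w => mk.rTensor K w) '' (good : Set (R' ⊗[R] K)) := by
    let eK := TensorProduct.AlgebraTensorModule.cancelBaseChange R T T Q K
    let eF := TensorProduct.AlgebraTensorModule.cancelBaseChange R T T Q F
    let g := i.baseChange T
    have comp : ∀ x, eF (g.lTensor Q x) = i.lTensor Q (eK x) := by
      intro x
      induction x with
      | zero => simp
      | tmul q w =>
        induction w with
        | zero => simp
        | tmul t m => simp [eK, eF, g]
        | add w₁ w₂ h₁ h₂ => simp only [tmul_add, map_add, h₁, h₂]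
      | add x y hx hy => simp only [map_add, hx, hy]
    have h0 : g.lTensor Q (eK.symm (mk.rTensor K k)) = 0 := by
      apply eF.injective
      rw [map_zero, comp, LinearEquiv.apply_symm_apply, ← LinearMap.comp_apply,
        LinearMap.lTensor_comp_rTensor, ← LinearMap.rTensor_comp_lTensor, LinearMap.comp_apply, hk,
        ← LinearMap.rTensor_comp_apply, (show mk.comp ι = 0 from hker.linearMap_comp_eq_zero),
        LinearMap.rTensor_zero, LinearMap.zero_apply]
    have hex : Function.Exact g (π.baseChange T) := lTensor_exact T (f := i) (g := π) he hπ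
    obtain ⟨w, hw⟩ := ker_lTensor_le g (π.baseChange T) hex (LinearMap.lTensor_surjective T hπ) _ h0
    rw [← eK.apply_symm_apply (mk.rTensor K k), ← hw]
    clear hw
    induction w with
    | zero => exact ⟨0, zero_mem _, by simp⟩
    | add a b ha hb =>
      obtain ⟨a', ha', ea⟩ := ha
      obtain ⟨b', hb', eb⟩ := hb
      refine ⟨a' + b', add_mem ha' hb', ?_⟩
      simp only [map_add] at ea eb ⊢
      rw [ea, eb]
    | tmul q n =>
      obtain ⟨n, hn⟩ := n
      obtain ⟨r, rfl⟩ := Ideal.Quotient.mk_surjective q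
      obtain ⟨κ, rfl⟩ := TensorProduct.mk_surjective R K T Ideal.Quotient.mk_surjective n
      rw [LinearMap.mem_ker] at hn
      have hκ : i κ ∈ I • (⊤ : Submodule R F) := by
        have := congrArg (TensorProduct.quotTensorEquivQuotSMul F I) hn
        rw [map_zero] at this
        simp only [g, TensorProduct.mk_apply, LinearMap.baseChange_tmul] at this
        have h1 : TensorProduct.quotTensorEquivQuotSMul F I
            ((Ideal.Quotient.mk I) 1 ⊗ₜ[R] i κ) = Submodule.Quotient.mk ((1 : R) • i κ) :=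
          TensorProduct.quotTensorEquivQuotSMul_mk_tmul I 1 (i κ)
        rw [one_smul] at h1
        exact (Submodule.Quotient.mk_eq_zero _).mp (h1.symm.trans this)
      refine ⟨r • ((1 : R') ⊗ₜ[R] κ), Submodule.smul_mem _ _ (Submodule.subset_span ⟨κ, hκ, rfl⟩), ?_⟩
      simp [eK, mk, smul_tmul']
  obtain ⟨k1, hk1, hk1'⟩ := hgood
  obtain ⟨a, ha⟩ := (rTensor_exact K hker hmk (k - k1)).mp (by
    rw [map_sub, sub_eq_zero]; exact hk1'.symm)
  -- lifting the elements of `good`
  have hlift : ∀ w ∈ good, ∃ η : ↥(I.map (algebraMap R R')) ⊗[R] F,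
      ι.rTensor F η = i.lTensor R' w ∧ π.lTensor ↥(I.map (algebraMap R R')) η ∈ torImage I R' M := by
    intro w hw
    induction hw using Submodule.span_induction with
    | zero => exact ⟨0, by simp, by simp⟩
    | add x y _ _ hx hy =>
      obtain ⟨a, ha, ha'⟩ := hx
      obtain ⟨b, hb, hb'⟩ := hy
      exact ⟨a + b, by rw [map_add, map_add, ha, hb], by rw [map_add]; exact add_mem ha' hb'⟩
    | smul r x _ hx =>
      obtain ⟨a, ha, ha'⟩ := hx
      refine ⟨r • a, ?_, ?_⟩
      · have h1 : ι.rTensor F (r • a) = r • ι.rTensor F a :=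
          map_smul (TensorProduct.AlgebraTensorModule.rTensor R F (I.map (algebraMap R R')).subtype) r a
        have h2 : i.lTensor R' (r • x) = r • i.lTensor R' x := map_smul (i.baseChange R') r x
        rw [h1, h2, ha]
      · have h3 : π.lTensor ↥(I.map (algebraMap R R')) (r • a) = r • π.lTensor ↥(I.map (algebraMap R R')) a :=
          map_smul (TensorProduct.AlgebraTensorModule.lTensor (A := R') (M := ↥(I.map (algebraMap R R'))) π) r a
        rw [h3]
        exact Submodule.smul_mem _ _ ha'
    | mem x hx =>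
      obtain ⟨κ, hκ, rfl⟩ := hx
      obtain ⟨t, ht⟩ : ∃ t : ↥I ⊗[R] F,
          I.subtype.rTensor F t = (1 : R) ⊗ₜ[R] i κ := by
        change i κ ∈ I • (⊤ : Submodule R F) at hκ
        generalize i κ = y at hκ ⊢
        induction hκ using Submodule.smul_induction_on' with
        | smul a ha y _ => exact ⟨⟨a, ha⟩ ⊗ₜ y, by simp [smul_tmul']⟩
        | add y _ z _ hy hz =>
          obtain ⟨a, ha⟩ := hy
          obtain ⟨b, hb⟩ := hz
          exact ⟨a + b, by rw [map_add, ha, hb, tmul_add]⟩
      refine ⟨(Algebra.idealMap R' I).rTensor F t, ?_, ?_⟩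
      · have hc : ι.comp (Algebra.idealMap R' I) = (Algebra.linearMap R R').comp I.subtype := rfl
        rw [← LinearMap.rTensor_comp_apply, hc, LinearMap.rTensor_comp_apply, ht]
        simp
      · refine Submodule.subset_span ⟨π.lTensor I t, ?_, ?_⟩
        · change I.subtype.rTensor M (π.lTensor I t) = 0
          rw [← LinearMap.comp_apply, LinearMap.rTensor_comp_lTensor,
            ← LinearMap.lTensor_comp_rTensor, LinearMap.comp_apply, ht, LinearMap.lTensor_tmul,
            he.apply_apply_eq_zero, tmul_zero]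
        · rw [← LinearMap.comp_apply, LinearMap.rTensor_comp_lTensor,
            ← LinearMap.lTensor_comp_rTensor, LinearMap.comp_apply]
  obtain ⟨η, hη, hη'⟩ := hlift k1 hk1
  have hζ : ζ = η + i.lTensor ↥(I.map (algebraMap R R')) a := by
    apply Module.Flat.rTensor_preserves_injective_linearMap (M := F) ι Subtype.val_injective
    rw [map_add, hη, ← LinearMap.comp_apply (ι.rTensor F), LinearMap.rTensor_comp_lTensor,
      ← LinearMap.lTensor_comp_rTensor, LinearMap.comp_apply]
    change _ = _ + i.lTensor R' (ι.rTensor K a)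
    rw [ha, map_sub, hk]
    abel
  rw [hζ, map_add, ← LinearMap.lTensor_comp_apply,
    (show π.comp i = 0 from he.linearMap_comp_eq_zero), LinearMap.lTensor_zero,
    LinearMap.zero_apply, add_zero]
  exact hη'

theorem ker_le_torImage [Module.Flat (R ⧸ I) ((R ⧸ I) ⊗[R] M)]
    (z : ↥(I.map (algebraMap R R')) ⊗[R] M)
    (hz : ((I.map (algebraMap R R')).subtype.restrictScalars R).rTensor M z = 0) :
    z ∈ torImage I R' M :=
  ker_le_torImage_aux I R' M (Finsupp.linearCombination R (id : M → M))
    (fun m => ⟨Finsupp.single m 1, by simp⟩) z hz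

section Localization

variable (R : Type u) [CommRing R] (S R' S' : Type u) [CommRing S] [CommRing R'] [CommRing S']
  [Algebra R S] [Algebra R R'] [Algebra S S'] [Algebra R' S'] [Algebra R S']
  [IsScalarTower R S S'] [IsScalarTower R R' S']
variable (M : Type u) [AddCommGroup M] [Module S M] [Module R M] [IsScalarTower R S M]
variable (M' : Type u) [AddCommGroup M'] [Module S' M'] [Module R' M'] [IsScalarTower R' S' M']
  [Module S M'] [IsScalarTower S S' M'] [Module R M'] [IsScalarTower R R' M'] [IsScalarTower R S M']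
variable (X : Type u) [AddCommGroup X] [Module R X] [Module R' X] [IsScalarTower R R' X]

noncomputable section

/-- The structure map `S ⊗ R' → S'`. -/
def φ : S ⊗[R] R' →ₐ[R] S' :=
  Algebra.TensorProduct.lift (IsScalarTower.toAlgHom R S S') (IsScalarTower.toAlgHom R R' S')
    (fun _ _ => Commute.all _ _)

theorem φ_tmul (s : S) (r : R') :
    φ R S R' S' (s ⊗ₜ r) = algebraMap S S' s * algebraMap R' S' r := by
  simp [φ]

/-- The action of `S ⊗ R'` on `X ⊗ M`. -/
def act : S ⊗[R] R' →ₐ[R] Module.End R (X ⊗[R] M) :=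
  (Module.endTensorEndAlgHom (R := R) (S := R) (A := R) (M := X) (N := M)).comp
    ((Algebra.TensorProduct.map (Algebra.lsmul R R X : R' →ₐ[R] Module.End R X)
        (Algebra.lsmul R R M : S →ₐ[R] Module.End R M)).comp
      (Algebra.TensorProduct.comm R S R').toAlgHom)

theorem act_tmul (s : S) (r : R') (x : X) (m : M) :
    act R S R' M X (s ⊗ₜ r) (x ⊗ₜ m) = (r • x) ⊗ₜ (s • m) := by
  simp [act, Module.endTensorEndAlgHom_apply]

theorem act_natural {Y : Type u} [AddCommGroup Y] [Module R Y] [Module R' Y] [IsScalarTower R R' Y]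
    (i : X →ₗ[R'] Y) (a : S ⊗[R] R') (y : X ⊗[R] M) :
    (i.restrictScalars R).rTensor M (act R S R' M X a y) =
      act R S R' M Y a ((i.restrictScalars R).rTensor M y) := by
  induction a with
  | zero => simp
  | add a b ha hb => simp only [map_add, LinearMap.add_apply, ha, hb]
  | tmul s r =>
    induction y with
    | zero => simp
    | add a b ha hb => simp only [map_add, ha, hb]
    | tmul x m => simp [act_tmul]

/-- Multiplication on the right factor of `X ⊗ M'`. -/
def rho (c : S') : X ⊗[R'] M' →ₗ[R'] X ⊗[R'] M' :=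
  LinearMap.lTensor X (Algebra.lsmul R' R' M' c)

theorem rho_injective (c : S') (hc : IsUnit c) : Function.Injective (rho R' S' M' X c) := by
  obtain ⟨u, rfl⟩ := hc
  refine Function.LeftInverse.injective (g := rho R' S' M' X (↑u⁻¹ : S')) fun z => ?_
  rw [rho, rho, ← LinearMap.lTensor_comp_apply, ← Module.End.mul_eq_comp, ← map_mul, Units.inv_mul,
    map_one, Module.End.one_eq_id, LinearMap.lTensor_id, LinearMap.id_apply]

variable {M M'} (f : M →ₗ[S] M')

/-- The comparison map. -/
def psi : X ⊗[R] M →ₗ[R] X ⊗[R'] M' :=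
  (TensorProduct.mapOfCompatibleSMul R' R R X M').comp ((f.restrictScalars R).lTensor X)

theorem psi_tmul (x : X) (m : M) : psi R S R' X f (x ⊗ₜ m) = x ⊗ₜ f m := rfl

theorem psi_natural {Y : Type u} [AddCommGroup Y] [Module R Y] [Module R' Y] [IsScalarTower R R' Y]
    (i : X →ₗ[R'] Y) (y : X ⊗[R] M) :
    psi R S R' Y f ((i.restrictScalars R).rTensor M y) = i.rTensor M' (psi R S R' X f y) := by
  induction y with
  | zero => simp
  | add a b ha hb => simp only [map_add, ha, hb]
  | tmul x m => simp [psi_tmul]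

theorem psi_act (a : S ⊗[R] R') (y : X ⊗[R] M) :
    psi R S R' X f (act R S R' M X a y) =
      rho R' S' M' X (φ R S R' S' a) (psi R S R' X f y) := by
  induction a with
  | zero => simp [rho]
  | add a b ha hb => simp only [map_add, LinearMap.add_apply, rho, LinearMap.lTensor_add, ha, hb]
  | tmul s r =>
    induction y with
    | zero => simp
    | add a b ha hb => simp only [map_add, ha, hb]
    | tmul x m =>
      rw [act_tmul, psi_tmul, psi_tmul, rho, LinearMap.lTensor_tmul, Algebra.lsmul_coe, φ_tmul,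
        smul_tmul, map_smul]
      congr 1
      change r • s • f m = (algebraMap S S' s * algebraMap R' S' r) • f m
      rw [mul_comm, mul_smul, algebraMap_smul, algebraMap_smul]

variable (hf : IsBaseChange S' f) (W : Submonoid (S ⊗[R] R'))
  (hW : letI : Algebra (S ⊗[R] R') S' := (φ R S R' S').toRingHom.toAlgebra; IsLocalization W S')

include hW in
theorem isUnit_φ (w : S ⊗[R] R') (hw : w ∈ W) : IsUnit (φ R S R' S' w) :=
  letI : Algebra (S ⊗[R] R') S' := (φ R S R' S').toRingHom.toAlgebra
  IsLocalization.map_units (M := W) S' ⟨w, hw⟩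

include hf hW in
theorem exists_psi (z : X ⊗[R'] M') :
    ∃ w ∈ W, ∃ y, psi R S R' X f y = rho R' S' M' X (φ R S R' S' w) z := by
  have add : ∀ a b : X ⊗[R'] M',
      (∃ w ∈ W, ∃ y, psi R S R' X f y = rho R' S' M' X (φ R S R' S' w) a) →
      (∃ w ∈ W, ∃ y, psi R S R' X f y = rho R' S' M' X (φ R S R' S' w) b) →
      ∃ w ∈ W, ∃ y, psi R S R' X f y = rho R' S' M' X (φ R S R' S' w) (a + b) := by
    rintro a b ⟨w₁, hw₁, y₁, h₁⟩ ⟨w₂, hw₂, y₂, h₂⟩
    refine ⟨w₁ * w₂, W.mul_mem hw₁ hw₂, act R S R' M X w₂ y₁ + act R S R' M X w₁ y₂, ?_⟩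
    rw [map_add, psi_act R S R' S', psi_act R S R' S', h₁, h₂, map_mul, rho, rho, rho, map_add]
    simp only [← LinearMap.lTensor_comp_apply, ← Module.End.mul_eq_comp, ← map_mul]
    rw [mul_comm w₂ w₁]
  induction z with
  | zero => exact ⟨1, W.one_mem, 0, by simp⟩
  | add a b ha hb => exact add a b ha hb
  | tmul x m' =>
    refine hf.inductionOn m' (motive := fun m' => ∃ w ∈ W, ∃ y, psi R S R' X f y =
      rho R' S' M' X (φ R S R' S' w) (x ⊗ₜ[R'] m')) ⟨1, W.one_mem, 0, by simp⟩ ?_ ?_ ?_
    · intro m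
      exact ⟨1, W.one_mem, x ⊗ₜ m, by rw [psi_tmul, map_one, rho, map_one]; simp⟩
    · rintro c m' ⟨w, hw, y, hy⟩
      letI : Algebra (S ⊗[R] R') S' := (φ R S R' S').toRingHom.toAlgebra
      obtain ⟨⟨a, v⟩, hv⟩ := IsLocalization.surj W c
      refine ⟨v * w, W.mul_mem v.2 hw, act R S R' M X a y, ?_⟩
      rw [psi_act R S R' S', hy, map_mul, rho, rho, rho, LinearMap.lTensor_tmul, LinearMap.lTensor_tmul,
        LinearMap.lTensor_tmul]
      simp only [Algebra.lsmul_coe, smul_smul]
      have hv' : c * φ R S R' S' v = φ R S R' S' a := hv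
      rw [← hv']
      congr 2
      ring
    · intro a b ha hb
      rw [tmul_add]
      exact add _ _ ha hb

include hf hW in
theorem eq_zero_of_psi_eq_zero (y : R' ⊗[R] M) (hy : psi R S R' R' f y = 0) :
    ∃ w ∈ W, act R S R' M R' w y = 0 := by
  letI : Algebra (S ⊗[R] R') S' := (φ R S R' S').toRingHom.toAlgebra
  letI : Module (S ⊗[R] R') M' := Module.compHom M' (φ R S R' S').toRingHom
  haveI : IsScalarTower (S ⊗[R] R') S' M' := ⟨fun a b m => by
    change (φ R S R' S' a * b) • m = φ R S R' S' a • b • m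
    rw [mul_smul]⟩
  haveI : IsScalarTower S (S ⊗[R] R') S' := IsScalarTower.of_algebraMap_eq fun s => by
    change _ = φ R S R' S' (s ⊗ₜ 1)
    rw [φ_tmul, map_one, mul_one]
  haveI : IsScalarTower S (S ⊗[R] R') M' := IsScalarTower.of_algebraMap_smul fun s m => by
    change φ R S R' S' (s ⊗ₜ 1) • m = s • m
    rw [φ_tmul, map_one, mul_one, algebraMap_smul]
  haveI : IsLocalization W S' := hW
  let ι : (S ⊗[R] R') ⊗[S] M →ₗ[S ⊗[R] R'] M' := (TensorProduct.isBaseChange S M (S ⊗[R] R')).lift f
  have hι : ∀ (a : S ⊗[R] R') (m : M), ι (a ⊗ₜ m) = φ R S R' S' a • f m := by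
    intro a m
    have h1 : ι (1 ⊗ₜ m) = f m := (TensorProduct.isBaseChange S M (S ⊗[R] R')).lift_eq f m
    calc ι (a ⊗ₜ m) = a • ι (1 ⊗ₜ m) := by rw [← map_smul, smul_tmul', smul_eq_mul, mul_one]
      _ = _ := by rw [h1]; rfl
  have hbc : IsBaseChange S' ι := by
    refine IsBaseChange.of_comp (f := TensorProduct.mk S (S ⊗[R] R') M 1)
      (TensorProduct.isBaseChange S M (S ⊗[R] R')) ?_
    convert hf using 1
    ext m
    exact (TensorProduct.isBaseChange S M (S ⊗[R] R')).lift_eq f m
  haveI : IsLocalizedModule W ι := (isLocalizedModule_iff_isBaseChange W S' ι).mpr hbc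
  let eu : R' ⊗[R] M ≃ₗ[R] (S ⊗[R] R') ⊗[S] M :=
    ((TensorProduct.comm R R' M).trans
      ((TensorProduct.AlgebraTensorModule.cancelBaseChange R S S M R').symm.restrictScalars R)).trans
      ((TensorProduct.comm S M (S ⊗[R] R')).restrictScalars R)
  have heu : ∀ r m, eu (r ⊗ₜ m) = ((1 : S) ⊗ₜ[R] r) ⊗ₜ[S] m := fun r m => by simp [eu]
  have heu_inj : Function.Injective eu := eu.injective
  have heu_act : ∀ (a : S ⊗[R] R') z, eu (act R S R' M R' a z) = a • eu z := by
    intro a z
    induction a with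
    | zero => simp
    | add a b ha hb => simp only [map_add, LinearMap.add_apply, add_smul, ha, hb]
    | tmul s r =>
      induction z with
      | zero => simp
      | add a b ha hb => simp only [map_add, smul_add, ha, hb]
      | tmul x m =>
        rw [act_tmul, heu, heu, smul_tmul', tmul_smul, smul_tmul']
        simp [smul_tmul']
  have hlid : ∀ z, ι (eu z) = TensorProduct.lid R' M' (psi R S R' R' f z) := by
    intro z
    induction z with
    | zero => simp
    | add a b ha hb => simp only [map_add, ha, hb]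
    | tmul x m => rw [heu, hι, φ_tmul, map_one, one_mul, algebraMap_smul, psi_tmul, lid_tmul]
  have h0 : ι (eu y) = 0 := by rw [hlid, hy, map_zero]
  obtain ⟨w, hw⟩ := (IsLocalizedModule.eq_zero_iff W ι).mp h0
  refine ⟨w, w.2, heu_inj ?_⟩
  rw [heu_act, map_zero]
  exact hw

include hf hW in
theorem rTensor_injective {Y : Type u} [AddCommGroup Y] [Module R Y] [Module R' Y]
    [IsScalarTower R R' Y] (i : X →ₗ[R'] Y)
    (hi : ∀ y, (i.restrictScalars R).rTensor M y = 0 → psi R S R' X f y = 0)
    (hY : ∀ y, psi R S R' Y f y = 0 → ∃ w ∈ W, act R S R' M Y w y = 0) :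
    Function.Injective (i.rTensor M') := by
  rw [injective_iff_map_eq_zero]
  intro z hz
  obtain ⟨w, hw, y, hy⟩ := exists_psi R S R' S' X f hf W hW z
  have hcomm : i.rTensor M' (rho R' S' M' X (φ R S R' S' w) z) = 0 := by
    rw [rho, ← LinearMap.comp_apply, LinearMap.rTensor_comp_lTensor, ← LinearMap.lTensor_comp_rTensor,
      LinearMap.comp_apply, hz, map_zero]
  obtain ⟨w₂, hw₂, h2⟩ := hY ((i.restrictScalars R).rTensor M y) (by rw [psi_natural, hy, hcomm])
  have h3 := hi (act R S R' M X w₂ y) (by rw [act_natural, h2])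
  rw [psi_act R S R' S', hy] at h3
  exact rho_injective R' S' M' X _ (isUnit_φ R S R' S' W hW w hw)
    ((rho_injective R' S' M' X _ (isUnit_φ R S R' S' W hW w₂ hw₂)
      (h3.trans (map_zero _).symm)).trans (map_zero _).symm)

include hf hW in
theorem eq_zero_of_psi_eq_zero_quotient (J : Ideal R') (y : (R' ⧸ J) ⊗[R] M)
    (hy : psi R S R' (R' ⧸ J) f y = 0) : ∃ w ∈ W, act R S R' M (R' ⧸ J) w y = 0 := by
  let mk : R' →ₗ[R'] R' ⧸ J := (Ideal.Quotient.mkₐ R' J).toLinearMap
  have hmk : Function.Surjective mk := Ideal.Quotient.mk_surjective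
  have hex : Function.Exact J.subtype mk := fun r => by
    constructor
    · intro h; exact ⟨⟨r, Ideal.Quotient.eq_zero_iff_mem.mp h⟩, rfl⟩
    · rintro ⟨x, rfl⟩; exact Ideal.Quotient.eq_zero_iff_mem.mpr x.2
  obtain ⟨y₀, rfl⟩ := LinearMap.rTensor_surjective M (g := mk.restrictScalars R) hmk y
  rw [psi_natural] at hy
  obtain ⟨z, hz⟩ := (rTensor_exact M' hex hmk _).mp hy
  obtain ⟨w, hw, y₁, hy₁⟩ := exists_psi R S R' S' ↥J f hf W hW z
  have h0 : psi R S R' R' f
      (act R S R' M R' w y₀ - (J.subtype.restrictScalars R).rTensor M y₁) = 0 := by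
    rw [map_sub, psi_natural, psi_act R S R' S', hy₁, sub_eq_zero, ← hz, rho, rho, ← LinearMap.comp_apply,
      LinearMap.lTensor_comp_rTensor, ← LinearMap.rTensor_comp_lTensor, LinearMap.comp_apply]
  obtain ⟨w₂, hw₂, h2⟩ := eq_zero_of_psi_eq_zero R S R' S' f hf W hW _ h0
  refine ⟨w₂ * w, W.mul_mem hw₂ hw, ?_⟩
  rw [map_mul, Module.End.mul_apply]
  have h := congrArg ((mk.restrictScalars R).rTensor M) h2
  rw [map_sub, map_sub, map_zero, sub_eq_zero, act_natural, act_natural, act_natural] at h
  rw [h, ← LinearMap.rTensor_comp_apply]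
  have : (mk.restrictScalars R).comp (J.subtype.restrictScalars R) = 0 :=
    LinearMap.ext fun x => hex.apply_apply_eq_zero x
  rw [this, LinearMap.rTensor_zero, LinearMap.zero_apply, map_zero]

end

end Localization

end Groth.Calg6.FlatBC
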