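import Groth.Prelude.Def_CohB1
import Groth.Agent.FrobLCI.GrInt.Main
import Groth.Agent.GrSyz.Hilbert
import Groth.Agent.GrSyz.Ring
import Mathlib.RingTheory.MvPolynomial.Homogeneous

/-!
The Hilbert polynomial of a homogeneous ideal of a polynomial ring has degree one less than the
dimension of the quotient.
-/

set_option autoImplicit false

universe u

open Polynomial Filter DirectSum

namespace Groth.Calg6.HilbDim

open Groth.GrInt

variable {k : Type u} [Field k] {n : ℕ}

local notation "𝐑" => MvPolynomial (Fin (n + 1)) k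
local notation "𝐆" => CohB1.polyGrading n k

theorem eq_C_of_mem_zero {p : 𝐑} (hp : p ∈ 𝐆 0) : p = MvPolynomial.C (p.coeff 0) :=
  (MvPolynomial.totalDegree_eq_zero_iff_eq_C).1
    (Nat.le_zero.1 ((MvPolynomial.mem_homogeneousSubmodule 0 p).1 hp).totalDegree_le)

theorem finite_piece (g : ℕ) : Module.Finite k ↥(𝐆 g) := by
  have := (Groth.GrSyzLib.finite_and_finrank_stdGr (k := k) n (g : ℤ)).1
  rwa [Groth.GrSyzLib.stdGr_natCast] at this

theorem algebraMap_zero_bijective : Function.Bijective (algebraMap k (𝐆 0)) :=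
  ⟨fun a b h => by simpa using congrArg (fun x : 𝐆 0 => (x : 𝐑).coeff 0) h, fun ⟨p, hp⟩ => ⟨p.coeff 0, Subtype.ext (eq_C_of_mem_zero hp).symm⟩⟩

instance isField_zero : IsArtinianRing (𝐆 0) :=
  (RingEquiv.ofBijective _ algebraMap_zero_bijective).isArtinianRing

instance isLocalRing_zero : IsLocalRing (𝐆 0) :=
  (RingEquiv.ofBijective _ algebraMap_zero_bijective).isLocalRing

theorem sub_C_mem_irr (p : 𝐑) : p - MvPolynomial.C (p.coeff 0) ∈ irr 𝐆 := by
  rw [mem_irr_iff, map_sub, sub_eq_zero]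
  apply Subtype.ext
  rw [GradedRing.coe_projZeroRingHom'_apply, GradedRing.coe_projZeroRingHom'_apply]
  rw [GradedRing.projZeroRingHom_apply, GradedRing.projZeroRingHom_apply]
  erw [MvPolynomial.decomposition.decompose'_apply, MvPolynomial.decomposition.decompose'_apply,
    MvPolynomial.homogeneousComponent_zero, MvPolynomial.homogeneousComponent_zero, MvPolynomial.coeff_C, if_pos rfl]

theorem irr_eq_span : irr 𝐆 = Ideal.span (𝐆 1 : Set 𝐑) := by
  refine le_antisymm (fun p hp => ?_) (Ideal.span_le.2 fun p hp => HomogeneousIdeal.mem_irrelevant_of_mem _ one_pos hp)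
  have h0 : p.coeff 0 = 0 := by
    rw [mem_irr_iff] at hp
    have := congrArg Subtype.val hp
    rw [GradedRing.coe_projZeroRingHom'_apply, GradedRing.projZeroRingHom_apply] at this
    erw [MvPolynomial.decomposition.decompose'_apply, MvPolynomial.homogeneousComponent_zero,
      ZeroMemClass.coe_zero, MvPolynomial.C_eq_zero] at this
    exact this
  rw [MvPolynomial.as_sum p]
  refine Ideal.sum_mem _ fun d hd => ?_
  obtain ⟨i, hi⟩ : ∃ i, d i ≠ 0 := by
    by_contra h
    push Not at h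
    exact MvPolynomial.mem_support_iff.1 hd (by rw [show d = 0 from Finsupp.ext h, h0])
  rw [show d = Finsupp.single i 1 + (d - Finsupp.single i 1) from (add_tsub_cancel_of_le (by
      rw [Finsupp.single_le_iff]; omega)).symm, ← mul_one (MvPolynomial.coeff _ p), mul_comm, ← MvPolynomial.monomial_mul]
  exact Ideal.mul_mem_right _ _ (Ideal.subset_span ((MvPolynomial.mem_homogeneousSubmodule 1 _).2
    (MvPolynomial.isHomogeneous_X k i)))

/-- The grading of a quotient by a homogeneous ideal. -/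
noncomputable def quotGMod (I : Ideal (MvPolynomial (Fin (n + 1)) k))
    (hI : I.IsHomogeneous (CohB1.polyGrading n k)) :
    GMod (CohB1.polyGrading n k) (MvPolynomial (Fin (n + 1)) k ⧸ I) where
  cp g := QuotientAddGroup.lift I.toAddSubgroup
    ((Ideal.Quotient.mk I).toAddMonoidHom.comp ((ringGMod 𝐆).cp g))
    fun x hx => Ideal.Quotient.eq_zero_iff_mem.2 (hI g hx)
  cp_cp i j x := by
    obtain ⟨x, rfl⟩ := Ideal.Quotient.mk_surjective x
    show Ideal.Quotient.mk I ((ringGMod 𝐆).cp i ((ringGMod 𝐆).cp j x)) = if i = j then Ideal.Quotient.mk I ((ringGMod 𝐆).cp j x) else 0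
    rw [(ringGMod 𝐆).cp_cp]
    split_ifs <;> simp
  exists_bound x := by
    obtain ⟨x, rfl⟩ := Ideal.Quotient.mk_surjective x
    obtain ⟨m, hm⟩ := (ringGMod 𝐆).exists_bound x
    exact ⟨m, fun g hg => (congrArg (Ideal.Quotient.mk I) (hm g hg)).trans (map_zero _)⟩
  ext_cp x hx := by
    obtain ⟨x, rfl⟩ := Ideal.Quotient.mk_surjective x
    obtain ⟨m, hm⟩ := (ringGMod 𝐆).eq_sum_cp x
    rw [hm, map_sum]
    exact Finset.sum_eq_zero fun g _ => hx g
  cp_smul g e a ha x := by
    obtain ⟨x, rfl⟩ := Ideal.Quotient.mk_surjective x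
    show Ideal.Quotient.mk I ((ringGMod 𝐆).cp g (a • x)) = if e ≤ g then a • Ideal.Quotient.mk I ((ringGMod 𝐆).cp (g - e) x) else 0
    rw [(ringGMod 𝐆).cp_smul g e a ha]
    split_ifs
    · rfl
    · exact map_zero _

variable (I : Ideal (MvPolynomial (Fin (n + 1)) k)) (hI : I.IsHomogeneous (CohB1.polyGrading n k))

theorem quotGMod_cp (g : ℕ) (x : 𝐑) :
    (quotGMod I hI).cp g (Ideal.Quotient.mk I x) = Ideal.Quotient.mk I ((ringGMod 𝐆).cp g x) := rfl

theorem lenQ_step (g : ℕ) :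
    Groth.Ega41Dim.lenQ ((quotGMod I hI).F g) ((quotGMod I hI).F (g + 1)) =
      (Module.finrank k ↥((𝐆 g).map (Ideal.Quotient.mkₐ k I).toLinearMap) : ℕ∞) := by
  let G := quotGMod I hI
  haveI : Module.Finite k ↥(𝐆 g) := finite_piece g
  let W := (𝐆 g).map (Ideal.Quotient.mkₐ k I).toLinearMap
  have hcp : ∀ y ∈ W, G.cp g y = y := by
    rintro _ ⟨x, hx, rfl⟩
    show G.cp g (Ideal.Quotient.mk I x) = Ideal.Quotient.mk I x
    rw [quotGMod_cp, GMod.ofDecomposition_cp, decompose_of_mem_same _ hx]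
  have hW : ∀ y ∈ W, y ∈ G.F g := fun y hy => hcp y hy ▸ G.cp_mem_F le_rfl y
  have hcpW : ∀ y, G.cp g y ∈ W := fun y => by
    obtain ⟨x, rfl⟩ := Ideal.Quotient.mk_surjective y
    rw [quotGMod_cp, GMod.ofDecomposition_cp]
    exact ⟨_, SetLike.coe_mem _, rfl⟩
  let f : W →ₗ[k] (G.F g ⧸ (G.F (g + 1)).comap (G.F g).subtype) :=
    { toFun := fun y => Submodule.Quotient.mk ⟨(y : _ ⧸ I), hW y y.2⟩
      map_add' := fun _ _ => rfl
      map_smul' := fun _ _ => rfl }
  have hf : Function.Bijective f := by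
    constructor
    · rw [injective_iff_map_eq_zero]
      rintro ⟨y, hy⟩ h
      have h' : y ∈ G.F (g + 1) :=
        (Submodule.Quotient.mk_eq_zero ((G.F (g + 1)).comap (G.F g).subtype) (x := ⟨y, hW y hy⟩)).1 h
      exact Subtype.ext ((hcp y hy).symm.trans (h' g g.lt_succ_self))
    · intro q
      obtain ⟨⟨y, hy⟩, rfl⟩ := Submodule.mkQ_surjective _ q
      refine ⟨⟨_, hcpW y⟩, (Submodule.Quotient.eq _).2 fun i hi => ?_⟩
      show G.cp i (G.cp g y - y) = 0
      rw [map_sub, G.cp_cp]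
      rcases (Nat.lt_succ_iff.1 hi).eq_or_lt with rfl | h
      · rw [if_pos rfl, sub_self]
      · rw [if_neg h.ne, hy i h, sub_zero]
  rw [Groth.Ega41Dim.lenQ, ← length_eq_of_forall (R := k) (S := 𝐑) (fun c z => ?_), ← (LinearEquiv.ofBijective f hf).length_eq, Module.length_eq_finrank]
  refine ⟨c.coeff 0, ?_⟩
  obtain ⟨⟨z, hz⟩, rfl⟩ := Submodule.mkQ_surjective _ z
  rw [← algebraMap_smul 𝐑 (c.coeff 0), ← sub_eq_zero, ← sub_smul, ← map_smul]
  exact (Submodule.Quotient.mk_eq_zero _).2 (G.smul_F_le g (Submodule.smul_mem_smul (sub_C_mem_irr c) hz))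

include hI in
/-- the degree of the Hilbert polynomial -/
theorem natDegree_add_one_eq_ringKrullDim (P : ℚ[X]) (hP0 : P ≠ 0)
    (hP : ∃ m₀ : ℕ, ∀ m : ℕ, m₀ ≤ m → P.eval (m : ℚ) =
      (Module.finrank k ↥(𝐆 m) : ℚ) - Module.finrank k ↥(Submodule.restrictScalars k I ⊓ 𝐆 m)) :
    ringKrullDim (𝐑 ⧸ I) = (P.natDegree : WithBot ℕ∞) + 1 := by
  obtain ⟨m₀, hm₀⟩ := hP
  have hne : I ≠ ⊤ := fun h => hP0 (Polynomial.eq_zero_of_infinite_isRoot P (Set.Infinite.mono (s := (fun m : ℕ => (m : ℚ)) '' Set.Ici m₀) (by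
    rintro _ ⟨m, hm, rfl⟩
    show P.eval (m : ℚ) = 0
    rw [hm₀ m hm, h, Submodule.restrictScalars_top, top_inf_eq, sub_self]) ((Set.Ici_infinite m₀).image (fun a _ b _ h => Nat.cast_injective h))))
  haveI : Nontrivial (𝐑 ⧸ I) := Ideal.Quotient.nontrivial_iff.2 hne
  let G := quotGMod I hI
  haveI := isArtinianRing_quotient_irr (𝒜 := 𝐆)
  obtain ⟨P', Q, hP', hQ, hdeg⟩ := G.exists_poly irr_eq_span
  have hdim := natDegree_eq_supportDim irr_eq_span G hQ
  rw [← hdeg, Module.supportDim_quotient_eq_ringKrullDim] at hdim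
  have hstep : ∀ g, (S G (g + 1) : ℚ) = S G g + ((Module.finrank k ↥(𝐆 g) : ℚ) -
      Module.finrank k ↥(Submodule.restrictScalars k I ⊓ 𝐆 g)) := fun g => by
    haveI : Module.Finite k ↥(𝐆 g) := finite_piece g
    have h := Groth.Ega41Dim.lenQ_add (G.F_anti (Nat.le_add_right g 1)) (le_top : G.F g ≤ ⊤)
    rw [Groth.Ega41Dim.lenQ_top, Groth.Ega41Dim.lenQ_top, lenQ_step, G.length_quot_F, G.length_quot_F] at h
    have h' := Groth.GrSyzLib.finrank_eq_map_add_inf_ker (Ideal.Quotient.mkₐ k I).toLinearMap (𝐆 g)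
    rw [show LinearMap.ker (Ideal.Quotient.mkₐ k I).toLinearMap = I.restrictScalars k from
      Submodule.ext fun x => Ideal.Quotient.eq_zero_iff_mem, inf_comm] at h'
    have h'' : S G (g + 1) = S G g + Module.finrank k ↥((𝐆 g).map (Ideal.Quotient.mkₐ k I).toLinearMap) := by
      exact_mod_cast h
    rw [h'', h']
    push_cast
    ring
  have heq : shift (P'.comp (X + 1)) - P'.comp (X + 1) = -P := by
    refine sub_eq_zero.1 (Polynomial.eq_zero_of_infinite_isRoot _ ?_)
    obtain ⟨N, hN⟩ := eventually_atTop.1 hP'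
    refine Set.Infinite.mono (s := (fun m : ℕ => (m : ℚ)) '' Set.Ici (m₀ + N)) ?_ ((Set.Ici_infinite (m₀ + N)).image (fun a _ b _ h => Nat.cast_injective h))
    rintro _ ⟨m, hm, rfl⟩
    have hm : m₀ + N ≤ m := hm
    show eval (m : ℚ) (shift (P'.comp (X + 1)) - P'.comp (X + 1) - -P) = 0
    have e := hstep m
    rw [hN _ (by omega), hN _ (by omega), ← hm₀ m (by omega)] at e
    push_cast at e
    simp only [shift, taylor_apply, eval_sub, eval_neg, eval_comp, eval_add, eval_X, eval_C, eval_one]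
    rw [show ((m : ℚ) + -1 + 1) = m by ring, e]
    ring
  have hne' : P'.natDegree ≠ 0 := fun h => hP0 (by
    have := delta_of_natDegree_zero (P := P'.comp (X + 1)) (by rw [natDegree_comp, h, zero_mul])
    rw [LinearMap.sub_apply, Module.End.one_apply, heq, neg_eq_zero] at this
    exact this)
  obtain ⟨d, hd⟩ := Nat.exists_eq_succ_of_ne_zero hne'
  have h1 := (delta_of_natDegree_succ (P := P'.comp (X + 1)) (k := d)
    (by rw [natDegree_comp, hd, ← C_1, natDegree_X_add_C, mul_one])).2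
  rw [LinearMap.sub_apply, Module.End.one_apply, heq, natDegree_neg] at h1
  rw [← hdim, hd, h1]
  rfl

end Groth.Calg6.HilbDim
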