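import Groth.Agent.S10906

/-!
Hilbert functions of hypersurface sections.
-/

set_option autoImplicit false

universe u

open Polynomial

namespace Groth.Calg6.HypSection

theorem sub_comp_natDegree {P : ℚ[X]} {d : ℕ} (hd : 0 < d) (h : 1 ≤ P.natDegree) :
    (P - P.comp (X - C (d : ℚ))).natDegree + 1 = P.natDegree ∧
      (P - P.comp (X - C (d : ℚ))).leadingCoeff = d * P.natDegree * P.leadingCoeff := by
  obtain ⟨j, hj⟩ := Nat.exists_eq_add_of_le' h
  have hP : P.leadingCoeff ≠ 0 := leadingCoeff_ne_zero.2 (by rintro rfl; simp at hj)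
  have htay : P.comp (X - C (d : ℚ)) = taylor (-(d : ℚ)) P := by
    rw [taylor_apply, C_neg, sub_eq_add_neg]
  have hcoeff : (P - P.comp (X - C (d : ℚ))).coeff j = d * P.natDegree * P.leadingCoeff := by
    rw [coeff_sub, htay, taylor_coeff,
      eq_X_add_C_of_natDegree_le_one (p := hasseDeriv j P) ((natDegree_hasseDeriv_le P j).trans (by omega))]
    simp only [eval_add, eval_mul, eval_C, eval_X, hasseDeriv_coeff, zero_add, Nat.choose_self,
      Nat.cast_one, one_mul, leadingCoeff, hj, add_comm 1 j, Nat.choose_succ_self_right, Nat.cast_add]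
    ring
  have hne : (P - P.comp (X - C (d : ℚ))).coeff j ≠ 0 := by
    rw [hcoeff]
    refine mul_ne_zero (mul_ne_zero ?_ ?_) hP
    · exact_mod_cast hd.ne'
    · exact_mod_cast (by omega : P.natDegree ≠ 0)
  have hdeg : (P - P.comp (X - C (d : ℚ))).natDegree = j := by
    refine natDegree_eq_of_le_of_coeff_ne_zero (natDegree_le_iff_coeff_eq_zero.2 fun N hN => ?_) hne
    rw [coeff_sub, htay]
    rcases eq_or_lt_of_le (Nat.succ_le_of_lt hN) with rfl | hlt
    · rw [show j.succ = P.natDegree from hj.symm, coeff_taylor_natDegree, leadingCoeff, sub_self]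
    · rw [coeff_eq_zero_of_natDegree_lt (p := taylor (-(d : ℚ)) P) (by rw [natDegree_taylor]; omega),
        coeff_eq_zero_of_natDegree_lt (by omega), sub_self]
  refine ⟨by rw [hdeg, hj], ?_⟩
  rw [leadingCoeff, hdeg, hcoeff]

variable {k : Type u} [Field k] {n : ℕ}

theorem hilb_step {B : Ideal (MvPolynomial (Fin (n + 1)) k)} (hB : B.IsHomogeneous (CohB1.polyGrading n k))
    {f : MvPolynomial (Fin (n + 1)) k} {d : ℕ} (hf : f.IsHomogeneous d) (hcolon : ∀ r, r * f ∈ B → r ∈ B) (g : ℤ) :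
    Groth.Misc15.HilbLead.hf (B ⊔ Ideal.span {f}) g =
      Groth.Misc15.HilbLead.hf B g - Groth.Misc15.HilbLead.hf B (g - d) := by
  have hfd : f ∈ GrSyz.stdGr k (Fin (n + 1)) (d : ℤ) := by
    rw [Groth.GrSyzLib.stdGr_natCast]; exact hf
  have h := Groth.Misc15.HilbLead.hf_step (Groth.Agent.S10906.isHomogeneous_stdGr hB) hfd g
  rw [show B.colon {f} = B from le_antisymm (fun r hr => hcolon r (Submodule.mem_colon_singleton.1 hr))
    fun r hr => Submodule.mem_colon_singleton.2 (B.mul_mem_right _ hr)] at h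
  rw [h, add_sub_cancel_right]

theorem eq_sub_comp {I : Ideal (MvPolynomial (Fin (n + 1)) k)} (hIh : I.IsHomogeneous (CohB1.polyGrading n k))
    [I.IsPrime] {f : MvPolynomial (Fin (n + 1)) k} {d : ℕ} (hf : f.IsHomogeneous d) (hfI : f ∉ I) {P : ℚ[X]}
    (hP : ∃ m₀ : ℕ, ∀ m : ℕ, m₀ ≤ m → P.eval (m : ℚ) =
      (Module.finrank k ↥(CohB1.polyGrading n k m) : ℚ) -
        Module.finrank k ↥(Submodule.restrictScalars k I ⊓ CohB1.polyGrading n k m)) :
    ∃ m₀ : ℕ, ∀ m : ℕ, m₀ ≤ m → (P - P.comp (X - C (d : ℚ))).eval (m : ℚ) =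
      (Module.finrank k ↥(CohB1.polyGrading n k m) : ℚ) -
        Module.finrank k ↥(Submodule.restrictScalars k (I ⊔ Ideal.span {f}) ⊓ CohB1.polyGrading n k m) := by
  obtain ⟨m₀, hm₀⟩ := hP
  refine ⟨m₀ + d, fun m hm => ?_⟩
  obtain ⟨l, rfl⟩ := Nat.exists_eq_add_of_le' (show d ≤ m by omega)
  rw [← Groth.Agent.S10906.hf_eq_piece, hilb_step hIh hf
    (fun r hr => ((‹I.IsPrime›).mem_or_mem hr).resolve_right hfI), show ((l + d : ℕ) : ℤ) - d = (l : ℕ) by push_cast; ring,
    Groth.Agent.S10906.hf_eq_piece, Groth.Agent.S10906.hf_eq_piece, ← hm₀ _ (by omega), ← hm₀ _ (by omega)]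
  simp

theorem isHomogeneous_sup {I : Ideal (MvPolynomial (Fin (n + 1)) k)} (hIh : I.IsHomogeneous (CohB1.polyGrading n k))
    {f : MvPolynomial (Fin (n + 1)) k} {d : ℕ} (hf : f.IsHomogeneous d) :
    (I ⊔ Ideal.span {f}).IsHomogeneous (CohB1.polyGrading n k) :=
  hIh.sup (Ideal.homogeneous_span _ _ fun y hy => ⟨d, (Set.mem_singleton_iff.1 hy) ▸ hf⟩)

theorem ringKrullDim_of_minimal {I : Ideal (MvPolynomial (Fin (n + 1)) k)} [hI : I.IsPrime]
    {f : MvPolynomial (Fin (n + 1)) k} (hfI : f ∉ I) {p : Ideal (MvPolynomial (Fin (n + 1)) k)} [hp : p.IsPrime]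
    (hmin : p ∈ (I ⊔ Ideal.span {f}).minimalPrimes) :
    ringKrullDim (MvPolynomial (Fin (n + 1)) k ⧸ p) + 1 = ringKrullDim (MvPolynomial (Fin (n + 1)) k ⧸ I) := by
  refine Groth.Variety2.Dim.ringKrullDim_quotient_add_one_of_covBy k (MvPolynomial (Fin (n + 1)) k)
    (q := ⟨I, hI⟩) (p := ⟨p, hp⟩) ⟨lt_of_le_of_ne (le_sup_left.trans hmin.1.2) ?_, fun c h1 h2 => ?_⟩
  · intro h
    have h' : I = p := congrArg PrimeSpectrum.asIdeal h
    exact hfI (by rw [h']; exact hmin.1.2 (Ideal.mem_sup_right (Ideal.mem_span_singleton_self f)))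
  · have hle := Ideal.map_height_le_one_of_mem_minimalPrimes hmin
    let π := Ideal.Quotient.mk I
    have hc : I ≤ c.asIdeal := h1.le
    have hcp : c.asIdeal ≤ p := h2.le
    haveI : (c.asIdeal.map π).IsPrime := Ideal.map_isPrime_of_surjective Ideal.Quotient.mk_surjective (by rwa [Ideal.mk_ker])
    haveI : (p.map π).IsPrime := Ideal.map_isPrime_of_surjective Ideal.Quotient.mk_surjective (by rw [Ideal.mk_ker]; exact hc.trans hcp)
    have back : ∀ {J : Ideal (MvPolynomial (Fin (n + 1)) k)}, I ≤ J → (J.map π).comap π = J := fun {J} hJ => by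
      rw [Ideal.comap_map_of_surjective' _ Ideal.Quotient.mk_surjective, Ideal.mk_ker, sup_eq_left.2 hJ]
    have l1 : ⊥ < c.asIdeal.map π := bot_lt_iff_ne_bot.2 fun h => by
      have := back hc
      rw [h, ← RingHom.ker_eq_comap_bot, Ideal.mk_ker] at this
      exact h1.ne (PrimeSpectrum.ext this)
    have l2 : c.asIdeal.map π < p.map π := lt_of_le_of_ne (Ideal.map_mono hcp) fun h => by
      have := congrArg (Ideal.comap π) h
      rw [back hc, back (hc.trans hcp)] at this
      exact h2.ne (PrimeSpectrum.ext this)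
    have := (add_le_add (Ideal.height_add_one_le_of_lt_of_isPrime l1) (le_refl (1 : ℕ∞))).trans
      ((Ideal.height_add_one_le_of_lt_of_isPrime l2).trans hle)
    rw [add_assoc] at this
    exact absurd (le_add_self.trans this) (by norm_num)

end Groth.Calg6.HypSection
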