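import Mathlib

/-!
# The Jacobian rank and the cotangent space at a rational point
-/

set_option autoImplicit false
set_option backward.isDefEq.respectTransparency false
set_option backward.isDefEq.respectTransparency.types false

universe u

open MvPolynomial

noncomputable section

namespace Groth.Calg6.JacRank

variable {k : Type u} [Field k] {n : ℕ}

/-- The gradient at a point. -/
def grad (a : Fin n → k) : MvPolynomial (Fin n) k →ₗ[k] (Fin n → k) :=
  LinearMap.pi fun i => (aeval a).toLinearMap ∘ₗ (pderiv i).toLinearMap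

theorem grad_apply (a : Fin n → k) (p : MvPolynomial (Fin n) k) (i : Fin n) :
    grad a p i = eval a (pderiv i p) := by
  simp [grad, aeval_eq_eval]

theorem grad_mul (a : Fin n → k) (p q : MvPolynomial (Fin n) k) :
    grad a (p * q) = eval a p • grad a q + eval a q • grad a p := by
  ext i
  simp only [grad_apply, pderiv_mul, map_add, map_mul, Pi.add_apply, Pi.smul_apply, smul_eq_mul]
  ring

theorem grad_lin (a c : Fin n → k) : grad a (∑ i, c i • (X i - C (a i))) = c := by
  ext j
  simp [grad_apply, map_sum, Pi.single_apply, smul_eq_C_mul, Finset.sum_ite_eq', eq_comm]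

theorem ker_eval_eq_span (a : Fin n → k) :
    RingHom.ker (eval a) = Ideal.span (Set.range fun i => (X i - C (a i) : MvPolynomial (Fin n) k)) := by
  refine le_antisymm (fun p hp => ?_) (Ideal.span_le.2 (by rintro _ ⟨i, rfl⟩; simp))
  suffices ∀ p, p - C (eval a p) ∈ Ideal.span (Set.range fun i => (X i - C (a i) : MvPolynomial (Fin n) k)) by
    simpa [RingHom.mem_ker.1 hp] using this p
  intro p
  induction p using MvPolynomial.induction_on with
  | C c => simp
  | add p q hp hq =>
    rw [map_add, map_add, add_sub_add_comm]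
    exact add_mem hp hq
  | mul_X p i hp =>
    rw [map_mul, map_mul, eval_X,
      show p * X i - C (eval a p) * C (a i) = (p - C (eval a p)) * X i + C (eval a p) * (X i - C (a i)) by ring]
    exact add_mem (Ideal.mul_mem_right _ _ hp) (Ideal.mul_mem_left _ _ (Ideal.subset_span ⟨i, rfl⟩))

theorem grad_eq_zero_of_mem_sq (a : Fin n → k) {p : MvPolynomial (Fin n) k}
    (hp : p ∈ RingHom.ker (eval a) ^ 2) : grad a p = 0 := by
  rw [pow_two] at hp
  induction hp using Submodule.mul_induction_on' with
  | mem_mul_mem x hx y hy =>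
    rw [grad_mul, RingHom.mem_ker.1 hx, RingHom.mem_ker.1 hy, zero_smul, zero_smul, add_zero]
  | add x _ y _ hx hy => rw [map_add, hx, hy, add_zero]

theorem finrank_cotangent_add_rank_aux {r : ℕ} (F : Fin r → MvPolynomial (Fin n) k) (a : Fin n → k)
    (𝔪 : Ideal (MvPolynomial (Fin n) k ⧸ Ideal.span (Set.range F))) [𝔪.IsMaximal]
    (h𝔪 : 𝔪.comap (Ideal.Quotient.mk (Ideal.span (Set.range F))) = RingHom.ker (eval a))
    (B : Type u) [CommRing B] [IsLocalRing B] [Algebra (MvPolynomial (Fin n) k ⧸ Ideal.span (Set.range F)) B]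
    [IsLocalization.AtPrime B 𝔪] [Algebra k B]
    [IsScalarTower k (MvPolynomial (Fin n) k ⧸ Ideal.span (Set.range F)) B] :
    Module.finrank (IsLocalRing.ResidueField B) (IsLocalRing.CotangentSpace B) +
      (Matrix.of fun i j => eval a (pderiv j (F i))).rank = n := by
  classical
  let q : MvPolynomial (Fin n) k →ₐ[k] B :=
    (IsScalarTower.toAlgHom k (MvPolynomial (Fin n) k ⧸ Ideal.span (Set.range F)) B).comp (Ideal.Quotient.mkₐ k _)
  let M : Ideal (MvPolynomial (Fin n) k) := RingHom.ker (eval a)
  have h𝔪' : M.map (Ideal.Quotient.mk (Ideal.span (Set.range F))) = 𝔪 := by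
    show (RingHom.ker (eval a)).map _ = _
    rw [← h𝔪]
    exact Ideal.map_comap_of_surjective _ Ideal.Quotient.mk_surjective 𝔪
  have hmax : M.map (q : MvPolynomial (Fin n) k →+* B) = IsLocalRing.maximalIdeal B := by
    show M.map ((algebraMap (MvPolynomial (Fin n) k ⧸ Ideal.span (Set.range F)) B).comp (Ideal.Quotient.mk _)) = _
    rw [← Ideal.map_map, h𝔪']
    exact IsLocalization.AtPrime.map_eq_maximalIdeal 𝔪 B
  have hFM : ∀ j, eval a (F j) = 0 := fun j => by
    have : F j ∈ 𝔪.comap (Ideal.Quotient.mk (Ideal.span (Set.range F))) := by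
      rw [Ideal.mem_comap, (Ideal.Quotient.eq_zero_iff_mem (I := Ideal.span (Set.range F))).2
        (Ideal.subset_span ⟨j, rfl⟩)]
      exact zero_mem _
    rwa [h𝔪, RingHom.mem_ker] at this
  have hqmem : ∀ p, p ∈ M → q p ∈ IsLocalRing.maximalIdeal B := fun p hp => hmax ▸ Ideal.mem_map_of_mem _ hp
  let v : Fin n → IsLocalRing.maximalIdeal B := fun i => ⟨q (X i - C (a i)), hqmem _ (by simp [M])⟩
  let w : Fin n → IsLocalRing.CotangentSpace B := fun i => Ideal.toCotangent (IsLocalRing.maximalIdeal B) (v i)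
  let Φ : (Fin n → k) →ₗ[k] IsLocalRing.CotangentSpace B := Fintype.linearCombination k w
  have hΦ : ∀ c, Φ c = (IsLocalRing.maximalIdeal B).toCotangent (∑ i, algebraMap k B (c i) • v i) := fun c => by
    rw [map_sum, Fintype.linearCombination_apply]
    refine Finset.sum_congr rfl fun i _ => ?_
    rw [map_smul, algebraMap_smul]
  have hval : ∀ c : Fin n → k, ((∑ i, algebraMap k B (c i) • v i : IsLocalRing.maximalIdeal B) : B) =
      q (∑ i, c i • (X i - C (a i))) := fun c => by
    rw [map_sum, AddSubmonoidClass.coe_finsetSum]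
    refine Finset.sum_congr rfl fun i _ => ?_
    simp [v, Algebra.smul_def]
  have hconst : ∀ b : B, ∃ c : k, b - algebraMap k B c ∈ IsLocalRing.maximalIdeal B := fun b => by
    obtain ⟨x, s, rfl⟩ := IsLocalization.exists_mk'_eq 𝔪.primeCompl b
    obtain ⟨p, rfl⟩ := Ideal.Quotient.mk_surjective x
    obtain ⟨t, ht⟩ := Ideal.Quotient.mk_surjective (s : MvPolynomial (Fin n) k ⧸ Ideal.span (Set.range F))
    have ht0 : eval a t ≠ 0 := fun e => s.2 (by
      rw [← ht]
      show t ∈ 𝔪.comap (Ideal.Quotient.mk _)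
      rw [h𝔪]; exact e)
    refine ⟨eval a p / eval a t, ?_⟩
    have hu : IsUnit (q t) := by
      show IsUnit (algebraMap _ B (Ideal.Quotient.mk _ t))
      rw [ht]
      exact IsLocalization.map_units B s
    refine (Ideal.unit_mul_mem_iff_mem _ hu).1 ?_
    have h1 : q t * IsLocalization.mk' B (Ideal.Quotient.mk _ p) s = q p := by
      show algebraMap _ B (Ideal.Quotient.mk _ t) * _ = algebraMap _ B (Ideal.Quotient.mk _ p)
      rw [ht, IsLocalization.mk'_spec']
    rw [mul_sub, h1, show algebraMap k B (eval a p / eval a t) = q (C (eval a p / eval a t)) from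
      (q.commutes _).symm, ← map_mul, ← map_sub]
    refine hqmem _ ?_
    show eval a _ = 0
    rw [map_sub, map_mul, eval_C, mul_div_cancel₀ _ ht0, sub_self]
  have hsurj : Function.Surjective Φ := fun y => by
    obtain ⟨⟨z, hz⟩, rfl⟩ := Ideal.toCotangent_surjective _ y
    have hz' := hz
    rw [← hmax, show M = Ideal.span (Set.range fun i => (X i - C (a i) : MvPolynomial (Fin n) k)) from
      ker_eval_eq_span a, Ideal.map_span, ← Set.range_comp, Ideal.mem_span_range_iff_exists_fun] at hz'
    obtain ⟨b, hb⟩ := hz'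
    choose c hc using fun i => hconst (b i)
    refine ⟨c, ?_⟩
    rw [hΦ, Ideal.toCotangent_eq]
    simp only [hval, map_sum, ← hb, Function.comp_apply, ← Finset.sum_sub_distrib]
    refine Ideal.sum_mem _ fun i _ => ?_
    rw [map_smul, Algebra.smul_def, RingHom.coe_coe, ← sub_mul, pow_two, ← neg_sub, neg_mul]
    exact neg_mem (Ideal.mul_mem_mul (hc i) (hqmem _ (by simp [M])))
  have hker : LinearMap.ker Φ = Submodule.span k (Set.range (Matrix.of fun i j => eval a (pderiv j (F i))).row) := by
    refine le_antisymm (fun c hc => ?_) (Submodule.span_le.2 ?_)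
    · rw [LinearMap.mem_ker, hΦ, Ideal.toCotangent_eq_zero, hval, ← hmax, ← Ideal.map_pow] at hc
      change algebraMap (MvPolynomial (Fin n) k ⧸ Ideal.span (Set.range F)) B (Ideal.Quotient.mk _ _) ∈
        (M ^ 2).map ((algebraMap _ B).comp (Ideal.Quotient.mk _)) at hc
      rw [← Ideal.map_map, IsLocalization.mem_map_algebraMap_iff 𝔪.primeCompl] at hc
      obtain ⟨⟨⟨j, hj⟩, s⟩, hjs⟩ := hc
      rw [← map_mul, IsLocalization.eq_iff_exists 𝔪.primeCompl] at hjs
      obtain ⟨s', hs'⟩ := hjs
      obtain ⟨j₀, hj₀, rfl⟩ := (Ideal.mem_map_iff_of_surjective _ Ideal.Quotient.mk_surjective).1 hj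
      obtain ⟨t, ht⟩ := Ideal.Quotient.mk_surjective (((s' * s : 𝔪.primeCompl)) : MvPolynomial (Fin n) k ⧸ Ideal.span (Set.range F))
      obtain ⟨t', ht'⟩ := Ideal.Quotient.mk_surjective (s' : MvPolynomial (Fin n) k ⧸ Ideal.span (Set.range F))
      have ht0 : eval a t ≠ 0 := fun e => (s' * s).2 (by
        rw [← ht]
        show t ∈ 𝔪.comap (Ideal.Quotient.mk _)
        rw [h𝔪]; exact e)
      set g := ∑ i, c i • (X i - C (a i) : MvPolynomial (Fin n) k)
      have hmem : t * g - t' * j₀ ∈ Ideal.span (Set.range F) := by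
        rw [← Ideal.Quotient.eq, map_mul, map_mul, ht, ht']
        rw [Submonoid.coe_mul]
        linear_combination hs'
      obtain ⟨w, hw⟩ := Ideal.mem_span_range_iff_exists_fun.1 hmem
      have h1 := congrArg (grad a) hw
      have hg0 : eval a g = 0 := by simp [g, map_sum, smul_eq_C_mul]
      have h2 : grad a (t' * j₀) = 0 := grad_eq_zero_of_mem_sq a (Ideal.mul_mem_left _ _ hj₀)
      rw [map_sum, map_sub, grad_mul, h2, sub_zero, hg0, zero_smul, add_zero, grad_lin] at h1
      rw [← inv_smul_smul₀ ht0 c, ← h1, Finset.smul_sum]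
      refine Submodule.sum_mem _ fun i _ => Submodule.smul_mem _ _ ?_
      rw [grad_mul, hFM i, zero_smul, add_zero]
      exact Submodule.smul_mem _ _ (Submodule.subset_span ⟨i, funext fun j => (grad_apply a (F i) j).symm⟩)
    · rintro _ ⟨j, rfl⟩
      rw [SetLike.mem_coe, LinearMap.mem_ker, hΦ, Ideal.toCotangent_eq_zero, hval, ← hmax, ← Ideal.map_pow]
      have hq : q (F j) = 0 := by
        show algebraMap _ B (Ideal.Quotient.mk _ (F j)) = 0
        rw [(Ideal.Quotient.eq_zero_iff_mem (I := Ideal.span (Set.range F))).2 (Ideal.subset_span ⟨j, rfl⟩), map_zero]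
      suffices key : ∀ p, eval a p = 0 → p - ∑ i, grad a p i • (X i - C (a i)) ∈ M ^ 2 by
        have := Ideal.mem_map_of_mem (q : MvPolynomial (Fin n) k →+* B) (key _ (hFM j))
        rw [map_sub, RingHom.coe_coe, hq, zero_sub, neg_mem_iff] at this
        simpa only [grad_apply, Matrix.row, Matrix.of_apply] using this
      intro p hp
      have hp' : p ∈ M := hp
      rw [show M = Ideal.span (Set.range fun i => (X i - C (a i) : MvPolynomial (Fin n) k)) from
        ker_eval_eq_span a, Ideal.mem_span_range_iff_exists_fun] at hp'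
      obtain ⟨h, rfl⟩ := hp'
      have hgr : ∀ i, grad a (∑ j, h j * (X j - C (a j))) i = eval a (h i) := fun i => by
        simp [grad_apply, map_sum, Pi.single_apply, eq_comm, apply_ite (eval a)]
      simp only [hgr, ← Finset.sum_sub_distrib, smul_eq_C_mul, ← sub_mul]
      refine Ideal.sum_mem _ fun i _ => ?_
      rw [pow_two]
      exact Ideal.mul_mem_mul (by simp [M]) (by simp [M])
  have h1 := LinearMap.finrank_range_add_finrank_ker Φ
  rw [LinearMap.range_eq_top.2 hsurj, finrank_top, hker, ← Matrix.rank_eq_finrank_span_row,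
    Module.finrank_fin_fun] at h1
  have hκ : Module.finrank k (IsLocalRing.ResidueField B) = 1 := by
    have hs : Function.Surjective (algebraMap k (IsLocalRing.ResidueField B)) := fun y => by
      obtain ⟨b, rfl⟩ := IsLocalRing.residue_surjective y
      obtain ⟨c, hc⟩ := hconst b
      exact ⟨c, (Ideal.Quotient.eq.2 hc).symm⟩
    exact (LinearEquiv.ofBijective (Algebra.linearMap k (IsLocalRing.ResidueField B))
      ⟨(algebraMap k (IsLocalRing.ResidueField B)).injective, hs⟩).finrank_eq.symm.trans (Module.finrank_self k)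
  have : IsScalarTower k (IsLocalRing.ResidueField B) (IsLocalRing.CotangentSpace B) :=
    IsScalarTower.of_algebraMap_smul fun c x => by
      rw [IsScalarTower.algebraMap_apply k B (IsLocalRing.ResidueField B), algebraMap_smul, algebraMap_smul]
  have h2 := Module.finrank_mul_finrank k (IsLocalRing.ResidueField B) (IsLocalRing.CotangentSpace B)
  rw [hκ, one_mul] at h2
  rwa [h2]

theorem finrank_cotangent_add_rank {r : ℕ} (F : Fin r → MvPolynomial (Fin n) k) (a : Fin n → k)
    (𝔪 : Ideal (MvPolynomial (Fin n) k ⧸ Ideal.span (Set.range F))) [𝔪.IsMaximal]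
    (h𝔪 : 𝔪.comap (Ideal.Quotient.mk (Ideal.span (Set.range F))) = RingHom.ker (eval a)) :
    Module.finrank (IsLocalRing.ResidueField (Localization.AtPrime 𝔪))
        (IsLocalRing.CotangentSpace (Localization.AtPrime 𝔪)) +
      (Matrix.of fun i j => eval a (pderiv j (F i))).rank = n :=
  finrank_cotangent_add_rank_aux F a 𝔪 h𝔪 (Localization.AtPrime 𝔪)

end Groth.Calg6.JacRank
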