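import Mathlib

/-! Domains cut out by a finite-character family of discrete valuations. -/

set_option autoImplicit false
universe u v

open scoped WithZero

namespace Groth.Calg6.Krull

variable {K : Type u} [Field K] {Γ : Type*} [LinearOrderedCommGroupWithZero Γ]

theorem lt_one_sub_one_gcd (w : Valuation K Γ) (x : K) (a b : ℕ) (hab : Nat.Coprime a b) (ha : 0 < a)
    (hxa : w (x ^ a - 1) < 1) (hxb : w (x ^ b - 1) < 1) : w (x - 1) < 1 := by
  have hpow : ∀ (y : K) (n : ℕ), w (y - 1) < 1 → w (y ^ n - 1) < 1 ∧ w y = 1 := by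
    intro y n hy
    have hy1 : w y = 1 := by
      rw [show y = (y - 1) + 1 by ring, Valuation.map_add_eq_of_lt_right _ (by rwa [map_one]), map_one]
    refine ⟨?_, hy1⟩
    induction n with
    | zero => simp
    | succ n ih =>
      rw [show y ^ (n + 1) - 1 = y * (y ^ n - 1) + (y - 1) by ring]
      refine lt_of_le_of_lt (w.map_add _ _) (max_lt ?_ hy)
      rw [map_mul, hy1, one_mul]; exact ih
  rcases Nat.lt_or_ge b 2 with hb | hb
  · interval_cases b
    · obtain rfl : a = 1 := by simpa [Nat.coprime_zero_right] using hab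
      simpa using hxa
    · simpa using hxb
  obtain ⟨u, -, hu⟩ := Nat.exists_mul_mod_eq_one_of_coprime hab hb
  have h1 := (hpow _ u hxa).1
  have h2 := (hpow _ (a * u / b) hxb)
  rw [← pow_mul] at h1
  have hdec : a * u = b * (a * u / b) + 1 := by
    have := Nat.div_add_mod (a * u) b
    omega
  have h2' := h2.1
  rw [← pow_mul] at h2'
  have hw : w (x ^ (b * (a * u / b))) = 1 := (hpow (x ^ (b * (a * u / b))) 0 h2').2
  have h3 : w (x ^ (b * (a * u / b)) * (x - 1)) < 1 := by
    rw [show x ^ (b * (a * u / b)) * (x - 1) = (x ^ (a * u) - 1) - (x ^ (b * (a * u / b)) - 1) by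
      generalize a * u / b = c at hdec ⊢
      rw [hdec, pow_succ]; ring]
    exact lt_of_le_of_lt (w.map_sub _ _) (max_lt h1 h2')
  rwa [map_mul, hw, one_mul] at h3

theorem natCast_coprime (w : Valuation K Γ) (a b : ℕ) (hab : Nat.Coprime a b)
    (ha : w (a : K) < 1) (hb : w (b : K) < 1) : False := by
  have hint : ∀ n : ℤ, w (n : K) ≤ 1 := fun n => by
    induction n using Int.induction_on with
    | zero => simp
    | succ i hi => push_cast at hi ⊢; exact (w.map_add _ _).trans (max_le hi (by rw [map_one]))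
    | pred i hi => push_cast at hi ⊢; exact (w.map_sub _ _).trans (max_le hi (by rw [map_one]))
  obtain ⟨u, v, huv⟩ := Int.isCoprime_iff_nat_coprime.mpr (show (a : ℤ).natAbs.Coprime (b : ℤ).natAbs by simpa using hab)
  have h := congrArg (fun n : ℤ => (n : K)) huv
  push_cast at h
  have h1 : w ((u : K) * (a : K) + (v : K) * (b : K)) < 1 := by
    refine lt_of_le_of_lt (w.map_add _ _) (max_lt ?_ ?_)
    · rw [map_mul]; exact lt_of_le_of_lt (mul_le_of_le_one_left' (hint u)) ha
    · rw [map_mul]; exact lt_of_le_of_lt (mul_le_of_le_one_left' (hint v)) hb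
  rw [h, map_one] at h1
  exact lt_irrefl _ h1

/-- A denominator with controlled valuations. -/
theorem exists_denominator {ι : Type v} (w : ι → Valuation K Γ) (J : Finset ι) (x : K) :
    ∃ t : K, (∀ j ∈ J, w j t ≤ 1 ∧ w j (t * x) ≤ 1) ∧ ∀ j ∈ J, w j x ≤ 1 → w j t = 1 := by
  classical
  let q : ℕ → K := fun s => ∑ i ∈ Finset.range s, x ^ i
  -- bad exponents: at most one prime for each valuation
  have hbad : ∀ j : ι, ∀ s s' : ℕ, s.Prime → s'.Prime → s ≠ s' →
      w j x ≤ 1 → w j (q s) < 1 → w j (q s') < 1 → False := by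
    intro j s s' hs hs' hne hx h1 h2
    have hcop : Nat.Coprime s s' := (Nat.coprime_primes hs hs').mpr hne
    have hgeom : ∀ n, (x - 1) * q n = x ^ n - 1 := fun n => by rw [mul_comm]; exact geom_sum_mul x n
    have hx1 : w j (x - 1) ≤ 1 := (Valuation.map_sub _ _ _).trans (max_le hx (by rw [map_one]))
    have hxs : ∀ n, w j (q n) < 1 → w j (x ^ n - 1) < 1 := fun n hn => by
      rw [← hgeom, map_mul]
      exact lt_of_le_of_lt (mul_le_of_le_one_left' hx1) hn
    have hlt := lt_one_sub_one_gcd (w j) x s s' hcop hs.pos (hxs s h1) (hxs s' h2)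
    have hq : ∀ n, w j (q n - (n : K)) < 1 := by
      intro n
      induction n with
      | zero => simp [q]
      | succ n ih =>
        have hxn : w j (x ^ n - 1) < 1 := by
          rw [← hgeom, map_mul]
          have hqn : w j (q n) ≤ 1 := Valuation.map_sum_le _ fun i _ => by
            rw [map_pow]; exact pow_le_one₀ zero_le hx
          exact lt_of_le_of_lt (mul_le_of_le_one_right' hqn) hlt
        rw [show q (n + 1) - ((n + 1 : ℕ) : K) = (q n - (n : K)) + (x ^ n - 1) by
          simp only [q, Finset.sum_range_succ]; push_cast; ring]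
        exact lt_of_le_of_lt (Valuation.map_add _ _ _) (max_lt ih hxn)
    have hn : ∀ n, w j (q n) < 1 → w j (n : K) < 1 := fun n hn => by
      rw [show (n : K) = q n - (q n - (n : K)) by ring]
      exact lt_of_le_of_lt (Valuation.map_sub _ _ _) (max_lt hn (hq n))
    exact natCast_coprime (w j) s s' hcop (hn s h1) (hn s' h2)
  obtain ⟨s, hs, hgood⟩ : ∃ s : ℕ, s.Prime ∧ ∀ j ∈ J, w j x ≤ 1 → ¬ w j (q s) < 1 := by
    by_contra hc
    push Not at hc
    have hex : ∀ s : {p : ℕ // p.Prime}, ∃ j : J, w j.1 x ≤ 1 ∧ w j.1 (q s) < 1 := fun s => by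
      obtain ⟨j, hj, h1, h2⟩ := hc s.1 s.2
      exact ⟨⟨j, hj⟩, h1, h2⟩
    choose g hg using hex
    have hinj : Function.Injective g := fun s s' h => by
      by_contra hne
      exact hbad (g s).1 s.1 s'.1 s.2 s'.2 (fun e => hne (Subtype.ext e)) (hg s).1 (hg s).2 (h ▸ (hg s').2)
    have : Finite {p : ℕ // p.Prime} := Finite.of_injective g hinj
    haveI : Finite ↑{p : ℕ | Nat.Prime p} := this
    exact Nat.infinite_setOf_prime (Set.toFinite {p : ℕ | p.Prime})
  have hs2 := hs.two_le
  have hbig : ∀ j, ¬ w j x ≤ 1 → w j (q s) = w j x ^ (s - 1) := by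
    intro j hj
    push Not at hj
    obtain ⟨m, rfl⟩ : ∃ m, s = m + 1 := ⟨s - 1, by omega⟩
    simp only [q, Finset.sum_range_succ, add_tsub_cancel_right]
    rw [Valuation.map_add_eq_of_lt_right, map_pow]
    have hlt : ∀ i ∈ Finset.range m, w j (x ^ i) < w j (x ^ m) := fun i hi => by
      rw [map_pow, map_pow]; exact pow_lt_pow_right₀ hj (Finset.mem_range.mp hi)
    have hm : w j (x ^ m) ≠ 0 := by
      rw [map_pow]; exact pow_ne_zero _ (lt_trans zero_lt_one hj).ne'
    exact Valuation.map_sum_lt _ hm hlt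
  refine ⟨(q s)⁻¹, fun j hj => ?_, fun j hj hx => ?_⟩
  · by_cases hx : w j x ≤ 1
    · have hqle : w j (q s) ≤ 1 := Valuation.map_sum_le _ fun i _ => by
        rw [map_pow]; exact pow_le_one₀ zero_le hx
      have h1 : w j (q s) = 1 := le_antisymm hqle (not_lt.mp (hgood j hj hx))
      rw [map_mul, map_inv₀, h1, inv_one, one_mul]
      exact ⟨le_rfl, hx⟩
    · rw [map_mul, map_inv₀, hbig j hx]
      have hx' : 1 < w j x := not_le.mp hx
      have hpos : 0 < w j x := zero_lt_one.trans hx'
      constructor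
      · exact inv_le_one_of_one_le₀ (one_le_pow₀ hx'.le)
      · rw [inv_mul_le_one₀ (pow_pos hpos _)]
        exact le_self_pow₀ hx'.le (by omega)
  · rw [map_inv₀, le_antisymm (Valuation.map_sum_le _ fun i _ => by
      rw [map_pow]; exact pow_le_one₀ zero_le hx) (not_lt.mp (hgood j hj hx)), inv_one]

section Family

variable {B : Type u} [CommRing B] [IsDomain B] [Algebra B K] [IsFractionRing B K]
variable {ι : Type v} (w : ι → Valuation K ℤᵐ⁰)
variable (hmem : ∀ x : K, (∃ b, algebraMap B K b = x) ↔ ∀ i, w i x ≤ 1)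
variable (hfin : ∀ b : B, b ≠ 0 → {i | w i (algebraMap B K b) < 1}.Finite)

/-- The centre of a valuation. -/
def centre (hle : ∀ (b : B) i, w i (algebraMap B K b) ≤ 1) (i : ι) : Ideal B where
  carrier := {b | w i (algebraMap B K b) < 1}
  zero_mem' := by simp
  add_mem' := fun {a b} ha hb => by
    show w i (algebraMap B K (a + b)) < 1
    rw [map_add]; exact lt_of_le_of_lt ((w i).map_add _ _) (max_lt ha hb)
  smul_mem' := fun c x hx => by
    show w i (algebraMap B K (c * x)) < 1
    rw [map_mul, map_mul]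
    exact lt_of_le_of_lt (mul_le_of_le_one_left' (hle c i)) hx

include hmem in
theorem le_one (b : B) (i : ι) : w i (algebraMap B K b) ≤ 1 := (hmem _).mp ⟨b, rfl⟩ i

theorem mem_centre (hle : ∀ (b : B) i, w i (algebraMap B K b) ≤ 1) (i : ι) (b : B) :
    b ∈ centre w hle i ↔ w i (algebraMap B K b) < 1 := Iff.rfl

theorem isPrime_centre (hle : ∀ (b : B) i, w i (algebraMap B K b) ≤ 1) (i : ι) :
    (centre w hle i).IsPrime := by
  refine ⟨fun h => ?_, fun {a b} hab => ?_⟩
  · have := (mem_centre w hle i 1).mp (h ▸ trivial)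
    simp at this
  · rw [mem_centre, map_mul, map_mul] at hab
    by_contra hc
    push Not at hc
    rw [mem_centre, mem_centre, not_lt, not_lt] at hc
    exact absurd hab (not_lt.mpr (one_le_mul hc.1 hc.2))

theorem height_one_le {P Q : Ideal B} [hP : P.IsPrime] (hP1 : P.height = 1) (hQ : Q.IsPrime)
    (hQ0 : Q ≠ ⊥) (hle : Q ≤ P) : Q = P := by
  by_contra hne
  haveI := hQ
  haveI : P.FiniteHeight := (P.finiteHeight_iff).mpr (Or.inr (by rw [hP1]; exact ENat.one_ne_top))
  haveI : Q.FiniteHeight := Ideal.finiteHeight_of_le hle hP.ne_top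
  have := Ideal.height_strict_mono_of_isPrime (lt_of_le_of_ne hle hne)
  rw [hP1, Order.lt_one_iff, Ideal.height_eq_zero_iff, IsDomain.minimalPrimes_eq_singleton_bot] at this
  exact hQ0 (Set.mem_singleton_iff.mp this)

include hmem hfin in
theorem finite_neg (x : K) : {i | 1 < w i x}.Finite := by
  obtain ⟨⟨a, b⟩, hab⟩ := IsLocalization.surj (nonZeroDivisors B) x
  refine (hfin b (nonZeroDivisors.ne_zero b.2)).subset fun i hi => ?_
  show w i (algebraMap B K b) < 1
  by_contra hc
  have hb1 : w i (algebraMap B K b) = 1 := le_antisymm (le_one w hmem _ i) (not_lt.mp hc)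
  have h := congrArg (w i) hab
  rw [map_mul, hb1, mul_one] at h
  exact absurd (h ▸ hi : 1 < w i (algebraMap B K a)) (not_lt.mpr (le_one w hmem a i))

include hmem hfin in
theorem exists_mul_mem {P : Ideal B} [P.IsPrime] (hP1 : P.height = 1) {f : B} (hf : f ≠ 0) (y : K)
    (hy : ∀ j, centre w (le_one w hmem) j = P → w j y ≤ 1) :
    ∃ s ∉ P, ∃ b, algebraMap B K b = algebraMap B K s * y := by
  classical
  set N := (finite_neg w hmem hfin y).toFinset
  have hg : ∀ j ∈ N, ∃ g, g ∈ centre w (le_one w hmem) j ∧ g ∉ P := by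
    intro j hj
    have hj' : 1 < w j y := (finite_neg w hmem hfin y).mem_toFinset.mp hj
    by_contra hc
    push Not at hc
    refine absurd hj' (not_lt.mpr (hy j (height_one_le hP1 (isPrime_centre w _ j) ?_ hc)))
    intro h0
    obtain ⟨⟨a, b⟩, hab⟩ := IsLocalization.surj (nonZeroDivisors B) y
    have hb1 : w j (algebraMap B K b) = 1 := by
      refine le_antisymm (le_one w hmem _ j) (not_lt.mp fun hlt => ?_)
      have : (b : B) ∈ centre w (le_one w hmem) j := hlt
      rw [h0, Ideal.mem_bot] at this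
      exact nonZeroDivisors.ne_zero b.2 this
    have h := congrArg (w j) hab
    rw [map_mul, hb1, mul_one] at h
    exact absurd (h ▸ hj' : 1 < w j (algebraMap B K a)) (not_lt.mpr (le_one w hmem a j))
  choose! g hg using hg
  have hpow : ∀ j ∈ N, ∃ n : ℕ, w j (algebraMap B K (g j)) ^ n * w j y ≤ 1 := by
    intro j hj
    have hj' : 1 < w j y := (finite_neg w hmem hfin y).mem_toFinset.mp hj
    have hlt : w j (algebraMap B K (g j)) < 1 := (hg j hj).1
    set a := w j (algebraMap B K (g j))
    rcases eq_or_ne a 0 with ha | ha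
    · exact ⟨1, by rw [ha]; simp⟩
    refine ⟨(WithZero.log (w j y)).toNat, ?_⟩
    have hy0 : w j y ≠ 0 := (zero_lt_one.trans hj').ne'
    rw [← WithZero.log_le_log (mul_ne_zero (pow_ne_zero _ ha) hy0) one_ne_zero,
      WithZero.log_mul (pow_ne_zero _ ha) hy0, WithZero.log_pow, WithZero.log_one]
    have h1 : WithZero.log a < 0 := by
      rwa [← WithZero.log_one, WithZero.log_lt_log ha one_ne_zero]
    simp only [nsmul_eq_mul]
    nlinarith [Int.self_le_toNat (WithZero.log (w j y)), h1]
  choose! n hn using hpow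
  refine ⟨∏ j ∈ N, g j ^ n j, fun h => ?_, (hmem _).mpr fun i => ?_⟩
  · obtain ⟨j, hj, hjP⟩ := (Ideal.IsPrime.prod_mem_iff).mp h
    exact (hg j hj).2 ((inferInstance : P.IsPrime).mem_of_pow_mem _ hjP)
  · by_cases hi : i ∈ N
    · rw [← Finset.mul_prod_erase N _ hi, map_mul, map_mul, map_mul, map_pow, map_pow]
      calc w i (algebraMap B K (g i)) ^ n i * w i (algebraMap B K (∏ j ∈ N.erase i, g j ^ n j)) * w i y
          = w i (algebraMap B K (∏ j ∈ N.erase i, g j ^ n j)) *
              (w i (algebraMap B K (g i)) ^ n i * w i y) := by ac_rfl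
        _ ≤ 1 := mul_le_one' (le_one w hmem _ i) (hn i hi)
    · rw [map_mul]
      refine mul_le_one' (le_one w hmem _ i) ?_
      by_contra hc
      exact hi ((finite_neg w hmem hfin y).mem_toFinset.mpr (not_le.mp hc))

include hmem hfin in
theorem exists_centre_eq {P : Ideal B} [P.IsPrime] (hP1 : P.height = 1) :
    ∃ i, centre w (le_one w hmem) i = P := by
  have hP0 : P ≠ ⊥ := by
    intro h
    rw [h, Ideal.height_bot] at hP1
    exact zero_ne_one hP1
  obtain ⟨f, hfP, hf0⟩ := Submodule.exists_mem_ne_zero_of_ne_bot hP0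
  by_contra hc
  push Not at hc
  have hfK : algebraMap B K f ≠ 0 := fun h => hf0 (IsFractionRing.injective B K (h.trans (map_zero _).symm))
  obtain ⟨s, hs, b, hb⟩ := exists_mul_mem w hmem hfin hP1 hf0 (algebraMap B K f)⁻¹
    fun j hj => absurd hj (hc j)
  refine hs ?_
  have : s = b * f := IsFractionRing.injective B K (by
    rw [map_mul, hb, inv_mul_cancel_right₀ hfK])
  rw [this]
  exact P.mul_mem_left b hfP

include hmem hfin in
theorem le_one_iff {P : Ideal B} [P.IsPrime] (hP1 : P.height = 1) (i : ι)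
    (hi : centre w (le_one w hmem) i = P) (x : K) :
    w i x ≤ 1 ↔ ∃ s ∉ P, ∃ b, algebraMap B K b = algebraMap B K s * x := by
  classical
  constructor
  · intro hx
    have hP0 : P ≠ ⊥ := fun h => by rw [h, Ideal.height_bot] at hP1; exact zero_ne_one hP1
    obtain ⟨f, hfP, hf0⟩ := Submodule.exists_mem_ne_zero_of_ne_bot hP0
    have hJfin : {j | centre w (le_one w hmem) j = P}.Finite :=
      (hfin f hf0).subset fun j (hj : centre w (le_one w hmem) j = P) =>
        (mem_centre w (le_one w hmem) j f).mp (hj ▸ hfP)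
    obtain ⟨t, ht, ht1⟩ := exists_denominator w hJfin.toFinset x
    obtain ⟨s, hs, a, ha⟩ := exists_mul_mem w hmem hfin hP1 hf0 t
      fun j hj => (ht j (hJfin.mem_toFinset.mpr hj)).1
    obtain ⟨s', hs', a', ha'⟩ := exists_mul_mem w hmem hfin hP1 hf0 (t * x)
      fun j hj => (ht j (hJfin.mem_toFinset.mpr hj)).2
    refine ⟨s' * a, fun h => ?_, s * a', by rw [map_mul, map_mul, ha, ha']; ring⟩
    rcases (inferInstance : P.IsPrime).mem_or_mem h with h | h
    · exact hs' h
    · rw [← hi, mem_centre, ha, map_mul, ht1 i (hJfin.mem_toFinset.mpr hi) hx, mul_one] at h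
      exact hs (hi ▸ h)
  · rintro ⟨s, hs, b, hb⟩
    have hs1 : w i (algebraMap B K s) = 1 :=
      le_antisymm (le_one w hmem s i) (not_lt.mp fun h => hs (hi ▸ h))
    have := le_one w hmem b i
    rwa [hb, map_mul, hs1, one_mul] at this

include hmem hfin in
theorem mem_of_forall_height_one (x : K)
    (hx : ∀ P : Ideal B, P.IsPrime → P.height = 1 → ∃ s ∉ P, ∃ b, algebraMap B K b = algebraMap B K s * x) :
    ∃ b, algebraMap B K b = x := by
  classical
  by_contra hxB
  set N := (finite_neg w hmem hfin x).toFinset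
  let μ : K → ℕ := fun y => ∑ j ∈ N, (WithZero.log (w j y)).toNat
  have hex : ∃ m, ∃ c : B, μ (algebraMap B K c * x) = m ∧ ¬ ∃ b, algebraMap B K b = algebraMap B K c * x :=
    ⟨_, 1, rfl, by simpa using hxB⟩
  obtain ⟨c, hμ, hc⟩ := Nat.find_spec hex
  set y := algebraMap B K c * x
  have hneg : ∀ j, 1 < w j y → j ∈ N := fun j hj => by
    refine (finite_neg w hmem hfin x).mem_toFinset.mpr ?_
    show 1 < w j x
    refine lt_of_lt_of_le hj ?_
    rw [map_mul]
    exact mul_le_of_le_one_left' (le_one w hmem c j)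
  obtain ⟨i, hi⟩ : ∃ i, 1 < w i y := by
    by_contra h
    push Not at h
    exact hc ((hmem y).mpr h)
  -- elements killing `y` modulo `B`
  let J : Set B := {g | ∃ b, algebraMap B K b = algebraMap B K g * y}
  have key : ∀ g : B, g ∈ J ↔ ∃ j, 1 < w j y ∧ w j (algebraMap B K g) < 1 := by
    intro g
    constructor
    · intro hg
      refine ⟨i, hi, lt_of_le_of_ne (le_one w hmem g i) fun h => ?_⟩
      obtain ⟨b, hb⟩ := hg
      have := le_one w hmem b i
      rw [hb, map_mul, h, one_mul] at this
      exact absurd hi (not_lt.mpr this)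
    · rintro ⟨j, hj, hjg⟩
      by_contra hg
      have hlt : μ (algebraMap B K (g * c) * x) < μ y := by
        refine Finset.sum_lt_sum (fun k hk => ?_) ⟨j, hneg j hj, ?_⟩
        · rw [show algebraMap B K (g * c) * x = algebraMap B K g * y by rw [map_mul, mul_assoc],
            map_mul (w k)]
          rcases eq_or_ne (w k (algebraMap B K g)) 0 with h0 | h0
          · rw [h0, zero_mul, WithZero.log_zero]; simp
          rcases eq_or_ne (w k y) 0 with hy0 | hy0
          · rw [hy0, mul_zero]
          rw [WithZero.log_mul h0 hy0]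
          have : WithZero.log (w k (algebraMap B K g)) ≤ 0 := by
            rw [← WithZero.log_one, WithZero.log_le_log h0 one_ne_zero]; exact le_one w hmem g k
          exact Int.toNat_le_toNat (by linarith)
        · rw [show algebraMap B K (g * c) * x = algebraMap B K g * y by rw [map_mul, mul_assoc],
            map_mul (w j)]
          have hy0 : w j y ≠ 0 := (zero_lt_one.trans hj).ne'
          have hypos : 0 < WithZero.log (w j y) := by
            rw [← WithZero.log_one, WithZero.log_lt_log one_ne_zero hy0]; exact hj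
          rcases eq_or_ne (w j (algebraMap B K g)) 0 with h0 | h0
          · rw [h0, zero_mul, WithZero.log_zero]; show (0 : ℤ).toNat < _; omega
          rw [WithZero.log_mul h0 hy0]
          have : WithZero.log (w j (algebraMap B K g)) < 0 := by
            rw [← WithZero.log_one, WithZero.log_lt_log h0 one_ne_zero]; exact hjg
          omega
      rw [hμ] at hlt
      refine Nat.find_min hex hlt ⟨g * c, rfl, fun ⟨b, hb⟩ => hg ⟨b, ?_⟩⟩
      rw [hb, map_mul, mul_assoc]
  let P := centre w (le_one w hmem) i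
  haveI hP : P.IsPrime := isPrime_centre w _ i
  have hPJ : ∀ g, g ∈ P ↔ g ∈ J := by
    intro g
    refine ⟨fun h => (key g).mpr ⟨i, hi, h⟩, fun hg => ?_⟩
    refine lt_of_le_of_ne (le_one w hmem g i) fun h => ?_
    obtain ⟨b, hb⟩ := hg
    have := le_one w hmem b i
    rw [hb, map_mul, h, one_mul] at this
    exact absurd hi (not_lt.mpr this)
  -- a generator up to units
  have hlow : ∀ g ∈ P, ∀ b, algebraMap B K b = algebraMap B K g * y → b ∈ P →
      w i (algebraMap B K b) ≠ 0 → w i (algebraMap B K g) ≠ 0 := fun g _ b hb _ hb0 h => hb0 (by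
    rw [hb, map_mul, h, zero_mul])
  obtain ⟨g, hg, u, hu, hgu⟩ : ∃ g ∈ P, ∃ u ∉ P, algebraMap B K u = algebraMap B K g * y := by
    by_contra hcon
    push Not at hcon
    have hclosed : ∀ g ∈ P, ∃ b ∈ P, algebraMap B K b = algebraMap B K g * y := fun g hg => by
      obtain ⟨b, hb⟩ := (hPJ g).mp hg
      exact ⟨b, by_contra fun hbP => hcon g hg b hbP hb, hb⟩
    obtain ⟨g₀, hg₀P, hg₀⟩ : ∃ g₀ ∈ P, w i (algebraMap B K g₀) ≠ 0 := by
      obtain ⟨⟨a, b⟩, hab⟩ := IsLocalization.surj (nonZeroDivisors B) y
      have hb0 : w i (algebraMap B K b) ≠ 0 :=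
        (Valuation.ne_zero_iff _).mpr (IsFractionRing.to_map_ne_zero_of_mem_nonZeroDivisors b.2)
      refine ⟨b, lt_of_le_of_ne (le_one w hmem _ i) fun h => ?_, hb0⟩
      have h1 := congrArg (w i) hab
      rw [map_mul, h, mul_one] at h1
      exact absurd (h1 ▸ hi : 1 < w i (algebraMap B K a)) (not_lt.mpr (le_one w hmem a i))
    have hiter : ∀ n : ℕ, ∃ b ∈ P, algebraMap B K b = algebraMap B K g₀ * y ^ n := by
      intro n
      induction n with
      | zero => exact ⟨g₀, hg₀P, by simp⟩
      | succ n ih =>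
        obtain ⟨b, hb, hb'⟩ := ih
        obtain ⟨b', hb1, hb2⟩ := hclosed b hb
        exact ⟨b', hb1, by rw [hb2, hb', pow_succ, mul_assoc]⟩
    have hy0 : w i y ≠ 0 := (zero_lt_one.trans hi).ne'
    obtain ⟨b, -, hb⟩ := hiter ((-WithZero.log (w i (algebraMap B K g₀))).toNat + 1)
    have h := le_one w hmem b i
    rw [hb, map_mul, map_pow, ← WithZero.log_le_log (mul_ne_zero hg₀ (pow_ne_zero _ hy0)) one_ne_zero,
      WithZero.log_mul hg₀ (pow_ne_zero _ hy0), WithZero.log_pow, WithZero.log_one, nsmul_eq_mul] at h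
    have hypos : 0 < WithZero.log (w i y) := by
      rw [← WithZero.log_one, WithZero.log_lt_log one_ne_zero hy0]; exact hi
    push_cast at h
    nlinarith [Int.self_le_toNat (-WithZero.log (w i (algebraMap B K g₀)))]
  have hP1 : P.height = 1 := by
    have hg0 : g ≠ 0 := fun h => hu (by
      have : u = 0 := IsFractionRing.injective B K (by rw [hgu, h, map_zero, zero_mul])
      rw [this]; exact P.zero_mem)
    refine le_antisymm ?_ ?_
    · refine Ideal.height_le_iff.mpr fun q hq hqP => ?_
      rw [Nat.cast_one, Order.lt_one_iff, Ideal.height_eq_zero_iff, IsDomain.minimalPrimes_eq_singleton_bot,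
        Set.mem_singleton_iff]
      by_contra hq0
      have hgq : g ∉ q := fun hgq => by
        obtain ⟨h, hh, hhq⟩ := SetLike.exists_of_lt hqP
        obtain ⟨b, hb⟩ := (hPJ h).mp hh
        have : h * u = g * b := IsFractionRing.injective B K (by rw [map_mul, map_mul, hb, hgu]; ring)
        rcases hq.mem_or_mem (this ▸ q.mul_mem_right b hgq : h * u ∈ q) with h1 | h1
        · exact hhq h1
        · exact hu (hqP.le h1)
      have hui : w i (algebraMap B K u) = 1 :=
        le_antisymm (le_one w hmem u i) (not_lt.mp hu)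
      -- infinite descent
      have hdesc : ∀ a ∈ q, ∃ a' ∈ q, w i (algebraMap B K a) = w i (algebraMap B K g) * w i (algebraMap B K a') := by
        intro a ha
        obtain ⟨b, hb⟩ := (hPJ a).mp (hqP.le ha)
        have : a * u = g * b := IsFractionRing.injective B K (by rw [map_mul, map_mul, hb, hgu]; ring)
        refine ⟨b, (hq.mem_or_mem (this ▸ q.mul_mem_right u ha : g * b ∈ q)).resolve_left hgq, ?_⟩
        have h2 := congrArg (fun z => w i (algebraMap B K z)) this
        simpa [map_mul, hui] using h2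
      have hiter : ∀ (n : ℕ), ∀ a ∈ q, w i (algebraMap B K a) ≤ w i (algebraMap B K g) ^ n := by
        intro n
        induction n with
        | zero => intro a _; simpa using le_one w hmem a i
        | succ n ih =>
          intro a ha
          obtain ⟨a', ha', hw⟩ := hdesc a ha
          rw [hw, pow_succ']
          exact mul_le_mul_right (ih a' ha') _
      have hglt : w i (algebraMap B K g) < 1 := hg
      have hwa : ∀ a ∈ q, w i (algebraMap B K a) = 0 := by
        intro a ha
        by_contra hne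
        have hgne : w i (algebraMap B K g) ≠ 0 := fun h => by
          have := hiter 1 a ha
          rw [h, pow_one] at this
          exact hne (le_antisymm this zero_le)
        have h := hiter ((-WithZero.log (w i (algebraMap B K a))).toNat + 1) a ha
        rw [← WithZero.log_le_log hne (pow_ne_zero _ hgne), WithZero.log_pow, nsmul_eq_mul] at h
        have hneg' : WithZero.log (w i (algebraMap B K g)) < 0 := by
          rwa [← WithZero.log_one, WithZero.log_lt_log hgne one_ne_zero]
        push_cast at h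
        nlinarith [Int.self_le_toNat (-WithZero.log (w i (algebraMap B K a))),
          Int.natCast_nonneg (-WithZero.log (w i (algebraMap B K a))).toNat]
      obtain ⟨a, ha, ha0⟩ := Submodule.exists_mem_ne_zero_of_ne_bot hq0
      exact (Valuation.ne_zero_iff _).mpr
        (fun h => ha0 (IsFractionRing.injective B K (h.trans (map_zero _).symm))) (hwa a ha)
    · rw [Order.one_le_iff_pos, pos_iff_ne_zero, ne_eq, Ideal.height_eq_zero_iff,
        IsDomain.minimalPrimes_eq_singleton_bot, Set.mem_singleton_iff]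
      exact fun h => hg0 (Ideal.mem_bot.mp (h ▸ hg))
  obtain ⟨s, hs, b, hb⟩ := hx P hP hP1
  refine hs ((hPJ s).mpr ⟨c * b, ?_⟩)
  rw [map_mul, hb]; ring

end Family

end Groth.Calg6.Krull
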