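import Mathlib

/-! The second cohomology of the cosimplicial unit groups of Laurent polynomial rings vanishes. -/

set_option autoImplicit false
universe u

open AddMonoidAlgebra

namespace Groth.Calg6.Laurent

abbrev G (n : ℕ) := Fin n → ℤ

def dMap0 : G 2 →+ G 3 := AddMonoidHom.mk' (fun v => ![0, v 0, v 1]) fun a b => by
  ext i; fin_cases i <;> simp
def dMap1 : G 2 →+ G 3 := AddMonoidHom.mk' (fun v => ![v 0, v 0, v 1]) fun a b => by
  ext i; fin_cases i <;> simp
def dMap2 : G 2 →+ G 3 := AddMonoidHom.mk' (fun v => ![v 0, v 1, v 1]) fun a b => by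
  ext i; fin_cases i <;> simp
def dMap3 : G 2 →+ G 3 := AddMonoidHom.mk' (fun v => ![v 0, v 1, 0]) fun a b => by
  ext i; fin_cases i <;> simp
def eMap0 : G 1 →+ G 2 := AddMonoidHom.mk' (fun v => ![0, v 0]) fun a b => by
  ext i; fin_cases i <;> simp
def eMap1 : G 1 →+ G 2 := AddMonoidHom.mk' (fun v => ![v 0, v 0]) fun a b => by
  ext i; fin_cases i <;> simp
def eMap2 : G 1 →+ G 2 := AddMonoidHom.mk' (fun v => ![v 0, 0]) fun a b => by
  ext i; fin_cases i <;> simp

noncomputable section

variable {R : Type u} [CommRing R]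

abbrev M {m n : ℕ} (f : G m →+ G n) :
    (AddMonoidAlgebra R (G m))ˣ →* (AddMonoidAlgebra R (G n))ˣ :=
  Units.map (mapDomainRingHom R f).toMonoidHom

def cocycle : (AddMonoidAlgebra R (G 2))ˣ →* (AddMonoidAlgebra R (G 3))ˣ :=
  M dMap0 * (M dMap1)⁻¹ * M dMap2 * (M dMap3)⁻¹

def cobdry : (AddMonoidAlgebra R (G 1))ˣ →* (AddMonoidAlgebra R (G 2))ˣ :=
  M eMap0 * (M eMap1)⁻¹ * M eMap2

theorem M_M {l m n : ℕ} (f : G m →+ G n) (g : G l →+ G m) (x : (AddMonoidAlgebra R (G l))ˣ) :
    M f (M g x) = M (f.comp g) x := by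
  ext1
  simp [M]

theorem cocycle_cobdry (η : (AddMonoidAlgebra R (G 1))ˣ) : cocycle (cobdry η) = 1 := by
  simp only [cocycle, cobdry, MonoidHom.mul_apply, MonoidHom.inv_apply, map_mul, map_inv, M_M]
  have h1 : dMap1.comp eMap0 = dMap0.comp eMap0 := by ext v i; fin_cases i <;> rfl
  have h2 : dMap2.comp eMap0 = dMap0.comp eMap1 := by ext v i; fin_cases i <;> rfl
  have h3 : dMap3.comp eMap0 = dMap0.comp eMap2 := by ext v i; fin_cases i <;> rfl
  have h4 : dMap2.comp eMap1 = dMap1.comp eMap1 := by ext v i; fin_cases i <;> rfl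
  have h5 : dMap3.comp eMap1 = dMap1.comp eMap2 := by ext v i; fin_cases i <;> rfl
  have h6 : dMap3.comp eMap2 = dMap2.comp eMap2 := by ext v i; fin_cases i <;> rfl
  rw [h1, h2, h3, h4, h5, h6]
  simp only [mul_inv_rev, inv_inv]
  generalize M (dMap0.comp eMap0) η = a0, M (dMap0.comp eMap1) η = a1, M (dMap0.comp eMap2) η = a2,
    M (dMap1.comp eMap1) η = f, M (dMap1.comp eMap2) η = g, M (dMap2.comp eMap2) η = h
  apply Additive.ofMul.injective
  simp only [ofMul_mul, ofMul_inv, ofMul_one]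
  abel

theorem coeff_mapDomain {m n : ℕ} (f : G m →+ G n) (x : AddMonoidAlgebra R (G m)) (w : G n)
    (C : Prop) [Decidable C] (r : G m) (h : ∀ v, f v = w ↔ C ∧ v = r) :
    (mapDomainRingHom R f x).coeff w = if C then x.coeff r else 0 := by
  classical
  induction x using AddMonoidAlgebra.induction_linear with
  | zero => simp
  | add a b ha hb =>
    rw [map_add, coeff_add, Finsupp.add_apply, ha, hb]
    split <;> simp
  | single v c =>
    have h1 : mapDomainRingHom R f (single v c) = single (f v) c := by simp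
    rw [h1, coeff_single, Finsupp.single_apply, coeff_single, Finsupp.single_apply]
    by_cases hC : C <;> simp [h v, hC]

theorem coeff_d0 (x : AddMonoidAlgebra R (G 2)) (a b c : ℤ) :
    (mapDomainRingHom R dMap0 x).coeff ![a, b, c] = if a = 0 then x.coeff ![b, c] else 0 :=
  coeff_mapDomain _ x _ _ _ fun v => by
    simp only [dMap0, AddMonoidHom.mk'_apply, funext_iff, Fin.forall_fin_succ, Fin.forall_fin_zero_pi]
    simp [eq_comm]

theorem coeff_d1 (x : AddMonoidAlgebra R (G 2)) (a b c : ℤ) :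
    (mapDomainRingHom R dMap1 x).coeff ![a, b, c] = if a = b then x.coeff ![a, c] else 0 :=
  coeff_mapDomain _ x _ _ _ fun v => by
    simp only [dMap1, AddMonoidHom.mk'_apply, funext_iff, Fin.forall_fin_succ]
    simp
    omega

theorem coeff_d2 (x : AddMonoidAlgebra R (G 2)) (a b c : ℤ) :
    (mapDomainRingHom R dMap2 x).coeff ![a, b, c] = if b = c then x.coeff ![a, b] else 0 :=
  coeff_mapDomain _ x _ _ _ fun v => by
    simp only [dMap2, AddMonoidHom.mk'_apply, funext_iff, Fin.forall_fin_succ]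
    simp
    omega

theorem coeff_d3 (x : AddMonoidAlgebra R (G 2)) (a b c : ℤ) :
    (mapDomainRingHom R dMap3 x).coeff ![a, b, c] = if c = 0 then x.coeff ![a, b] else 0 :=
  coeff_mapDomain _ x _ _ _ fun v => by
    simp only [dMap3, AddMonoidHom.mk'_apply, funext_iff, Fin.forall_fin_succ]
    simp
    omega

theorem coeff_e0 (x : AddMonoidAlgebra R (G 1)) (a b : ℤ) :
    (mapDomainRingHom R eMap0 x).coeff ![a, b] = if a = 0 then x.coeff ![b] else 0 :=
  coeff_mapDomain _ x _ _ _ fun v => by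
    simp only [eMap0, AddMonoidHom.mk'_apply, funext_iff, Fin.forall_fin_succ]
    simp
    omega

theorem coeff_e1 (x : AddMonoidAlgebra R (G 1)) (a b : ℤ) :
    (mapDomainRingHom R eMap1 x).coeff ![a, b] = if a = b then x.coeff ![a] else 0 :=
  coeff_mapDomain _ x _ _ _ fun v => by
    simp only [eMap1, AddMonoidHom.mk'_apply, funext_iff, Fin.forall_fin_succ]
    simp
    omega

theorem coeff_e2 (x : AddMonoidAlgebra R (G 1)) (a b : ℤ) :
    (mapDomainRingHom R eMap2 x).coeff ![a, b] = if b = 0 then x.coeff ![a] else 0 :=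
  coeff_mapDomain _ x _ _ _ fun v => by
    simp only [eMap2, AddMonoidHom.mk'_apply, funext_iff, Fin.forall_fin_succ]
    simp
    omega

/-- The coefficients on the line `(y, 0)`. -/
def slice (x : AddMonoidAlgebra R (G 2)) : AddMonoidAlgebra R (G 1) :=
  .ofCoeff (x.coeff.comapDomain (fun v : G 1 => ![v 0, 0])
    (fun v _ w _ h => by ext i; fin_cases i; simpa using congr_fun h 0))

theorem coeff_slice (x : AddMonoidAlgebra R (G 2)) (a : ℤ) :
    (slice x).coeff ![a] = x.coeff ![a, 0] := rfl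

/-- Exactness of the additive complex. -/
theorem additive_exact (x : AddMonoidAlgebra R (G 2))
    (h : mapDomainRingHom R dMap0 x + mapDomainRingHom R dMap2 x =
      mapDomainRingHom R dMap1 x + mapDomainRingHom R dMap3 x) :
    x + mapDomainRingHom R eMap1 (slice x) =
      mapDomainRingHom R eMap0 (slice x) + mapDomainRingHom R eMap2 (slice x) := by
  have key : ∀ a b c : ℤ,
      (if a = 0 then x.coeff ![b, c] else 0) + (if b = c then x.coeff ![a, b] else 0) =
      (if a = b then x.coeff ![a, c] else 0) + (if c = 0 then x.coeff ![a, b] else 0) := by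
    intro a b c
    have := congrArg (fun y : AddMonoidAlgebra R (G 3) => y.coeff ![a, b, c]) h
    simpa only [coeff_add, Finsupp.add_apply, coeff_d0, coeff_d1, coeff_d2, coeff_d3] using this
  ext v
  obtain ⟨a, b, rfl⟩ : ∃ a b, v = ![a, b] := ⟨v 0, v 1, by ext i; fin_cases i <;> rfl⟩
  simp only [coeff_add, Finsupp.add_apply, coeff_e0, coeff_e1, coeff_e2, coeff_slice]
  rcases eq_or_ne b 0 with rfl | hb
  · rcases eq_or_ne a 0 with rfl | ha
    · simp
    · simp [ha]
  · rcases eq_or_ne a 0 with rfl | ha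
    · have := key 0 b 0
      simp [hb, hb.symm] at this
      simp [hb, hb.symm, this]
    · rcases eq_or_ne a b with rfl | hab
      · have := key a a 0
        simp [ha] at this
        simp [ha]
        linear_combination -this
      · have := key a a b
        simp [ha, hb, hab] at this
        simp [ha, hb, hab, this]

theorem mul_eq_zero_of_coeff_mem {m : ℕ} (I : Ideal R) (hI : ∀ p ∈ I, ∀ q ∈ I, p * q = 0)
    (x y : AddMonoidAlgebra R (G m)) (hx : ∀ v, x.coeff v ∈ I) (hy : ∀ v, y.coeff v ∈ I) :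
    x * y = 0 := by
  classical
  ext v
  rw [coeff_mul]
  simp only [coeff_zero, Finsupp.coe_zero, Pi.zero_apply]
  refine Finset.sum_eq_zero fun a _ => Finset.sum_eq_zero fun b _ => ?_
  simp [hI _ (hx a) _ (hy b)]

theorem coeff_mapDomain_mem {m n : ℕ} (f : G m →+ G n) (I : Ideal R) (x : AddMonoidAlgebra R (G m))
    (hx : ∀ v, x.coeff v ∈ I) (w : G n) : (mapDomainRingHom R f x).coeff w ∈ I := by
  classical
  have : x = x.coeff.sum single := (sum_coeff_single x).symm
  rw [this, Finsupp.sum, map_sum, coeff_sum, Finsupp.finsetSum_apply]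
  refine Ideal.sum_mem _ fun v _ => ?_
  have h1 : mapDomainRingHom R f (single v (x.coeff v)) = single (f v) (x.coeff v) := by simp
  rw [h1, coeff_single, Finsupp.single_apply]
  split
  · exact hx v
  · exact I.zero_mem

/-- A cocycle congruent to one modulo an ideal of square zero is a coboundary. -/
theorem step (I : Ideal R) (hI : ∀ p ∈ I, ∀ q ∈ I, p * q = 0) (ξ : (AddMonoidAlgebra R (G 2))ˣ)
    (hξ : cocycle ξ = 1) (h1 : ∀ v, ((ξ : AddMonoidAlgebra R (G 2)) - 1).coeff v ∈ I)
    (η : (AddMonoidAlgebra R (G 1))ˣ)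
    (hη : (η : AddMonoidAlgebra R (G 1)) = 1 + slice ((ξ : AddMonoidAlgebra R (G 2)) - 1)) :
    ξ = cobdry η := by
  set x : AddMonoidAlgebra R (G 2) := (ξ : AddMonoidAlgebra R (G 2)) - 1 with hxdef
  have hξ' : (ξ : AddMonoidAlgebra R (G 2)) = 1 + x := by rw [hxdef]; ring
  have hg : ∀ v, (slice x).coeff v ∈ I := fun v => h1 _
  have h : (M dMap0 ξ : AddMonoidAlgebra R (G 3)) * M dMap2 ξ = M dMap1 ξ * M dMap3 ξ := by
    rw [← Units.val_mul, ← Units.val_mul]
    congr 1
    rw [← mul_inv_eq_one, ← hξ]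
    simp only [cocycle, MonoidHom.mul_apply, MonoidHom.inv_apply, mul_inv_rev]
    simp [mul_comm, mul_left_comm, mul_assoc]
  have hz : ∀ (f g : G 2 →+ G 3), mapDomainRingHom R f x * mapDomainRingHom R g x = 0 := fun f g =>
    mul_eq_zero_of_coeff_mem I hI _ _ (coeff_mapDomain_mem f I x h1) (coeff_mapDomain_mem g I x h1)
  have hadd : mapDomainRingHom R dMap0 x + mapDomainRingHom R dMap2 x =
      mapDomainRingHom R dMap1 x + mapDomainRingHom R dMap3 x := by
    simp only [M, Units.coe_map, RingHom.toMonoidHom_eq_coe, MonoidHom.coe_coe, hξ', map_add,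
      map_one] at h
    linear_combination h - hz dMap0 dMap2 + hz dMap1 dMap3
  have hex := additive_exact x hadd
  have hmul : ξ * M eMap1 η = M eMap0 η * M eMap2 η := by
    ext1
    simp only [Units.val_mul, M, Units.coe_map, RingHom.toMonoidHom_eq_coe, MonoidHom.coe_coe,
      hη, hξ', map_add, map_one]
    have hz1 := mul_eq_zero_of_coeff_mem I hI x _ h1 (coeff_mapDomain_mem eMap1 I _ hg)
    have hz2 := mul_eq_zero_of_coeff_mem I hI _ _ (coeff_mapDomain_mem eMap0 I _ hg)
      (coeff_mapDomain_mem eMap2 I _ hg)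
    linear_combination hex + hz1 - hz2
  rw [cobdry, MonoidHom.mul_apply, MonoidHom.mul_apply, MonoidHom.inv_apply, mul_right_comm,
    ← hmul, mul_inv_cancel_right]

/-- Change of coefficient ring. -/
abbrev C {S : Type u} [CommRing S] (φ : R →+* S) (m : ℕ) :
    (AddMonoidAlgebra R (G m))ˣ →* (AddMonoidAlgebra S (G m))ˣ :=
  Units.map (mapRingHom (G m) φ).toMonoidHom

theorem C_M {S : Type u} [CommRing S] (φ : R →+* S) {m n : ℕ} (f : G m →+ G n)
    (x : (AddMonoidAlgebra R (G m))ˣ) : C φ n (M f x) = M f (C φ m x) := by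
  ext1
  exact RingHom.congr_fun (mapRingHom_comp_mapDomainRingHom φ f) (x : AddMonoidAlgebra R (G m))

theorem C_cocycle {S : Type u} [CommRing S] (φ : R →+* S) (x : (AddMonoidAlgebra R (G 2))ˣ) :
    C φ 3 (cocycle x) = cocycle (C φ 2 x) := by
  simp only [cocycle, MonoidHom.mul_apply, MonoidHom.inv_apply, map_mul, map_inv, C_M]

theorem C_cobdry {S : Type u} [CommRing S] (φ : R →+* S) (x : (AddMonoidAlgebra R (G 1))ˣ) :
    C φ 2 (cobdry x) = cobdry (C φ 1 x) := by
  simp only [cobdry, MonoidHom.mul_apply, MonoidHom.inv_apply, map_mul, map_inv, C_M]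

theorem isNilpotent_of_coeff {m : ℕ} (I : Ideal R) (hI : IsNilpotent I) (x : AddMonoidAlgebra R (G m))
    (hx : ∀ v, x.coeff v ∈ I) : IsNilpotent x := by
  classical
  rw [← sum_coeff_single x]
  refine isNilpotent_sum fun v _ => ?_
  obtain ⟨N, hN⟩ := hI
  refine ⟨N, ?_⟩
  rw [single_pow]
  have : x.coeff v ^ N = 0 := by
    have := Ideal.pow_mem_pow (hx v) N
    rwa [hN, Ideal.zero_eq_bot, Ideal.mem_bot] at this
  simp [this]

theorem exists_of_nilpotent (I : Ideal R) (N : ℕ) (hN : I ^ N = 0) :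
    ∀ (d k : ℕ) (ξ : (AddMonoidAlgebra R (G 2))ˣ), 1 ≤ k → N ≤ k + d → cocycle ξ = 1 →
      (∀ v, ((ξ : AddMonoidAlgebra R (G 2)) - 1).coeff v ∈ I ^ k) → ∃ η, ξ = cobdry η := by
  intro d
  induction d with
  | zero =>
    intro k ξ hk hNk _ h1
    refine ⟨1, ?_⟩
    rw [map_one]
    ext1
    have : (ξ : AddMonoidAlgebra R (G 2)) - 1 = 0 := by
      ext v
      have := Ideal.pow_le_pow_right (I := I) (show N ≤ k by omega) (h1 v)
      rw [hN, Ideal.zero_eq_bot, Ideal.mem_bot] at this
      simpa using this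
    simpa [sub_eq_zero] using this
  | succ d ih =>
    intro k ξ hk hNk hξ h1
    let g := slice ((ξ : AddMonoidAlgebra R (G 2)) - 1)
    have hnil : IsNilpotent (I ^ k) := ⟨N, by
      rw [← pow_mul, mul_comm, pow_mul, hN, zero_pow (by omega)]⟩
    have hgn : IsNilpotent g := isNilpotent_of_coeff (I ^ k) hnil g fun v => h1 _
    let η : (AddMonoidAlgebra R (G 1))ˣ := hgn.isUnit_one_add.unit
    let q := Ideal.Quotient.mk (I ^ (k + 1))
    have hstep : C q 2 ξ = cobdry (C q 1 η) := by
      refine step ((I ^ k).map q) ?_ _ (by rw [← C_cocycle, hξ, map_one]) ?_ _ ?_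
      · intro p hp p' hp'
        have h := Ideal.mul_mem_mul hp hp'
        rw [← Ideal.map_mul, ← pow_add] at h
        have h' := Ideal.map_mono (f := q) (Ideal.pow_le_pow_right (I := I) (show k + 1 ≤ k + k by omega)) h
        rwa [Ideal.map_quotient_self, Ideal.mem_bot] at h'
      · intro v
        have : ((C q 2 ξ : AddMonoidAlgebra (R ⧸ I ^ (k + 1)) (G 2)) - 1).coeff v =
            q (((ξ : AddMonoidAlgebra R (G 2)) - 1).coeff v) := by
          rw [← coeff_mapRingHom, map_sub, map_one]; rfl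
        rw [this]
        exact Ideal.mem_map_of_mem _ (h1 v)
      · have hη : (η : AddMonoidAlgebra R (G 1)) = 1 + g := rfl
        have : (C q 1 η : AddMonoidAlgebra (R ⧸ I ^ (k + 1)) (G 1)) = mapRingHom (G 1) q (1 + g) := by
          rw [← hη]; rfl
        rw [this, map_add, map_one]
        congr 1
        ext v
        rw [coeff_mapRingHom]
        change q ((((ξ : AddMonoidAlgebra R (G 2)) - 1)).coeff ![v 0, 0]) = _
        rw [← coeff_mapRingHom, map_sub, map_one]
        rfl
    obtain ⟨η', hη'⟩ := ih (k + 1) (ξ * (cobdry η)⁻¹) (by omega) (by omega)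
      (by rw [map_mul, map_inv, hξ, cocycle_cobdry, one_mul, inv_one]) (by
        intro v
        have h : C q 2 (ξ * (cobdry η)⁻¹) = 1 := by
          rw [map_mul, map_inv, C_cobdry, hstep, mul_inv_cancel]
        have h' := congrArg (fun u : (AddMonoidAlgebra (R ⧸ I ^ (k + 1)) (G 2))ˣ =>
          ((u : AddMonoidAlgebra (R ⧸ I ^ (k + 1)) (G 2)) - 1).coeff v) h
        rw [← Ideal.Quotient.eq_zero_iff_mem, ← coeff_mapRingHom, map_sub, map_one]
        simpa [C] using h')
    exact ⟨η' * η, by rw [map_mul, ← hη', inv_mul_cancel_right]⟩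

theorem eq_single_of_isUnit [IsDomain R] {m : ℕ} (f : (AddMonoidAlgebra R (G m))ˣ) :
    ∃ v c, c ≠ 0 ∧ (f : AddMonoidAlgebra R (G m)) = single v c := by
  classical
  have hf : (f : AddMonoidAlgebra R (G m)).coeff.support.Nonempty := by
    rw [Finsupp.support_nonempty_iff, ne_eq, coeff_eq_zero]
    exact f.ne_zero
  have hg : (↑f⁻¹ : AddMonoidAlgebra R (G m)).coeff.support.Nonempty := by
    rw [Finsupp.support_nonempty_iff, ne_eq, coeff_eq_zero]
    exact f⁻¹.ne_zero
  by_cases hcard : 1 < (f : AddMonoidAlgebra R (G m)).coeff.support.card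
  · exfalso
    have h1 := hg.card_pos
    obtain ⟨p, hp, q, hq, hpq, hup, huq⟩ := TwoUniqueSums.uniqueAdd_of_one_lt_card
      (show 1 < (f : AddMonoidAlgebra R (G m)).coeff.support.card *
        (↑f⁻¹ : AddMonoidAlgebra R (G m)).coeff.support.card from by nlinarith)
    have key : ∀ r ∈ (f : AddMonoidAlgebra R (G m)).coeff.support ×ˢ
        (↑f⁻¹ : AddMonoidAlgebra R (G m)).coeff.support,
        UniqueAdd (f : AddMonoidAlgebra R (G m)).coeff.support
          (↑f⁻¹ : AddMonoidAlgebra R (G m)).coeff.support r.1 r.2 → r.1 + r.2 = 0 := by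
      intro r hr hu
      by_contra hne
      have := coeff_mul_add_of_uniqueAdd hu
      rw [Units.mul_inv, one_def, coeff_single, Finsupp.single_apply, if_neg (Ne.symm hne)] at this
      rw [Finset.mem_product, Finsupp.mem_support_iff, Finsupp.mem_support_iff] at hr
      exact mul_ne_zero hr.1 hr.2 this.symm
    have h0 := key p hp hup
    have h0' := key q hq huq
    rw [Finset.mem_product] at hp hq
    have := hup hq.1 hq.2 (h0'.trans h0.symm)
    exact hpq (Prod.ext this.1.symm this.2.symm)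
  · obtain ⟨v, hv⟩ := Finset.card_eq_one.mp (show _ = 1 from
      le_antisymm (not_lt.mp hcard) hf.card_pos)
    have hc : (f : AddMonoidAlgebra R (G m)).coeff v ≠ 0 :=
      Finsupp.mem_support_iff.mp (hv ▸ Finset.mem_singleton_self v)
    refine ⟨v, _, hc, ?_⟩
    apply coeff_injective
    rw [coeff_single]
    exact (Finsupp.support_eq_singleton.mp hv).2

theorem exponent_eq_zero [IsDomain R] (f : (AddMonoidAlgebra R (G 2))ˣ) (hf : cocycle f = 1)
    (v : G 2) (c : R) (hc : c ≠ 0) (hv : (f : AddMonoidAlgebra R (G 2)) = single v c) : v = 0 := by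
  have h : M dMap0 f * M dMap2 f = M dMap1 f * M dMap3 f := by
    rw [← mul_inv_eq_one, ← hf]
    simp only [cocycle, MonoidHom.mul_apply, MonoidHom.inv_apply, mul_inv_rev]
    simp [mul_comm, mul_left_comm, mul_assoc]
  have h' := congrArg Units.val h
  simp only [Units.val_mul, M, Units.coe_map, RingHom.toMonoidHom_eq_coe, MonoidHom.coe_coe, hv,
    mapDomainRingHom_apply, mapDomain_single, single_mul_single] at h'
  rw [single_left_inj (mul_ne_zero hc hc)] at h'
  have e0 := congr_fun h' 0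
  have e2 := congr_fun h' 2
  simp [dMap0, dMap1, dMap2, dMap3] at e0 e2
  ext i
  fin_cases i
  · simpa using (by omega : v 0 = 0)
  · simpa using (by omega : v 1 = 0)

theorem exists_cobdry (ξ : (AddMonoidAlgebra R (G 2))ˣ) (hξ : cocycle ξ = 1) :
    ∃ η, ξ = cobdry η := by
  classical
  have hpr : ∀ P : Ideal R, P.IsPrime → (ξ : AddMonoidAlgebra R (G 2)).coeff 0 ∉ P ∧
      ∀ v, v ≠ 0 → (ξ : AddMonoidAlgebra R (G 2)).coeff v ∈ P := by
    intro P hP
    let q := Ideal.Quotient.mk P
    obtain ⟨v, c, hc, hv⟩ := eq_single_of_isUnit (C q 2 ξ)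
    have hv0 := exponent_eq_zero _ (by rw [← C_cocycle, hξ, map_one]) v c hc hv
    subst hv0
    have hco : ∀ w, q ((ξ : AddMonoidAlgebra R (G 2)).coeff w) = if 0 = w then c else 0 := fun w => by
      rw [← coeff_mapRingHom]
      have : mapRingHom (G 2) q (ξ : AddMonoidAlgebra R (G 2)) = single 0 c := hv
      rw [this, coeff_single, Finsupp.single_apply]
    refine ⟨fun h => hc ?_, fun w hw => ?_⟩
    · have := hco 0
      rw [if_pos rfl, Ideal.Quotient.eq_zero_iff_mem.mpr h] at this
      exact this.symm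
    · rw [← Ideal.Quotient.eq_zero_iff_mem]
      exact (hco w).trans (if_neg (Ne.symm hw))
  have hc : IsUnit ((ξ : AddMonoidAlgebra R (G 2)).coeff 0) := by
    by_contra h
    obtain ⟨P, hP, hmem⟩ := exists_max_ideal_of_mem_nonunits (mem_nonunits_iff.mpr h)
    exact (hpr P hP.isPrime).1 hmem
  let η₀ : (AddMonoidAlgebra R (G 1))ˣ :=
    Units.map (singleZeroRingHom : R →+* AddMonoidAlgebra R (G 1)).toMonoidHom hc.unit
  let ξ' := ξ * (cobdry η₀)⁻¹
  have hξ' : cocycle ξ' = 1 := by
    rw [map_mul, map_inv, hξ, cocycle_cobdry, one_mul, inv_one]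
  have hval : (ξ' : AddMonoidAlgebra R (G 2)) =
      (ξ : AddMonoidAlgebra R (G 2)) * single 0 (↑hc.unit⁻¹ : R) := by
    have hM : ∀ e : G 1 →+ G 2, M e η₀ =
        Units.map (singleZeroRingHom : R →+* AddMonoidAlgebra R (G 2)).toMonoidHom hc.unit := by
      intro e
      ext1
      simp [η₀, M]
    have h0 : cobdry η₀ =
        Units.map (singleZeroRingHom : R →+* AddMonoidAlgebra R (G 2)).toMonoidHom hc.unit := by
      rw [cobdry, MonoidHom.mul_apply, MonoidHom.mul_apply, MonoidHom.inv_apply, hM, hM, hM,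
        mul_inv_cancel, one_mul]
    simp only [ξ', h0, ← map_inv, Units.val_mul, Units.coe_map]
    rfl
  have hnil : ∀ v, ((ξ' : AddMonoidAlgebra R (G 2)) - 1).coeff v ∈ nilradical R := by
    intro v
    rw [coeff_sub, Finsupp.sub_apply, hval, coeff_mul_single_zero, one_def, coeff_single,
      Finsupp.single_apply]
    split_ifs with h
    · subst h
      rw [IsUnit.mul_val_inv, sub_self]
      exact zero_mem _
    · rw [sub_zero]
      refine Ideal.mul_mem_right _ _ ?_
      rw [nilradical_eq_sInf, Ideal.mem_sInf]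
      intro P hP
      exact (hpr P hP).2 v (Ne.symm h)
  let x := (ξ' : AddMonoidAlgebra R (G 2)) - 1
  let I : Ideal R := Ideal.span (x.coeff.support.image fun v => x.coeff v : Finset R)
  have hIle : I ≤ nilradical R := Ideal.span_le.mpr fun r hr => by
    obtain ⟨v, _, rfl⟩ := Finset.mem_image.mp (Finset.mem_coe.mp hr)
    exact hnil v
  obtain ⟨N, hN⟩ := (Ideal.FG.isNilpotent_iff_le_nilradical (I := I) ⟨_, rfl⟩).mpr hIle
  obtain ⟨η, hη⟩ := exists_of_nilpotent I N hN N 1 ξ' le_rfl (by omega) hξ' fun v => by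
    rw [pow_one]
    by_cases hv : x.coeff v = 0
    · change x.coeff v ∈ I
      rw [hv]; exact zero_mem _
    · exact Ideal.subset_span (Finset.mem_coe.mpr (Finset.mem_image.mpr
        ⟨v, Finsupp.mem_support_iff.mpr hv, rfl⟩))
  refine ⟨η * η₀, ?_⟩
  rw [map_mul, ← hη]
  simp [ξ']

end

end Groth.Calg6.Laurent
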