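import Groth.Agent.AdicLinTop.CompletionMap
import Groth.Agent.Calg1.Completion

/-! A finite module is the limit of its base changes to flat complete local algebras. -/

set_option autoImplicit false
universe u

open TensorProduct IsLocalRing

namespace Groth.Calg6.LimitFlat

variable (A : Type u) [CommRing A] [IsNoetherianRing A]

/-- Families indexed by complete flat local algebras. -/
abbrev Family (M : Type u) [AddCommGroup M] [Module A M] :=
  ∀ (B : Type u) [CommRing B] [Algebra A B] [IsNoetherianRing B] [IsLocalRing B],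
    IsAdicComplete (maximalIdeal B) B → Module.Flat A B → B ⊗[A] M

variable {A}

/-- Compatibility. -/
def IsCompat {M : Type u} [AddCommGroup M] [Module A M] (x : Family A M) : Prop :=
  ∀ (B : Type u) [CommRing B] [Algebra A B] [IsNoetherianRing B] [IsLocalRing B]
    (hB : IsAdicComplete (maximalIdeal B) B) (hBf : Module.Flat A B) (B' : Type u) [CommRing B']
    [Algebra A B'] [IsNoetherianRing B'] [IsLocalRing B'] (hB' : IsAdicComplete (maximalIdeal B') B')
    (hB'f : Module.Flat A B') (g : B →ₐ[A] B'),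
    LinearMap.rTensor M g.toLinearMap (x B hB hBf) = x B' hB' hB'f

/-- A family comes from a single element. -/
def IsConst {M : Type u} [AddCommGroup M] [Module A M] (x : Family A M) (m : M) : Prop :=
  ∀ (B : Type u) [CommRing B] [Algebra A B] [IsNoetherianRing B] [IsLocalRing B]
    (hB : IsAdicComplete (maximalIdeal B) B) (hBf : Module.Flat A B), x B hB hBf = (1 : B) ⊗ₜ[A] m

/-- The completion at a prime. -/
abbrev Bq (q : Ideal A) [q.IsPrime] :=
  AdicCompletion (maximalIdeal (Localization.AtPrime q)) (Localization.AtPrime q)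

theorem noetherian_Bq (q : Ideal A) [q.IsPrime] : IsNoetherianRing (Bq q) :=
  Groth.Calg1.isNoetherianRing_adicCompletion _ (IsNoetherian.noetherian _)

theorem complete_Bq (q : Ideal A) [q.IsPrime] : IsAdicComplete (maximalIdeal (Bq q)) (Bq q) :=
  AdicCompletion.isAdicComplete_of_fg (IsNoetherian.noetherian _)

theorem flat_Bq (q : Ideal A) [q.IsPrime] : Module.Flat A (Bq q) :=
  Module.Flat.trans A (Localization.AtPrime q) (Bq q)

theorem faithfullyFlat_completion (R : Type u) [CommRing R] [IsLocalRing R] [IsNoetherianRing R] :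
    Module.FaithfullyFlat R (AdicCompletion (maximalIdeal R) R) := by
  haveI : IsLocalHom (algebraMap R (AdicCompletion (maximalIdeal R) R)) := ⟨fun a ha => by
    by_contra hna
    have h1 : algebraMap R (AdicCompletion (maximalIdeal R) R) a ∈
        (maximalIdeal R).map (algebraMap R (AdicCompletion (maximalIdeal R) R)) :=
      Ideal.mem_map_of_mem _ hna
    rw [← AdicCompletion.maximalIdeal_eq_map] at h1
    exact h1 ha⟩
  exact Module.FaithfullyFlat.of_flat_of_isLocalHom

/-- The completion at the trace of the maximal ideal maps to a complete local algebra. -/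
theorem exists_hom (q : Ideal A) [q.IsPrime] (B : Type u) [CommRing B] [Algebra A B] [IsLocalRing B]
    [IsAdicComplete (maximalIdeal B) B] (hq : (maximalIdeal B).comap (algebraMap A B) = q) :
    Nonempty (Bq q →ₐ[A] B) := by
  have hunit : ∀ y : q.primeCompl, IsUnit (algebraMap A B y) := fun y => by
    by_contra h
    exact y.2 (hq.le (show (y : A) ∈ (maximalIdeal B).comap (algebraMap A B) from h))
  let g : Localization.AtPrime q →+* B := IsLocalization.lift hunit
  have hg : (maximalIdeal (Localization.AtPrime q)).map g ≤ maximalIdeal B := by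
    rw [← Localization.AtPrime.map_eq_maximalIdeal, Ideal.map_map, Ideal.map_le_iff_le_comap]
    intro a ha
    show g (algebraMap A (Localization.AtPrime q) a) ∈ maximalIdeal B
    rw [IsLocalization.lift_eq]
    exact hq.ge ha
  let φ : Bq q →+* B :=
    ((AdicCompletion.ofAlgEquiv (maximalIdeal B)).symm : AdicCompletion (maximalIdeal B) B →+* B).comp
      (FSch.complMap (maximalIdeal (Localization.AtPrime q)) (maximalIdeal B) g hg)
  refine ⟨⟨φ, fun a => ?_⟩⟩
  show φ (algebraMap A (Bq q) a) = algebraMap A B a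
  have h1 : algebraMap A (Bq q) a =
      algebraMap (Localization.AtPrime q) (Bq q) (algebraMap A (Localization.AtPrime q) a) :=
    IsScalarTower.algebraMap_apply A (Localization.AtPrime q) (Bq q) a
  rw [h1]
  show (AdicCompletion.ofAlgEquiv (maximalIdeal B)).symm
    (FSch.complMap (maximalIdeal (Localization.AtPrime q)) (maximalIdeal B) g hg _) = _
  rw [Groth.AdicLinTop.CompletionMap.complMap_algebraMap, AlgEquiv.commutes, IsLocalization.lift_eq]
  rfl

variable {M : Type u} [AddCommGroup M] [Module A M]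

theorem isConst_of_Bq (x : Family A M) (hx : IsCompat x) (m : M)
    (h : ∀ (q : Ideal A) [q.IsPrime],
      haveI := noetherian_Bq q
      x (Bq q) (complete_Bq q) (flat_Bq q) = (1 : Bq q) ⊗ₜ[A] m) :
    IsConst x m := by
  intro B _ _ _ _ hB hBf
  haveI := hB
  set q := (maximalIdeal B).comap (algebraMap A B)
  haveI := noetherian_Bq q
  obtain ⟨g⟩ := exists_hom q B rfl
  rw [← hx (Bq q) (complete_Bq q) (flat_Bq q) B hB hBf g, h q, LinearMap.rTensor_tmul]
  exact congrArg (· ⊗ₜ[A] m) (map_one g)

/-- An element is determined by its images. -/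
theorem eq_zero_of_forall (m : M)
    (h : ∀ (q : Ideal A) [q.IsPrime], (1 : Bq q) ⊗ₜ[A] m = 0) : m = 0 := by
  refine Module.eq_zero_of_localization_maximal (R := A) (fun (P : Ideal A) _ => LocalizedModule P.primeCompl M)
    (fun P _ => LocalizedModule.mkLinearMap P.primeCompl M) m fun q hq => ?_
  haveI := faithfullyFlat_completion (Localization.AtPrime q)
  have h2 : ((1 : Bq q) ⊗ₜ[Localization.AtPrime q] ((1 : Localization.AtPrime q) ⊗ₜ[A] m) :
      Bq q ⊗[Localization.AtPrime q] (Localization.AtPrime q ⊗[A] M)) = 0 := by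
    apply (TensorProduct.AlgebraTensorModule.cancelBaseChange A (Localization.AtPrime q)
      (Localization.AtPrime q) (Bq q) M).injective
    rw [map_zero, TensorProduct.AlgebraTensorModule.cancelBaseChange_tmul, one_smul]
    exact h q
  have h3 : (1 : Localization.AtPrime q) ⊗ₜ[A] m = 0 :=
    (Module.FaithfullyFlat.one_tmul_eq_zero_iff (Localization.AtPrime q) (Localization.AtPrime q ⊗[A] M) _).mp h2
  have h4 := IsBaseChange.equiv_tmul
    (IsLocalizedModule.isBaseChange q.primeCompl (Localization.AtPrime q)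
      (LocalizedModule.mkLinearMap q.primeCompl M)) 1 m
  rw [h3, map_zero, one_smul] at h4
  exact h4.symm

section Prime

variable (p : Ideal A) [p.IsPrime]

theorem tmul_eq_zero_iff (B : Type u) [CommRing B] [Algebra A B] (b : B) :
    b ⊗ₜ[A] (Ideal.Quotient.mk p 1) = (0 : B ⊗[A] (A ⧸ p)) ↔ b ∈ p.map (algebraMap A B) := by
  rw [← LinearEquiv.map_eq_zero_iff (TensorProduct.tensorQuotEquivQuotSMul B p)]
  rw [TensorProduct.tensorQuotEquivQuotSMul_tmul_mk, one_smul, Submodule.Quotient.mk_eq_zero,
    Ideal.smul_top_eq_map, Submodule.restrictScalars_mem]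

theorem exists_tmul (B : Type u) [CommRing B] [Algebra A B] (z : B ⊗[A] (A ⧸ p)) :
    ∃ b : B, z = b ⊗ₜ[A] (Ideal.Quotient.mk p 1) := by
  induction z using TensorProduct.induction_on with
  | zero => exact ⟨0, (TensorProduct.zero_tmul _ _).symm⟩
  | tmul b y =>
    obtain ⟨a, rfl⟩ := Ideal.Quotient.mk_surjective y
    refine ⟨a • b, ?_⟩
    rw [TensorProduct.smul_tmul]
    congr 1
    rw [Algebra.smul_def, Ideal.Quotient.algebraMap_eq, ← map_mul, mul_one]
  | add u v hu hv =>
    obtain ⟨b, rfl⟩ := hu
    obtain ⟨c, rfl⟩ := hv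
    exact ⟨b + c, (TensorProduct.add_tmul _ _ _).symm⟩

theorem mem_of_mul_mem (B : Type u) [CommRing B] [Algebra A B] [Module.Flat A B] {a : A} (ha : a ∉ p)
    {b : B} (h : algebraMap A B a * b ∈ p.map (algebraMap A B)) : b ∈ p.map (algebraMap A B) := by
  rw [← tmul_eq_zero_iff] at h ⊢
  have hinj : Function.Injective ((LinearMap.lsmul A (A ⧸ p) a).lTensor B) :=
    Module.Flat.lTensor_preserves_injective_linearMap _ fun u v huv =>
      mul_left_cancel₀ (fun h0 : Ideal.Quotient.mk p a = 0 => ha (Ideal.Quotient.eq_zero_iff_mem.mp h0))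
        (by simpa [Algebra.smul_def] using huv)
  refine hinj ?_
  rw [map_zero, LinearMap.lTensor_tmul, LinearMap.lsmul_apply, ← h, ← TensorProduct.smul_tmul,
    Algebra.smul_def]

theorem exists_residue (b : Bq p) :
    ∃ a s : A, s ∉ p ∧
      algebraMap A (Bq p) s * b - algebraMap A (Bq p) a ∈ p.map (algebraMap A (Bq p)) := by
  obtain ⟨r, hr⟩ := Ideal.Quotient.mk_surjective
    (AdicCompletion.evalOneₐ (maximalIdeal (Localization.AtPrime p)) b)
  obtain ⟨⟨a, s⟩, has⟩ := IsLocalization.surj p.primeCompl r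
  refine ⟨a, s, s.2, ?_⟩
  have hmap : p.map (algebraMap A (Bq p)) =
      (maximalIdeal (Localization.AtPrime p)).map (algebraMap (Localization.AtPrime p) (Bq p)) := by
    rw [IsScalarTower.algebraMap_eq A (Localization.AtPrime p) (Bq p), ← Ideal.map_map,
      Localization.AtPrime.map_eq_maximalIdeal]
  rw [hmap, ← AdicCompletion.maximalIdeal_eq_map, IsLocalRing.mem_maximalIdeal, mem_nonunits_iff,
    Groth.AdicLinTop.CompletionMap.isUnit_iff]
  have : AdicCompletion.evalOneₐ (maximalIdeal (Localization.AtPrime p))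
      (algebraMap A (Bq p) s * b - algebraMap A (Bq p) a) = 0 := by
    rw [map_sub, map_mul, ← hr, IsScalarTower.algebraMap_apply A (Localization.AtPrime p) (Bq p),
      IsScalarTower.algebraMap_apply A (Localization.AtPrime p) (Bq p) a,
      Groth.AdicLinTop.CompletionMap.evalOneₐ_algebraMap, Groth.AdicLinTop.CompletionMap.evalOneₐ_algebraMap,
      ← map_mul, ← map_sub, mul_comm, has, sub_self, map_zero]
  rw [this]
  exact not_isUnit_zero

theorem exists_isConst_prime (x : Family A (A ⧸ p)) (hx : IsCompat x) : ∃ m, IsConst x m := by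
  haveI := noetherian_Bq p
  obtain ⟨bp, hbp⟩ := exists_tmul p (Bq p) (x (Bq p) (complete_Bq p) (flat_Bq p))
  obtain ⟨a, s, hs, has⟩ := exists_residue p bp
  -- the relation holds at every prime
  have key : ∀ (q : Ideal A) [q.IsPrime] (bq : Bq q),
      haveI := noetherian_Bq q
      x (Bq q) (complete_Bq q) (flat_Bq q) = bq ⊗ₜ[A] (Ideal.Quotient.mk p 1) →
      algebraMap A (Bq q) s * bq - algebraMap A (Bq q) a ∈ p.map (algebraMap A (Bq q)) := by
    intro q _ bq hbq
    haveI := noetherian_Bq q
    haveI := flat_Bq q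
    set J := p.map (algebraMap A (Bq q))
    set z := algebraMap A (Bq q) s * bq - algebraMap A (Bq q) a
    by_contra hz
    obtain ⟨Q, hQ, hcol⟩ := exists_le_isAssociatedPrime_of_isNoetherianRing
      (R := Bq q) (M := Bq q ⧸ J) (Ideal.Quotient.mk J z)
      (fun h => hz (Ideal.Quotient.eq_zero_iff_mem.mp h))
    haveI := hQ.isPrime
    have hQp : Q.comap (algebraMap A (Bq q)) = p := by
      obtain ⟨hQ', y, hy⟩ := hQ
      ext c
      rw [Ideal.mem_comap, hy]
      refine ⟨fun ⟨k, hk⟩ => by_contra fun hc => hQ'.ne_top ?_, fun hc => ⟨1, ?_⟩⟩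
      · rw [hy, Ideal.eq_top_iff_one]
        refine ⟨1, ?_⟩
        obtain ⟨y, rfl⟩ := Ideal.Quotient.mk_surjective y
        rw [Submodule.mem_colon_singleton, Submodule.mem_bot, Algebra.smul_def, Ideal.Quotient.algebraMap_eq,
          ← map_mul, Ideal.Quotient.eq_zero_iff_mem, ← map_pow] at hk
        rw [pow_one, Submodule.mem_colon_singleton, one_smul, Submodule.mem_bot, Ideal.Quotient.eq_zero_iff_mem]
        exact mem_of_mul_mem p _ (fun h => hc (Ideal.IsPrime.mem_of_pow_mem inferInstance k h)) hk
      · rw [pow_one, Submodule.mem_colon_singleton, Submodule.mem_bot, Algebra.smul_def,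
          Ideal.Quotient.algebraMap_eq, Ideal.Quotient.eq_zero_iff_mem.mpr (Ideal.mem_map_of_mem _ hc), zero_mul]
    let R' := Localization.AtPrime Q
    haveI : IsNoetherianRing R' := IsLocalization.isNoetherianRing Q.primeCompl R' inferInstance
    let B' := AdicCompletion (maximalIdeal R') R'
    haveI : IsNoetherianRing B' := Groth.Calg1.isNoetherianRing_adicCompletion _ (IsNoetherian.noetherian _)
    have hB' : IsAdicComplete (maximalIdeal B') B' := AdicCompletion.isAdicComplete_of_fg (IsNoetherian.noetherian _)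
    haveI : Module.Flat A R' := Module.Flat.trans A (Bq q) R'
    haveI hB'f : Module.Flat A B' := Module.Flat.trans A R' B'
    haveI := hB'
    let g1 : Bq q →ₐ[A] B' := (IsScalarTower.toAlgHom A R' B').comp (IsScalarTower.toAlgHom A (Bq q) R')
    have hB'p : (maximalIdeal B').comap (algebraMap A B') = p := by
      haveI := faithfullyFlat_completion R'
      rw [AdicCompletion.maximalIdeal_eq_map, IsScalarTower.algebraMap_eq A R' B', ← Ideal.comap_comap,
        Ideal.comap_map_eq_self_of_faithfullyFlat, IsScalarTower.algebraMap_eq A (Bq q) R',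
        ← Ideal.comap_comap, show (maximalIdeal R').comap (algebraMap (Bq q) R') = Q from
          Ideal.ext fun w => IsLocalization.AtPrime.to_map_mem_maximal_iff R' Q w, hQp]
    obtain ⟨g2⟩ := exists_hom p B' hB'p
    have h1 := hx (Bq q) (complete_Bq q) (flat_Bq q) B' hB' hB'f g1
    have h2 := hx (Bq p) (complete_Bq p) (flat_Bq p) B' hB' hB'f g2
    rw [hbq, LinearMap.rTensor_tmul] at h1
    rw [hbp, LinearMap.rTensor_tmul] at h2
    have hdiff : g1 bq - g2 bp ∈ p.map (algebraMap A B') := by
      rw [← tmul_eq_zero_iff, TensorProduct.sub_tmul, sub_eq_zero]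
      exact h1.trans h2.symm
    have hg2 : algebraMap A B' s * g2 bp - algebraMap A B' a ∈ p.map (algebraMap A B') := by
      have hm : g2 (algebraMap A (Bq p) s * bp - algebraMap A (Bq p) a) ∈
          (p.map (algebraMap A (Bq p))).map g2.toRingHom := Ideal.mem_map_of_mem _ has
      rw [Ideal.map_map, show g2.toRingHom.comp (algebraMap A (Bq p)) = algebraMap A B' from g2.comp_algebraMap,
        map_sub, map_mul, AlgHom.commutes, AlgHom.commutes] at hm
      exact hm
    have hz' : g1 z ∈ J.map g1.toRingHom := by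
      rw [Ideal.map_map, show g1.toRingHom.comp (algebraMap A (Bq q)) = algebraMap A B' from g1.comp_algebraMap]
      have : g1 z = algebraMap A B' s * (g1 bq - g2 bp) + (algebraMap A B' s * g2 bp - algebraMap A B' a) := by
        show g1 (algebraMap A (Bq q) s * bq - algebraMap A (Bq q) a) = _
        rw [map_sub, map_mul, AlgHom.commutes, AlgHom.commutes, mul_sub, sub_add_sub_cancel]
      rw [this]
      exact Ideal.add_mem _ (Ideal.mul_mem_left _ _ hdiff) hg2
    haveI := faithfullyFlat_completion R'
    have hz'' : algebraMap (Bq q) R' z ∈ J.map (algebraMap (Bq q) R') := by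
      rw [← Ideal.comap_map_eq_self_of_faithfullyFlat (B := B') (J.map (algebraMap (Bq q) R')), Ideal.mem_comap,
        Ideal.map_map]
      exact hz'
    obtain ⟨⟨⟨j, hj⟩, t⟩, ht⟩ := (IsLocalization.mem_map_algebraMap_iff Q.primeCompl R').mp hz''
    rw [← map_mul, IsLocalization.eq_iff_exists Q.primeCompl] at ht
    obtain ⟨c, hc⟩ := ht
    refine (c * t).2 (hcol ?_)
    rw [Submodule.mem_colon_singleton, Submodule.mem_bot, Algebra.smul_def, Ideal.Quotient.algebraMap_eq,
      ← map_mul, Ideal.Quotient.eq_zero_iff_mem, Submonoid.coe_mul]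
    have : (c : Bq q) * t * z = c * j := by rw [← hc]; ring
    rw [this]
    exact J.mul_mem_left _ hj
  -- the denominator divides the numerator
  have hmem : a ∈ p ⊔ Ideal.span {s} := by
    by_contra hna
    obtain ⟨q, hq, hle⟩ := ((p ⊔ Ideal.span {s}).colon {a}).exists_le_maximal (fun h => hna (by
      have := (Submodule.mem_colon_singleton).mp (show (1 : A) ∈ (p ⊔ Ideal.span {s}).colon {a} by rw [h]; trivial)
      rwa [one_smul] at this))
    haveI := hq
    haveI := noetherian_Bq q
    obtain ⟨bq, hbq⟩ := exists_tmul p (Bq q) (x (Bq q) (complete_Bq q) (flat_Bq q))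
    have h1 := key q bq hbq
    haveI := faithfullyFlat_completion (Localization.AtPrime q)
    have h2 : algebraMap A (Localization.AtPrime q) a ∈ (p ⊔ Ideal.span {s}).map (algebraMap A (Localization.AtPrime q)) := by
      rw [← Ideal.comap_map_eq_self_of_faithfullyFlat (B := Bq q)
        ((p ⊔ Ideal.span {s}).map (algebraMap A (Localization.AtPrime q))), Ideal.mem_comap, Ideal.map_map,
        ← IsScalarTower.algebraMap_eq A (Localization.AtPrime q) (Bq q),
        ← IsScalarTower.algebraMap_apply A (Localization.AtPrime q) (Bq q)]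
      have h3 : algebraMap A (Bq q) s * bq ∈ (p ⊔ Ideal.span {s}).map (algebraMap A (Bq q)) :=
        Ideal.mul_mem_right _ _ (Ideal.mem_map_of_mem _ (Ideal.mem_sup_right (Ideal.mem_span_singleton_self s)))
      have := Ideal.sub_mem _ h3 (Ideal.map_mono (le_sup_left : p ≤ p ⊔ Ideal.span {s}) h1)
      rwa [sub_sub_cancel] at this
    obtain ⟨⟨⟨j, hj⟩, t⟩, ht⟩ := (IsLocalization.mem_map_algebraMap_iff q.primeCompl _).mp h2
    rw [← map_mul, IsLocalization.eq_iff_exists q.primeCompl] at ht
    obtain ⟨c, hc⟩ := ht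
    refine (c * t).2 (hle ?_)
    rw [Submodule.mem_colon_singleton, smul_eq_mul, Submonoid.coe_mul,
      show (c : A) * t * a = c * j by rw [← hc]; ring]
    exact Ideal.mul_mem_left _ _ hj
  obtain ⟨π, hπ, w, hw, rfl⟩ := Submodule.mem_sup.mp hmem
  obtain ⟨m, rfl⟩ := Ideal.mem_span_singleton'.mp hw
  refine ⟨Ideal.Quotient.mk p m, isConst_of_Bq x hx _ fun q _ => ?_⟩
  haveI := noetherian_Bq q
  haveI := flat_Bq q
  obtain ⟨bq, hbq⟩ := exists_tmul p (Bq q) (x (Bq q) (complete_Bq q) (flat_Bq q))
  have hm : (1 : Bq q) ⊗ₜ[A] Ideal.Quotient.mk p m = algebraMap A (Bq q) m ⊗ₜ[A] Ideal.Quotient.mk p 1 := by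
    rw [Algebra.algebraMap_eq_smul_one, TensorProduct.smul_tmul, Algebra.smul_def, Ideal.Quotient.algebraMap_eq,
      ← map_mul, mul_one]
  rw [hbq, hm, ← sub_eq_zero, ← TensorProduct.sub_tmul, tmul_eq_zero_iff]
  refine mem_of_mul_mem p _ hs ?_
  have := Ideal.add_mem _ (key q bq hbq) (Ideal.mem_map_of_mem (algebraMap A (Bq q)) hπ)
  convert this using 1
  rw [map_add, map_mul]; ring

end Prime

/-- Every compatible family comes from an element. -/
theorem exists_isConst [Module.Finite A M] : ∀ x : Family A M, IsCompat x → ∃ m, IsConst x m := by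
  refine IsNoetherianRing.induction_on_isQuotientEquivQuotientPrime (A := A) (M := M) inferInstance
    (motive := fun N _ _ _ => ∀ x : Family A N, IsCompat x → ∃ m, IsConst x m) ?_ ?_ ?_
  · intro N _ _ _ _ x _
    exact ⟨0, fun B _ _ _ _ _ _ => Subsingleton.elim _ _⟩
  · intro N _ _ _ p e x hx
    let y : Family A (A ⧸ p.1) := fun B _ _ _ _ hB hBf => e.toLinearMap.lTensor B (x B hB hBf)
    have hy : IsCompat y := by
      intro B _ _ _ _ hB hBf B' _ _ _ _ hB' hB'f g
      show g.toLinearMap.rTensor _ (e.toLinearMap.lTensor B _) = e.toLinearMap.lTensor B' _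
      rw [← hx B hB hBf B' hB' hB'f g, ← LinearMap.comp_apply, LinearMap.rTensor_comp_lTensor,
        ← LinearMap.lTensor_comp_rTensor, LinearMap.comp_apply]
    obtain ⟨m, hm⟩ := exists_isConst_prime p.1 y hy
    refine ⟨e.symm m, fun B _ _ _ _ hB hBf => ?_⟩
    apply (e.lTensor B).injective
    show e.toLinearMap.lTensor B _ = e.toLinearMap.lTensor B _
    rw [show e.toLinearMap.lTensor B (x B hB hBf) = _ from hm B hB hBf, LinearMap.lTensor_tmul,
      LinearEquiv.coe_coe, e.apply_symm_apply]
  · intro N₁ _ _ _ N₂ _ _ _ N₃ _ _ _ f g hf hg hfg h1 h3 x hx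
    let y : Family A N₃ := fun B _ _ _ _ hB hBf => g.lTensor B (x B hB hBf)
    have hy : IsCompat y := by
      intro B _ _ _ _ hB hBf B' _ _ _ _ hB' hB'f φ
      show φ.toLinearMap.rTensor _ (g.lTensor B _) = g.lTensor B' _
      rw [← hx B hB hBf B' hB' hB'f φ, ← LinearMap.comp_apply, LinearMap.rTensor_comp_lTensor,
        ← LinearMap.lTensor_comp_rTensor, LinearMap.comp_apply]
    obtain ⟨n, hn⟩ := h3 y hy
    obtain ⟨m, rfl⟩ := hg n
    have hker : ∀ (B : Type u) [CommRing B] [Algebra A B] [IsNoetherianRing B] [IsLocalRing B]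
        (hB : IsAdicComplete (maximalIdeal B) B) (hBf : Module.Flat A B),
        ∃ z, f.lTensor B z = x B hB hBf - (1 : B) ⊗ₜ[A] m := by
      intro B _ _ _ _ hB hBf
      refine (lTensor_exact B hfg hg _).mp ?_
      rw [map_sub, LinearMap.lTensor_tmul, sub_eq_zero]
      exact hn B hB hBf
    choose z hz using hker
    have hzc : IsCompat (fun B _ _ _ _ hB hBf => z B hB hBf : Family A N₁) := by
      intro B _ _ _ _ hB hBf B' _ _ _ _ hB' hB'f φ
      haveI := hB'f
      refine Module.Flat.lTensor_preserves_injective_linearMap (M := B') f hf ?_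
      rw [hz, ← LinearMap.comp_apply, LinearMap.lTensor_comp_rTensor, ← LinearMap.rTensor_comp_lTensor,
        LinearMap.comp_apply, hz, map_sub, hx B hB hBf B' hB' hB'f φ, LinearMap.rTensor_tmul]
      simp
    obtain ⟨m', hm'⟩ := h1 _ hzc
    refine ⟨f m' + m, fun B _ _ _ _ hB hBf => ?_⟩
    have := hz B hB hBf
    rw [show z B hB hBf = (1 : B) ⊗ₜ[A] m' from hm' B hB hBf, LinearMap.lTensor_tmul, eq_sub_iff_add_eq, ← TensorProduct.tmul_add] at this
    exact this.symm

end Groth.Calg6.LimitFlat
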