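import Mathlib
import Groth.Agent.FlatmorThree.GenericSmooth
import Groth.Agent.S9408
import Groth.Agent.Ega4Algebra1.RegularLocal
import Groth.Agent.LocCohBase.Depth

/-!
# A local Bertini theorem over an infinite perfect field

For a reduced local ring `A` essentially of finite type over an infinite perfect field there is a
regular element `t` such that `A/tA` is reduced on the punctured spectrum: take `t = w + c • u`,
where `u Dw - w Du` is a non-zero-divisor for some derivation `D`.
-/

set_option autoImplicit false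
universe u

open IsLocalRing

namespace Groth.Calg6.LocalBertini

section General

variable {A : Type u} [CommRing A] [IsNoetherianRing A]

/-- If `x, y` are regular and `y` lies in an associated prime of `A/x`, this prime is associated
to `A/y`. -/
theorem ass_transfer {x y : A} (hx : IsSMulRegular A x) (hy : IsSMulRegular A y) {q : Ideal A}
    (hq : q ∈ associatedPrimes A (A ⧸ Ideal.span {x})) (hyq : y ∈ q) :
    q ∈ associatedPrimes A (A ⧸ Ideal.span {y}) := by
  obtain ⟨hqp, a, ha⟩ := isAssociatedPrime_iff.mp hq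
  obtain ⟨a, rfl⟩ := Ideal.Quotient.mk_surjective a
  have hmem : ∀ z, z ∈ q ↔ z * a ∈ Ideal.span {x} := fun z => by
    rw [ha, Submodule.mem_colon_singleton, Submodule.mem_bot, Algebra.smul_def,
      Ideal.Quotient.algebraMap_eq, ← map_mul, Ideal.Quotient.eq_zero_iff_mem]
  obtain ⟨b, hb⟩ := Ideal.mem_span_singleton'.mp ((hmem y).mp hyq)
  refine isAssociatedPrime_iff.mpr ⟨hqp, Ideal.Quotient.mk _ b, ?_⟩
  ext z
  rw [hmem, Submodule.mem_colon_singleton, Submodule.mem_bot, Algebra.smul_def,
    Ideal.Quotient.algebraMap_eq, ← map_mul, Ideal.Quotient.eq_zero_iff_mem,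
    Ideal.mem_span_singleton', Ideal.mem_span_singleton']
  constructor
  · rintro ⟨c, hc⟩
    refine ⟨c, hx ?_⟩
    simp only [smul_eq_mul]
    linear_combination y * hc - z * hb
  · rintro ⟨c, hc⟩
    refine ⟨c, hy ?_⟩
    simp only [smul_eq_mul]
    linear_combination x * hc + z * hb

/-- A ring is reduced modulo `t` at a prime as soon as it is so at the associated primes below. -/
theorem exists_smul_mem_of_ass (t : A) (q : Ideal A) [q.IsPrime]
    (h : ∀ q' ∈ associatedPrimes A (A ⧸ Ideal.span {t}), q' ≤ q →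
      ∀ x n, x ^ n ∈ Ideal.span {t} → ∃ s ∉ q', s * x ∈ Ideal.span {t})
    (x : A) (n : ℕ) (hx : x ^ n ∈ Ideal.span {t}) : ∃ s ∉ q, s * x ∈ Ideal.span {t} := by
  by_contra hno
  let J : Ideal A := (Ideal.span {t} : Ideal A).colon {x}
  have hJq : J ≤ q := fun s hs => by_contra fun hsq => hno ⟨s, hsq, Submodule.mem_colon_singleton.mp hs⟩
  obtain ⟨q', hq', hq'q⟩ := Ideal.exists_minimalPrimes_le hJq
  let μ : A ⧸ J →ₗ[A] A ⧸ (Ideal.span {t} : Ideal A) :=
    Submodule.mapQ J (Ideal.span {t}) (LinearMap.toSpanSingleton A A x)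
      fun c hc => Submodule.mem_colon_singleton.mp hc
  have hμ : Function.Injective μ := by
    rw [← LinearMap.ker_eq_bot, LinearMap.ker_eq_bot']
    intro c hc
    obtain ⟨c, rfl⟩ := Submodule.Quotient.mk_surjective _ c
    rw [Submodule.mapQ_apply, Submodule.Quotient.mk_eq_zero] at hc
    exact (Submodule.Quotient.mk_eq_zero _).mpr (Submodule.mem_colon_singleton.mpr hc)
  have hq'J : q' ∈ associatedPrimes A (A ⧸ J) := by
    refine Module.associatedPrimes.minimalPrimes_annihilator_subset_associatedPrimes A (A ⧸ J) ?_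
    rwa [Ideal.annihilator_quotient]
  obtain ⟨s, hs, hsx⟩ := h q' (associatedPrimes.subset_of_injective hμ hq'J) hq'q x n hx
  exact hs (hq'.1.2 (Submodule.mem_colon_singleton.mpr hsx))

end General

/-- Avoiding finitely many subspaces. -/
theorem exists_forall_notMem {k V : Type u} [Field k] [Infinite k] [AddCommGroup V] [Module k V]
    (S : Set (Submodule k V)) (hS : S.Finite) (h : ∀ W ∈ S, W ≠ ⊤) : ∃ v : V, ∀ W ∈ S, v ∉ W := by
  classical
  have hne := Subspace.biUnion_ne_univ_of_top_notMem (s := hS.toFinset)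
    fun ht => h ⊤ (hS.mem_toFinset.mp ht) rfl
  by_contra! hall
  refine hne (Set.eq_univ_of_forall fun v => ?_)
  obtain ⟨W, hW, hvW⟩ := hall v
  exact Set.mem_biUnion (hS.mem_toFinset.mpr hW) hvW

/-- A vector of a projective module whose values under all linear forms lie in `q` lies in `q M`. -/
theorem mem_smul_top_of_forall {R M : Type u} [CommRing R] [AddCommGroup M] [Module R M]
    [Module.Projective R M] (q : Ideal R) (y : M) (h : ∀ f : M →ₗ[R] R, f y ∈ q) :
    y ∈ q • (⊤ : Submodule R M) := by
  obtain ⟨s, hs⟩ := Module.projective_def'.mp (inferInstance : Module.Projective R M)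
  rw [← show Finsupp.linearCombination R id (s y) = y from LinearMap.congr_fun hs y,
    Finsupp.linearCombination_apply]
  exact Submodule.sum_mem _ fun i _ =>
    Submodule.smul_mem_smul (h ((Finsupp.lapply i).comp s)) Submodule.mem_top

/-- If every derivation of the smooth algebra `R` has values in `q`, the residue field at the minimal
prime `q` is finite over `k`. -/
theorem finite_of_forall_derivation_mem {k R K : Type u} [Field k] [CommRing R] [Algebra k R]
    [Algebra.FiniteType k R] [Algebra.Smooth k R] [Field K] [Algebra R K] [Algebra k K]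
    [IsScalarTower k R K] (q : Ideal R) [q.IsPrime] [IsLocalization.AtPrime K q]
    (h : ∀ (D : Derivation k R R) (x : R), D x ∈ q) : Module.Finite k K := by
  have hqK : ∀ r ∈ q, algebraMap R K r = 0 := fun r hr => by
    by_contra hne
    exact (IsLocalization.AtPrime.isUnit_to_map_iff K q r).mp (isUnit_iff_ne_zero.mpr hne) hr
  have hzero : ∀ y : Ω[R⁄k], KaehlerDifferential.map k k R K y = 0 := by
    intro y
    have hy : y ∈ q • (⊤ : Submodule R (Ω[R⁄k])) := by
      refine mem_smul_top_of_forall q y fun f => ?_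
      have : y ∈ Submodule.span R (Set.range (KaehlerDifferential.D k R)) := by
        rw [KaehlerDifferential.span_range_derivation]; trivial
      induction this using Submodule.span_induction with
      | mem z hz =>
        obtain ⟨x, rfl⟩ := hz
        exact h (f.compDer (KaehlerDifferential.D k R)) x
      | zero => rw [map_zero]; exact zero_mem _
      | add a b _ _ ha hb => rw [map_add]; exact add_mem ha hb
      | smul a b _ hb => rw [map_smul]; exact q.mul_mem_left a hb
    induction hy using Submodule.smul_induction_on' with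
    | smul r hr z _ => rw [map_smul, ← algebraMap_smul K r, hqK r hr, zero_smul]
    | add a _ b _ ha hb => rw [map_add, ha, hb, add_zero]
  haveI : Subsingleton (Ω[K⁄k]) := by
    refine subsingleton_of_forall_eq 0 fun z => ?_
    obtain ⟨⟨y, s⟩, hys⟩ := IsLocalizedModule.surj q.primeCompl (KaehlerDifferential.map k k R K) z
    rw [hzero, Submonoid.smul_def, ← algebraMap_smul K (s : R), smul_eq_zero] at hys
    exact hys.resolve_left (IsLocalization.map_units K s).ne_zero
  haveI : Algebra.FormallyUnramified k K := ⟨inferInstance⟩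
  haveI : Algebra.EssFiniteType R K := Algebra.EssFiniteType.of_isLocalization K q.primeCompl
  haveI : Algebra.EssFiniteType k K := Algebra.EssFiniteType.comp k R K
  exact Algebra.FormallyUnramified.finite_of_free k K

section Main

variable {k : Type u} [Field k] [PerfectField k] [Infinite k] {P : Type u} [CommRing P] [Algebra k P]
  [Algebra.FiniteType k P] (p : Ideal P) [p.IsPrime]
  {A : Type u} [CommRing A] [Algebra P A] [IsLocalization.AtPrime A p] [IsLocalRing A]
  [IsReduced A] [IsNoetherianRing A]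

include k p in
theorem exists_core (hinj : Function.Injective (algebraMap P A))
    (hm : maximalIdeal A ∉ minimalPrimes A) :
    ∃ t ∈ maximalIdeal A, IsSMulRegular A t ∧
      ∀ (q : Ideal A) [q.IsPrime], q ≠ maximalIdeal A → ∀ x n, x ^ n ∈ Ideal.span {t} →
        ∃ s ∉ q, s * x ∈ Ideal.span {t} := by
  classical
  haveI : IsReduced P := isReduced_of_injective (algebraMap P A) hinj
  haveI : IsNoetherianRing P := Algebra.FiniteType.isNoetherianRing k P
  obtain ⟨b, hb, hsmooth⟩ := Groth.FlatmorThree.GenericSmooth.exists_smooth_away (P := k) (B := P)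
  let R := Localization.Away b
  haveI : IsRegularRing R := Groth.Agent.S9408.isRegularRing_of_smooth k R
  have hpmem : ∀ x : P, algebraMap P A x ∈ maximalIdeal A ↔ x ∈ p := fun x =>
    IsLocalization.AtPrime.to_map_mem_maximal_iff A p x
  have hminP : ∀ q ∈ minimalPrimes A, q.comap (algebraMap P A) ∈ minimalPrimes P := by
    intro q hq
    have := IsLocalization.minimalPrimes_comap p.primeCompl A (⊥ : Ideal A)
    rw [← RingHom.ker_eq_comap_bot, (RingHom.injective_iff_ker_eq_bot _).mp hinj] at this
    exact this.ge ⟨q, hq, rfl⟩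
  have hreg : ∀ x : A, (∀ q ∈ minimalPrimes A, x ∉ q) → IsSMulRegular A x := by
    intro x hx a a' haa
    rw [← sub_eq_zero]
    have h0 : a - a' ∈ nilradical A := by
      rw [nilradical, ← Ideal.sInf_minimalPrimes, Submodule.mem_sInf]
      intro q hq
      refine (hq.1.1.mem_or_mem (x := x) (y := a - a') ?_).resolve_left (hx q hq)
      rw [show x * (a - a') = 0 by
        simp only [smul_eq_mul] at haa; linear_combination haa]
      exact zero_mem _
    rw [nilradical_eq_zero] at h0
    exact Ideal.mem_bot.mp h0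
  have hfinmin : (minimalPrimes A).Finite := minimalPrimes.finite_of_isNoetherianRing A
  -- traces of primes on `p` as subspaces
  let tr : Ideal A → Submodule k p := fun q =>
    ((q.comap (algebraMap P A)).restrictScalars k).comap (p.subtype.restrictScalars k)
  have htr : ∀ q : Ideal A, q.IsPrime → q ≠ maximalIdeal A → tr q ≠ ⊤ := by
    intro q hq hne htop
    refine hne (le_antisymm (le_maximalIdeal hq.ne_top) ?_)
    rw [← IsLocalization.AtPrime.map_eq_maximalIdeal p A, Ideal.map_le_iff_le_comap]
    intro x hx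
    exact (htop.ge (Submodule.mem_top (x := (⟨x, hx⟩ : p))) : _)
  have hmin_ne : ∀ q ∈ minimalPrimes A, q ≠ maximalIdeal A := fun q hq h => hm (h ▸ hq)
  -- the choice of `u`
  obtain ⟨u, hu⟩ := exists_forall_notMem (k := k) (tr '' minimalPrimes A) (hfinmin.image _) (by
    rintro _ ⟨q, hq, rfl⟩
    exact htr q hq.1.1 (hmin_ne q hq))
  have hu' : ∀ q ∈ minimalPrimes A, algebraMap P A u ∉ q := fun q hq h => hu _ ⟨q, hq, rfl⟩ h
  -- the primes of `R`
  let qR : Ideal A → Ideal R := fun q => (q.comap (algebraMap P A)).map (algebraMap P R)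
  have hqR : ∀ q : Ideal A, q.IsPrime → algebraMap P A b ∉ q →
      (qR q).IsPrime ∧ (qR q).comap (algebraMap P R) = q.comap (algebraMap P A) := by
    intro q hq hbq
    have hdisj : Disjoint (Submonoid.powers b : Set P) (q.comap (algebraMap P A) : Set P) := by
      rw [Set.disjoint_left]
      rintro _ ⟨n, rfl⟩ h
      exact hbq (hq.mem_of_pow_mem n (by simpa using h))
    exact ⟨IsLocalization.isPrime_of_isPrime_disjoint (Submonoid.powers b) R _ inferInstance hdisj,
      IsLocalization.comap_map_of_isPrime_disjoint (Submonoid.powers b) R (I := q.comap (algebraMap P A))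
        inferInstance hdisj⟩
  have hb' : ∀ q ∈ minimalPrimes A, algebraMap P A b ∉ q := fun q hq => hb _ (hminP q hq)
  let ι := algebraMap P R
  -- the subspaces where all derivations degenerate
  let V : Ideal A → Submodule k p := fun q =>
    { carrier := {w | ∀ D : Derivation k R R, ι u * D (ι w) - ι w * D (ι u) ∈ qR q}
      zero_mem' := fun D => by simp [ι]
      add_mem' := fun {a c} ha hc D => by
        have := add_mem (ha D) (hc D)
        simp only [Submodule.coe_add, map_add, ι] at this ⊢
        convert this using 1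
        ring
      smul_mem' := fun c a ha D => by
        have h1 : ι ((c • a : p) : P) = c • ι (a : P) := by
          simp only [ι, SetLike.val_smul_of_tower]
          exact map_smul (IsScalarTower.toAlgHom k P R) c _
        simp only [h1, Derivation.map_smul, mul_smul_comm, smul_mul_assoc, ← smul_sub]
        exact Submodule.smul_of_tower_mem _ c (ha D) }
  have hV : ∀ q ∈ minimalPrimes A, V q ≠ ⊤ := by
    intro q hq htop
    haveI := hq.1.1
    obtain ⟨hQp, hQc⟩ := hqR q inferInstance (hb' q hq)
    set Q := qR q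
    set q₁ := q.comap (algebraMap P A)
    haveI := hQp
    have hall : ∀ (w : p) (D : Derivation k R R), ι u * D (ι w) - ι w * D (ι u) ∈ Q := fun w D =>
      htop.ge (Submodule.mem_top (x := w)) D
    have hmemQ : ∀ x : P, ι x ∈ Q ↔ x ∈ q₁ := fun x => by rw [← hQc, Ideal.mem_comap]
    have huQ : ι (u : P) ∉ Q := fun h => hu' q hq ((hmemQ _).mp h)
    have hDP : ∀ (a : P) (D : Derivation k R R), D (ι a) ∈ Q := by
      intro a D
      have h1 := hall u D
      have h2 := hall ⟨a * u, p.mul_mem_left a u.2⟩ D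
      simp only [map_mul, Derivation.leibniz, smul_eq_mul, ι] at h2
      have : ι u * ι u * D (ι a) ∈ Q := by
        simp only [ι]
        convert h2 using 1
        ring
      exact (hQp.mem_or_mem this).resolve_left fun h => (hQp.mem_or_mem h).elim huQ huQ
    have hder : ∀ (D : Derivation k R R) (x : R), D x ∈ Q := by
      intro D x
      obtain ⟨⟨a, s⟩, hx⟩ := IsLocalization.surj (Submonoid.powers b) x
      have h1 : D (x * ι (s : P)) ∈ Q := by rw [show x * ι (s : P) = ι a from hx]; exact hDP a D
      rw [Derivation.leibniz, smul_eq_mul, smul_eq_mul] at h1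
      have h2 : ι (s : P) * D x ∈ Q := (Q.add_mem_iff_right (Q.mul_mem_left _ (hDP s D))).mp h1
      refine (hQp.mem_or_mem h2).resolve_left fun h => ?_
      exact hQp.ne_top (Ideal.eq_top_of_isUnit_mem _ h (IsLocalization.map_units R s))
    let K := Localization.AtPrime Q
    haveI : IsLocalization.AtPrime K q₁ := by
      have e : q₁.primeCompl = (Q.comap (algebraMap P R)).primeCompl :=
        Submonoid.ext fun x => not_congr (by rw [← hQc])
      show IsLocalization q₁.primeCompl K
      rw [e]
      exact IsLocalization.isLocalization_isLocalization_atPrime_isLocalization (Submonoid.powers b) K Q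
    haveI : IsReduced (Localization q₁.primeCompl) := inferInstance
    haveI : IsReduced K := isReduced_of_injective
      (IsLocalization.algEquiv q₁.primeCompl K (Localization q₁.primeCompl)).toRingEquiv.toRingHom
      (IsLocalization.algEquiv q₁.primeCompl K (Localization q₁.primeCompl)).injective
    have hK : IsField K := by
      haveI : Subsingleton (PrimeSpectrum K) :=
        IsLocalization.subsingleton_primeSpectrum_of_mem_minimalPrimes q₁ (hminP q hq) K
      exact PrimeSpectrum.subsingleton_iff_isField_of_isReduced.mp inferInstance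
    letI := hK.toField
    haveI : Module.Finite k K := finite_of_forall_derivation_mem Q hder
    have hker : RingHom.ker (algebraMap P K) = q₁ := by
      ext x
      rw [RingHom.mem_ker]
      constructor
      · intro h
        by_contra hx
        exact not_isUnit_zero (h ▸ IsLocalization.map_units K (⟨x, hx⟩ : q₁.primeCompl))
      · intro h
        by_contra hne
        exact (IsLocalization.AtPrime.isUnit_to_map_iff K q₁ x).mp (isUnit_iff_ne_zero.mpr hne) h
    let π : P ⧸ q₁ →ₐ[k] K := Ideal.Quotient.liftₐ q₁ (IsScalarTower.toAlgHom k P K) fun x hx => hker.ge hx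
    have hπ : Function.Injective π := by
      rw [injective_iff_map_eq_zero]
      intro x hx
      obtain ⟨x, rfl⟩ := Ideal.Quotient.mk_surjective x
      exact Ideal.Quotient.eq_zero_iff_mem.mpr (hker.le hx)
    haveI : Module.Finite k (P ⧸ q₁) := Module.Finite.of_injective π.toLinearMap hπ
    have hfield : IsField (P ⧸ q₁) :=
      isField_of_isIntegral_of_isField' (Field.toIsField k) (S := P ⧸ q₁)
    have hq₁ : q₁ = p := (Ideal.Quotient.maximal_of_isField _ hfield).eq_of_le ‹p.IsPrime›.ne_top
      fun x hx => (hpmem x).mp (le_maximalIdeal hq.1.1.ne_top hx)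
    refine hmin_ne q hq ?_
    rw [← IsLocalization.map_comap p.primeCompl A q]
    exact (congrArg (Ideal.map (algebraMap P A)) hq₁).trans (IsLocalization.AtPrime.map_eq_maximalIdeal p A)
  -- the choice of `w`
  let Eu := {q ∈ associatedPrimes A (A ⧸ Ideal.span {algebraMap P A u}) | q ≠ maximalIdeal A}
  have hEu : Eu.Finite := (associatedPrimes.finite A _).subset fun q hq => hq.1
  obtain ⟨w, hw⟩ := exists_forall_notMem (k := k) (V '' minimalPrimes A ∪ tr '' Eu)
    ((hfinmin.image _).union (hEu.image _)) (by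
      rintro _ (⟨q, hq, rfl⟩ | ⟨q, hq, rfl⟩)
      · exact hV q hq
      · exact htr q (IsAssociatedPrime.isPrime hq.1) hq.2)
  -- a derivation
  have hDq : ∀ q ∈ hfinmin.toFinset, ∃ D : Derivation k R R, ι u * D (ι w) - ι w * D (ι u) ∉ qR q := by
    intro q hq
    have := hw (V q) (Or.inl ⟨q, hfinmin.mem_toFinset.mp hq, rfl⟩)
    by_contra! hno
    exact this hno
  choose! D hD using hDq
  have hsep : ∀ q ∈ hfinmin.toFinset, ∃ e : P, e ∉ q.comap (algebraMap P A) ∧
      ∀ q' ∈ hfinmin.toFinset, q' ≠ q → e ∈ q'.comap (algebraMap P A) := by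
    intro q hq
    have hqm := hfinmin.mem_toFinset.mp hq
    haveI := hqm.1.1
    have : ∀ q' ∈ hfinmin.toFinset.erase q, ∃ e, e ∈ q'.comap (algebraMap P A) ∧ e ∉ q.comap (algebraMap P A) := by
      intro q' hq'
      refine SetLike.not_le_iff_exists.mp fun hle => (Finset.mem_erase.mp hq').1 ?_
      have hq'm := hfinmin.mem_toFinset.mp (Finset.mem_of_mem_erase hq')
      rw [← IsLocalization.map_comap p.primeCompl A q', ← IsLocalization.map_comap p.primeCompl A q]
      refine congrArg _ (le_antisymm hle ?_)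
      exact (hminP q hqm).2 ⟨hq'm.1.1.comap _, bot_le⟩ hle
    choose! e he using this
    refine ⟨∏ q' ∈ hfinmin.toFinset.erase q, e q', ?_, fun q' hq' hne =>
      Ideal.prod_mem _ (Finset.mem_erase.mpr ⟨hne, hq'⟩) (he q' (Finset.mem_erase.mpr ⟨hne, hq'⟩)).1⟩
    intro hprod
    obtain ⟨q', hq', hmem⟩ := (Ideal.IsPrime.prod_mem_iff).mp hprod
    exact (he q' hq').2 hmem
  choose! e he using hsep
  let D₀ : Derivation k R R := ∑ q ∈ hfinmin.toFinset, ι (e q) • D q
  let g : R := ι u * D₀ (ι w) - ι w * D₀ (ι u)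
  have hg : ∀ q ∈ minimalPrimes A, g ∉ qR q := by
    intro q hq hgq
    haveI := hq.1.1
    obtain ⟨hQp, hQc⟩ := hqR q inferInstance (hb' q hq)
    have hqf := hfinmin.mem_toFinset.mpr hq
    have hsum : g = ∑ q' ∈ hfinmin.toFinset, ι (e q') * (ι u * D q' (ι w) - ι w * D q' (ι u)) := by
      simp only [g, D₀]
      rw [← Derivation.coeFnAddMonoidHom_apply, map_sum]
      simp only [Derivation.coeFnAddMonoidHom_apply, Finset.sum_apply, Derivation.smul_apply, smul_eq_mul]
      rw [Finset.mul_sum, Finset.mul_sum, ← Finset.sum_sub_distrib]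
      exact Finset.sum_congr rfl fun q' _ => by ring
    rw [hsum, ← Finset.add_sum_erase _ _ hqf] at hgq
    have hrest : ∑ q' ∈ hfinmin.toFinset.erase q, ι (e q') * (ι u * D q' (ι w) - ι w * D q' (ι u)) ∈ qR q :=
      Ideal.sum_mem _ fun q' hq' => Ideal.mul_mem_right _ _ (Ideal.mem_map_of_mem _
        ((he q' (Finset.mem_of_mem_erase hq')).2 q hqf (Finset.mem_erase.mp hq').1.symm))
    rcases hQp.mem_or_mem (((qR q).add_mem_iff_left hrest).mp hgq) with h | h
    · rw [← Ideal.mem_comap, hQc] at h
      exact (he q hqf).1 h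
    · exact hD q hqf h
  obtain ⟨⟨a, s⟩, has⟩ := IsLocalization.surj (Submonoid.powers b) g
  let h : A := algebraMap P A (a * b)
  have hgh : ∀ q : Ideal A, q.IsPrime → h ∉ q → algebraMap P A b ∉ q ∧ g ∉ qR q := by
    intro q hq hhq
    have hbq : algebraMap P A b ∉ q := fun hb0 => hhq (by
      simp only [h, map_mul]; exact q.mul_mem_left _ hb0)
    obtain ⟨hQp, hQc⟩ := hqR q hq hbq
    refine ⟨hbq, fun hgq => hhq ?_⟩
    have : ι a ∈ qR q := by
      rw [show ι a = g * ι (s : P) from has.symm]; exact Ideal.mul_mem_right _ _ hgq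
    rw [← Ideal.mem_comap, hQc] at this
    simp only [h, map_mul]
    exact q.mul_mem_right _ this
  have hhmin : ∀ q ∈ minimalPrimes A, h ∉ q := by
    intro q hq hhq
    haveI := hq.1.1
    obtain ⟨hQp, hQc⟩ := hqR q inferInstance (hb' q hq)
    simp only [h, map_mul] at hhq
    have haq : a ∈ q.comap (algebraMap P A) :=
      ((hq.1.1.mem_or_mem hhq).resolve_right (hb' q hq) : _)
    rw [← hQc, Ideal.mem_comap, ← has] at haq
    exact (hQp.mem_or_mem haq).elim (hg q hq) fun h' =>
      hQp.ne_top (Ideal.eq_top_of_isUnit_mem _ h' (IsLocalization.map_units R s))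
  have hhreg := hreg h hhmin
  have hureg := hreg _ hu'
  -- the choice of `c`
  let E : Set (Ideal A) := minimalPrimes A ∪
    {q ∈ associatedPrimes A (A ⧸ Ideal.span {h}) | q ≠ maximalIdeal A}
  have hE : E.Finite := hfinmin.union ((associatedPrimes.finite A _).subset fun q hq => hq.1)
  have hEp : ∀ q ∈ E, q.IsPrime := by
    rintro q (hq | hq)
    exacts [hq.1.1, IsAssociatedPrime.isPrime hq.1]
  have hEuw : ∀ q ∈ E, algebraMap P A u ∈ q → algebraMap P A w ∉ q := by
    rintro q (hq | ⟨hq, hqm⟩) huq hwq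
    · exact hu' q hq huq
    · exact hw (tr q) (Or.inr ⟨q, ⟨ass_transfer hhreg hureg hq huq, hqm⟩, rfl⟩) hwq
  obtain ⟨c, hc⟩ : ∃ c : k, ∀ q ∈ E, algebraMap P A ((w : P) + c • (u : P)) ∉ q := by
    by_contra! hall
    choose F hFE hF using hall
    haveI := hE.to_subtype
    obtain ⟨c, c', hne, heq⟩ := Finite.exists_ne_map_eq_of_infinite (α := k) (β := E)
      (fun c => ⟨F c, hFE c⟩)
    have heq' : F c = F c' := congrArg Subtype.val heq
    haveI := hEp _ (hFE c)
    have h1 := hF c
    have h2 : algebraMap P A ((w : P) + c' • (u : P)) ∈ F c := heq' ▸ hF c'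
    have hu1 : algebraMap P A u ∈ F c := by
      have h3 := (F c).sub_mem h1 h2
      rw [← map_sub, add_sub_add_left_eq_sub, ← sub_smul, Algebra.smul_def, map_mul] at h3
      refine ((hEp _ (hFE c)).mem_or_mem h3).resolve_left fun hu2 => ?_
      exact (hEp _ (hFE c)).ne_top (Ideal.eq_top_of_isUnit_mem _ hu2
        ((((sub_ne_zero.mpr hne).isUnit).map (algebraMap k P)).map (algebraMap P A)))
    refine hEuw _ (hFE c) hu1 ?_
    rw [map_add, Algebra.smul_def, map_mul] at h1
    exact ((F c).add_mem_iff_left ((F c).mul_mem_left _ hu1)).mp h1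
  let t₀ : P := (w : P) + c • (u : P)
  let t : A := algebraMap P A t₀
  have htm : t ∈ maximalIdeal A :=
    (hpmem t₀).mpr (p.add_mem w.2 (Submodule.smul_of_tower_mem p c u.2))
  have htreg : IsSMulRegular A t := hreg t fun q hq => hc q (Or.inl hq)
  refine ⟨t, htm, htreg, fun q _ hqm => ?_⟩
  refine exists_smul_mem_of_ass t q fun q' hq' hle => ?_
  haveI : q'.IsPrime := IsAssociatedPrime.isPrime hq'
  have htq' : t ∈ q' := by
    refine hq'.annihilator_le ?_
    rw [Submodule.annihilator_top, Ideal.annihilator_quotient]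
    exact Ideal.mem_span_singleton_self t
  have hq'm : q' ≠ maximalIdeal A := fun h0 =>
    hqm (le_antisymm (le_maximalIdeal (Ideal.IsPrime.ne_top inferInstance)) (h0 ▸ hle))
  have hhq' : h ∉ q' := fun hhq =>
    hc q' (Or.inr ⟨ass_transfer htreg hhreg hq' hhq, hq'm⟩) htq'
  obtain ⟨hbq', hgq'⟩ := hgh q' inferInstance hhq'
  obtain ⟨hQp, hQc⟩ := hqR q' inferInstance hbq'
  haveI := hQp
  set Q := qR q'
  set q₁ := q'.comap (algebraMap P A)
  let L := Localization.AtPrime q'
  haveI : IsLocalization.AtPrime L q₁ :=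
    IsLocalization.isLocalization_isLocalization_atPrime_isLocalization p.primeCompl L q'
  haveI : IsLocalization.AtPrime (Localization.AtPrime Q) q₁ := by
    have e : q₁.primeCompl = (Q.comap (algebraMap P R)).primeCompl :=
      Submonoid.ext fun x => not_congr (by rw [← hQc])
    show IsLocalization q₁.primeCompl _
    rw [e]
    exact IsLocalization.isLocalization_isLocalization_atPrime_isLocalization (Submonoid.powers b) _ Q
  haveI : IsRegularLocalRing (Localization.AtPrime Q) := isRegularRing_iff.mp inferInstance Q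
  haveI : IsRegularLocalRing L := IsRegularLocalRing.of_ringEquiv
    (IsLocalization.algEquiv q₁.primeCompl (Localization.AtPrime Q) L).toRingEquiv
  let τ : L := algebraMap A L t
  have hτm : τ ∈ maximalIdeal L := (IsLocalization.AtPrime.to_map_mem_maximal_iff L q' t).mpr htq'
  have hτ2 : τ ∉ maximalIdeal L ^ 2 := by
    intro h2
    have h3 : algebraMap P L t₀ ∈ (q₁ ^ 2).map (algebraMap P L) := by
      rw [Ideal.map_pow, IsLocalization.AtPrime.map_eq_maximalIdeal q₁ L,
        IsScalarTower.algebraMap_apply P A L]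
      exact h2
    obtain ⟨⟨⟨a₂, ha₂⟩, s₂⟩, hst⟩ := (IsLocalization.mem_map_algebraMap_iff q₁.primeCompl L).mp h3
    rw [← map_mul] at hst
    obtain ⟨s₃, hs₃⟩ := (IsLocalization.eq_iff_exists q₁.primeCompl L).mp hst
    have hsQ : ∀ s : q₁.primeCompl, ι (s : P) ∉ Q := fun s hs =>
      s.2 (hQc.le (Ideal.mem_comap.mpr hs))
    have h4 : ι ((s₃ : P) * (s₂ : P) * t₀) ∈ Q ^ 2 := by
      have hP : (s₃ : P) * (s₂ : P) * t₀ ∈ q₁ ^ 2 := by
        rw [show (s₃ : P) * (s₂ : P) * t₀ = s₃ * (t₀ * s₂) by ring, hs₃]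
        exact Ideal.mul_mem_left _ _ ha₂
      have := Ideal.mem_map_of_mem ι hP
      rwa [Ideal.map_pow] at this
    have h5 : D₀ (ι ((s₃ : P) * (s₂ : P) * t₀)) ∈ Q := by
      rw [pow_two] at h4
      refine Submodule.mul_induction_on h4 (fun x hx y hy => ?_) fun x y hx hy => ?_
      · rw [Derivation.leibniz, smul_eq_mul, smul_eq_mul]
        exact Q.add_mem (Q.mul_mem_right _ hx) (Q.mul_mem_right _ hy)
      · rw [map_add]; exact Q.add_mem hx hy
    have htQ : ι t₀ ∈ Q := by
      rw [← Ideal.mem_comap, hQc]; exact htq'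
    rw [map_mul, Derivation.leibniz, smul_eq_mul, smul_eq_mul,
      Q.add_mem_iff_left (Q.mul_mem_right _ htQ)] at h5
    have h6 : D₀ (ι t₀) ∈ Q := (hQp.mem_or_mem h5).resolve_left fun hh => by
      rw [map_mul] at hh
      exact (hQp.mem_or_mem hh).elim (hsQ s₃) (hsQ s₂)
    apply hgq'
    have e1 : ι t₀ = ι w + c • ι u := by
      simp only [t₀, ι, map_add]
      rw [← IsScalarTower.toAlgHom_apply k P R (c • _), map_smul]
      rfl
    rw [e1] at htQ h6
    rw [map_add, Derivation.map_smul] at h6
    have e2 : g = ι u * (D₀ (ι w) + c • D₀ (ι u)) - D₀ (ι u) * (ι w + c • ι u) := by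
      simp only [g, Algebra.smul_def]; ring
    rw [e2]
    exact Q.sub_mem (Q.mul_mem_left _ h6) (Q.mul_mem_left _ htQ)
  haveI := (Groth.Ega4Algebra1.isRegularLocalRing_quotient_span_singleton hτm hτ2).1
  haveI := Groth.Ega4Algebra1.isDomain_of_isRegularLocalRing (L ⧸ Ideal.span {τ})
  intro x n hx
  have hxL : algebraMap A L x ∈ Ideal.span {τ} := by
    obtain ⟨r, hr⟩ := Ideal.mem_span_singleton'.mp hx
    have h1 : Ideal.Quotient.mk (Ideal.span {τ}) (algebraMap A L x) ^ n = 0 := by
      rw [← map_pow, ← map_pow, ← hr, map_mul, Ideal.Quotient.eq_zero_iff_mem]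
      exact Ideal.mul_mem_left _ _ (Ideal.mem_span_singleton_self τ)
    exact Ideal.Quotient.eq_zero_iff_mem.mp (eq_zero_of_pow_eq_zero h1)
  rw [show Ideal.span {τ} = (Ideal.span {t}).map (algebraMap A L) by
    rw [Ideal.map_span, Set.image_singleton]] at hxL
  obtain ⟨⟨⟨a', ha'⟩, s'⟩, hs'⟩ := (IsLocalization.mem_map_algebraMap_iff q'.primeCompl L).mp hxL
  rw [← map_mul] at hs'
  obtain ⟨s'', hs''⟩ := (IsLocalization.eq_iff_exists q'.primeCompl L).mp hs'
  refine ⟨(s'' : A) * s', (q'.primeCompl.mul_mem s''.2 s'.2), ?_⟩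
  rw [show (s'' : A) * (s' : A) * x = s'' * (x * s') by ring, hs'']
  exact Ideal.mul_mem_left _ _ ha'

include p in
omit [IsReduced A] [IsNoetherianRing A] in
/-- Replace `P` by its image in the localisation. -/
theorem isLocalization_quotient_ker :
    ∃ (p' : Ideal (P ⧸ RingHom.ker (algebraMap P A))) (_ : p'.IsPrime),
      letI : Algebra (P ⧸ RingHom.ker (algebraMap P A)) A := (RingHom.kerLift (algebraMap P A)).toAlgebra
      IsLocalization.AtPrime A p' := by
  set I := RingHom.ker (algebraMap P A)
  letI : Algebra (P ⧸ I) A := (RingHom.kerLift (algebraMap P A)).toAlgebra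
  have hinj : Function.Injective (algebraMap (P ⧸ I) A) := RingHom.kerLift_injective _
  have hIp : I ≤ p := fun x hx => by_contra fun hxp => by
    exact not_isUnit_zero (M₀ := A) ((RingHom.mem_ker.mp hx) ▸
      IsLocalization.map_units A (⟨x, hxp⟩ : p.primeCompl))
  haveI : (p.map (Ideal.Quotient.mk I)).IsPrime :=
    Ideal.map_isPrime_of_surjective Ideal.Quotient.mk_surjective (by rw [Ideal.mk_ker]; exact hIp)
  have hmem : ∀ x : P, Ideal.Quotient.mk I x ∈ p.map (Ideal.Quotient.mk I) ↔ x ∈ p := fun x => by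
    rw [← Ideal.mem_comap, Ideal.comap_map_of_surjective _ Ideal.Quotient.mk_surjective,
      ← RingHom.ker_eq_comap_bot, Ideal.mk_ker, sup_eq_left.mpr hIp]
  refine ⟨p.map (Ideal.Quotient.mk I), inferInstance, ?_⟩
  constructor
  constructor
  · rintro ⟨y, hy⟩
    obtain ⟨y, rfl⟩ := Ideal.Quotient.mk_surjective y
    exact IsLocalization.map_units A (⟨y, fun h => hy ((hmem y).mpr h)⟩ : p.primeCompl)
  · intro z
    obtain ⟨⟨y, s⟩, hys⟩ := IsLocalization.surj p.primeCompl z
    exact ⟨⟨Ideal.Quotient.mk I y, ⟨Ideal.Quotient.mk I s, fun h => s.2 ((hmem s).mp h)⟩⟩, hys⟩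
  · intro y y' hyy
    exact ⟨1, by rw [hinj hyy]⟩

include p in
/-- The local Bertini theorem. -/
theorem exists_t [Algebra k A] [IsScalarTower k P A] (hm : maximalIdeal A ∉ minimalPrimes A) :
    ∃ t ∈ maximalIdeal A, IsSMulRegular A t ∧
      ∀ (q : Ideal A) [q.IsPrime], q ≠ maximalIdeal A → ∀ x n, x ^ n ∈ Ideal.span {t} →
        ∃ s ∉ q, s * x ∈ Ideal.span {t} := by
  set I := RingHom.ker (algebraMap P A)
  letI : Algebra (P ⧸ I) A := (RingHom.kerLift (algebraMap P A)).toAlgebra
  obtain ⟨p', hp', hloc⟩ := isLocalization_quotient_ker p (A := A)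
  haveI := hp'
  haveI : IsLocalization.AtPrime A p' := hloc
  exact exists_core (k := k) p' (RingHom.kerLift_injective _) hm

end Main

/-- Reducedness of the localisation from the elementwise property. -/
theorem isReduced_localization_quotient {A : Type u} [CommRing A] {I : Ideal A}
    (P' : Ideal (A ⧸ I)) [P'.IsPrime]
    (h : ∀ x n, x ^ n ∈ I → ∃ s ∉ P'.comap (Ideal.Quotient.mk I), s * x ∈ I) :
    IsReduced (Localization.AtPrime P') := by
  refine ⟨fun z hz => ?_⟩
  obtain ⟨n, hn⟩ := hz
  obtain ⟨⟨y, s⟩, hys⟩ := IsLocalization.surj P'.primeCompl z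
  have hy : algebraMap (A ⧸ I) (Localization.AtPrime P') (y ^ (n + 1)) = 0 := by
    rw [map_pow, ← hys, mul_pow, pow_succ z, hn, zero_mul, zero_mul]
  obtain ⟨⟨s', hs'⟩, hs'y⟩ := (IsLocalization.map_eq_zero_iff P'.primeCompl _ _).mp hy
  obtain ⟨y, rfl⟩ := Ideal.Quotient.mk_surjective y
  obtain ⟨s', rfl⟩ := Ideal.Quotient.mk_surjective s'
  have hmem : (s' * y) ^ (n + 1) ∈ I := by
    rw [← Ideal.Quotient.eq_zero_iff_mem, map_pow, map_mul, mul_pow, pow_succ (Ideal.Quotient.mk I s'),
      mul_assoc, hs'y, mul_zero]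
  obtain ⟨s'', hs'', hsy⟩ := h _ _ hmem
  have hu : IsUnit (algebraMap (A ⧸ I) (Localization.AtPrime P') (Ideal.Quotient.mk I (s'' * s'))) :=
    IsLocalization.map_units _ (⟨_, by
      rw [map_mul]; exact P'.primeCompl.mul_mem (show _ ∈ P'.primeCompl from hs'') hs'⟩ : P'.primeCompl)
  have h0 : algebraMap (A ⧸ I) (Localization.AtPrime P') (Ideal.Quotient.mk I y) = 0 := by
    refine hu.mul_right_eq_zero.mp ?_
    rw [← map_mul, ← map_mul, mul_assoc, Ideal.Quotient.eq_zero_iff_mem.mpr hsy, map_zero]
  rw [← hys] at h0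
  exact (IsLocalization.map_units _ s).mul_left_eq_zero.mp h0

/-- With `m` not associated modulo `t`, the quotient is reduced. -/
theorem isReduced_quotient_of_notMem_ass {A : Type u} [CommRing A] [IsNoetherianRing A] [IsLocalRing A]
    (t : A) (hm : maximalIdeal A ∉ associatedPrimes A (A ⧸ Ideal.span {t}))
    (h : ∀ (q : Ideal A) [q.IsPrime], q ≠ maximalIdeal A → ∀ x n, x ^ n ∈ Ideal.span {t} →
      ∃ s ∉ q, s * x ∈ Ideal.span {t}) :
    IsReduced (A ⧸ Ideal.span {t}) := by
  refine ⟨fun z hz => ?_⟩
  obtain ⟨n, hn⟩ := hz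
  obtain ⟨x, rfl⟩ := Ideal.Quotient.mk_surjective z
  rw [← map_pow, Ideal.Quotient.eq_zero_iff_mem] at hn
  obtain ⟨s, hs, hsx⟩ := exists_smul_mem_of_ass t (maximalIdeal A) (fun q hq _ => by
    haveI := IsAssociatedPrime.isPrime hq
    exact h q (fun he => hm (he ▸ hq))) x n hn
  rw [Ideal.Quotient.eq_zero_iff_mem]
  obtain ⟨v, hv⟩ := IsLocalRing.notMem_maximalIdeal.mp hs
  have := Ideal.mul_mem_left (Ideal.span {t}) (↑v⁻¹ : A) hsx
  rwa [← mul_assoc, ← hv, Units.inv_mul, one_mul] at this

end Groth.Calg6.LocalBertini
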