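import Mathlib

/-! The normalisation of a Noetherian domain seen through a faithfully flat algebra. -/

set_option autoImplicit false
universe u

open scoped TensorProduct

namespace Groth.Calg6.MN

variable (A : Type u) [CommRing A]
variable (K : Type u) [Field K] [Algebra A K]
variable {C : Type u} [CommRing C] [Algebra A C]

/-- Minimal primes. -/
abbrev MP (C : Type u) [CommRing C] := {q : Ideal C // q ∈ minimalPrimes C}

instance isPrime_mp (q : MP C) : q.1.IsPrime := q.2.1.1

/-- Fraction field of the quotient. -/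
abbrev L (q : MP C) := FractionRing (C ⧸ q.1)

/-- Normalisation of the quotient. -/
abbrev B (q : MP C) := integralClosure (C ⧸ q.1) (L q)

theorem injective_algebraMap_L [IsDomain A] [Module.Flat A C] (q : MP C) :
    Function.Injective (algebraMap A (L q)) := by
  refine (injective_iff_map_eq_zero _).mpr fun a ha => by_contra fun hne => ?_
  have h1 : algebraMap A C a ∈ q.1 := by
    rw [← Ideal.Quotient.eq_zero_iff_mem, ← Ideal.Quotient.algebraMap_eq,
      ← IsScalarTower.algebraMap_apply A C (C ⧸ q.1)]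
    apply IsFractionRing.injective (C ⧸ q.1) (L q)
    rw [← IsScalarTower.algebraMap_apply A (C ⧸ q.1) (L q), ha, map_zero]
  refine Set.disjoint_left.mp (Ideal.disjoint_nonZeroDivisors_of_mem_minimalPrimes q.2) h1 ?_
  have hinj : Function.Injective fun c : C => a • c :=
    Module.Flat.isSMulRegular_of_nonZeroDivisors (M := C) (mem_nonZeroDivisors_of_ne_zero hne)
  refine mem_nonZeroDivisors_iff_right.mpr fun c hc => hinj ?_
  show a • c = a • 0
  rw [smul_zero, Algebra.smul_def, mul_comm, hc]

variable [IsDomain A] [IsFractionRing A K] [Module.Flat A C]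

/-- The embedding of the fraction field. -/
noncomputable def σ (q : MP C) : K →ₐ[A] L q :=
  IsFractionRing.liftAlgHom (g := Algebra.ofId A (L q)) (injective_algebraMap_L A q)

/-- The components of the total tensor product. -/
noncomputable def θ (q : MP C) : C ⊗[A] K →ₐ[C] L q :=
  Algebra.TensorProduct.lift (Algebra.ofId C (L q)) (σ A K q) fun _ _ => Commute.all _ _

theorem θ_tmul (q : MP C) (c : C) (x : K) :
    θ A K q (c ⊗ₜ x) = algebraMap C (L q) c * σ A K q x := by
  simp [θ]

theorem exists_smul_eq (t : C ⊗[A] K) :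
    ∃ a : A, a ≠ 0 ∧ ∃ c : C, a • t = c ⊗ₜ 1 := by
  induction t using TensorProduct.induction_on with
  | zero => exact ⟨1, one_ne_zero, 0, by simp⟩
  | tmul c x =>
    obtain ⟨⟨n, a⟩, h⟩ := IsLocalization.surj (nonZeroDivisors A) x
    refine ⟨a, nonZeroDivisors.ne_zero a.2, n • c, ?_⟩
    rw [← TensorProduct.tmul_smul, Algebra.smul_def, mul_comm, h, TensorProduct.smul_tmul,
      Algebra.smul_def, mul_one]
  | add s t hs ht =>
    obtain ⟨a, ha, c, hc⟩ := hs
    obtain ⟨b, hb, d, hd⟩ := ht
    refine ⟨a * b, mul_ne_zero ha hb, b • c + a • d, ?_⟩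
    rw [smul_add, TensorProduct.add_tmul, ← TensorProduct.smul_tmul' b c, ← TensorProduct.smul_tmul' a d,
      ← hc, ← hd, smul_smul, smul_smul, mul_comm b a]

theorem isNilpotent_of_θ (t : C ⊗[A] K) (h : ∀ q, θ A K q t = 0) : IsNilpotent t := by
  obtain ⟨a, ha, c, hc⟩ := exists_smul_eq A K t
  have hc0 : IsNilpotent c := by
    refine nilpotent_iff_mem_prime.mpr fun P hP => ?_
    haveI := hP
    obtain ⟨q, hq, hqP⟩ := Ideal.exists_minimalPrimes_le (I := (⊥ : Ideal C)) (J := P) bot_le
    refine hqP ?_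
    haveI : q.IsPrime := hq.1.1
    have h1 := congrArg (θ A K ⟨q, hq⟩) hc
    rw [Algebra.smul_def, map_mul, h, mul_zero, θ_tmul, map_one, mul_one] at h1
    have h2 : algebraMap C (C ⧸ q) c = 0 := by
      apply IsFractionRing.injective (C ⧸ q) (L ⟨q, hq⟩)
      rw [← IsScalarTower.algebraMap_apply C (C ⧸ q) (L ⟨q, hq⟩), ← h1, map_zero]
    exact Ideal.Quotient.eq_zero_iff_mem.mp h2
  have hat : IsNilpotent (a • t) := by
    rw [hc]
    exact hc0.map (algebraMap C (C ⊗[A] K))
  obtain ⟨n, hn⟩ := hat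
  refine ⟨n, ?_⟩
  rw [smul_pow] at hn
  have hu : IsUnit (algebraMap A (C ⊗[A] K) (a ^ n)) := by
    have : IsUnit (algebraMap A K (a ^ n)) :=
      IsUnit.mk0 _ fun h => pow_ne_zero n ha (IsFractionRing.injective A K (h.trans (map_zero _).symm))
    have := this.map (Algebra.TensorProduct.includeRight : K →ₐ[A] C ⊗[A] K)
    rwa [AlgHom.commutes] at this
  rwa [Algebra.smul_def, hu.mul_right_eq_zero] at hn

theorem finite_mp [IsNoetherianRing C] : Finite (MP C) :=
  (minimalPrimes.finite_of_isNoetherianRing C).to_subtype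

/-- Integrality is detected on the components. -/
theorem isIntegral_iff [IsNoetherianRing C] [Module.FaithfullyFlat A C] (x : K) :
    IsIntegral A x ↔ ∀ q : MP C, IsIntegral (C ⧸ q.1) (σ A K q x) := by
  classical
  refine ⟨fun h q => (h.map (σ A K q)).tower_top, fun h => ?_⟩
  haveI := finite_mp (C := C)
  cases nonempty_fintype (MP C)
  have hint : IsIntegral C ((1 : C) ⊗ₜ[A] x) := by
    have hlift : ∀ q : MP C, ∃ F : Polynomial C, F.Monic ∧ Polynomial.aeval (σ A K q x) F = 0 := by
      intro q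
      obtain ⟨f, hf, hfx⟩ := h q
      have hlifts : f ∈ Polynomial.lifts (algebraMap C (C ⧸ q.1)) := by
        obtain ⟨F, hF⟩ := Polynomial.map_surjective (algebraMap C (C ⧸ q.1)) Ideal.Quotient.mk_surjective f
        exact ⟨F, hF⟩
      obtain ⟨F, hF, -, hFm⟩ := Polynomial.lifts_and_degree_eq_and_monic hlifts hf
      refine ⟨F, hFm, ?_⟩
      rw [← Polynomial.aeval_map_algebraMap (C ⧸ q.1), hF]
      exact hfx
    choose F hFm hFx using hlift
    set G := ∏ q : MP C, F q
    have hnil : IsNilpotent (Polynomial.aeval ((1 : C) ⊗ₜ[A] x) G) := by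
      refine isNilpotent_of_θ A K _ fun q => ?_
      rw [← Polynomial.aeval_algHom_apply, θ_tmul, map_one, one_mul, map_prod]
      exact Finset.prod_eq_zero (Finset.mem_univ q) (hFx q)
    obtain ⟨n, hn⟩ := hnil
    exact ⟨G ^ n, (Polynomial.monic_prod_of_monic _ _ fun q _ => hFm q).pow n, by
      rw [← Polynomial.aeval_def, map_pow, hn]⟩
  let R' : Subalgebra A K := Algebra.adjoin A {x}
  have hinj : Function.Injective (Algebra.TensorProduct.map (AlgHom.id C C) R'.val) :=
    Module.Flat.lTensor_preserves_injective_linearMap (M := C) R'.val.toLinearMap Subtype.val_injective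
  haveI : Module.Finite C (C ⊗[A] R') := by
    let S : Subalgebra C (C ⊗[A] K) := Algebra.adjoin C {(1 : C) ⊗ₜ[A] x}
    haveI hS : Module.Finite C S := Module.Finite.iff_fg.mpr hint.fg_adjoin_singleton
    have hmem : ∀ z, Algebra.TensorProduct.map (AlgHom.id C C) R'.val z ∈ S := by
      intro z
      induction z using TensorProduct.induction_on with
      | zero => rw [map_zero]; exact S.zero_mem
      | tmul c y =>
        have hy : (1 : C) ⊗ₜ[A] (y : K) ∈ S := by
          have hle : R' ≤ (S.restrictScalars A).comap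
              (Algebra.TensorProduct.includeRight : K →ₐ[A] C ⊗[A] K) :=
            Algebra.adjoin_le (Set.singleton_subset_iff.mpr (Algebra.subset_adjoin rfl))
          exact hle y.2
        have : c ⊗ₜ[A] (y : K) = c • ((1 : C) ⊗ₜ[A] (y : K)) := by
          rw [TensorProduct.smul_tmul', smul_eq_mul, mul_one]
        simpa [this] using S.smul_mem hy c
      | add s t hs ht => rw [map_add]; exact S.add_mem hs ht
    let g : C ⊗[A] R' →ₗ[C] S :=
      LinearMap.codRestrict S.toSubmodule
        (Algebra.TensorProduct.map (AlgHom.id C C) R'.val).toLinearMap hmem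
    haveI : IsNoetherian C S := isNoetherian_of_isNoetherianRing_of_finite C S
    exact Module.Finite.of_injective g fun a b hab => hinj (congrArg Subtype.val hab)
  haveI : Module.Finite A R' := Module.Finite.of_finite_tensorProduct_of_faithfullyFlat C
  exact (Algebra.IsIntegral.isIntegral (R := A) (⟨x, Algebra.subset_adjoin rfl⟩ : R')).map R'.val

theorem σ_mem [IsNoetherianRing C] (q : MP C) (x : integralClosure A K) :
    σ A K q x ∈ B q :=
  ((x.2 : IsIntegral A (x : K)).map (σ A K q)).tower_top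

/-- The map to the normalisation of a component. -/
noncomputable def σB (q : MP C) : integralClosure A K →ₐ[A] B q :=
  AlgHom.codRestrict ((σ A K q).comp (integralClosure A K).val)
    ((B q).restrictScalars A) fun x => ((x.2 : IsIntegral A (x : K)).map (σ A K q)).tower_top

@[simp] theorem σB_coe (q : MP C) (x : integralClosure A K) :
    ((σB A K q x : B q) : L q) = σ A K q x := rfl

set_option synthInstance.maxHeartbeats 200000 in
/-- Two primes over the same prime are seen by a common component. -/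
theorem exists_component [IsNoetherianRing C] (P : Ideal (integralClosure A K)) [P.IsPrime]
    (Q' : Ideal C) [Q'.IsPrime]
    (hPQ : P.comap (algebraMap A (integralClosure A K)) = Q'.comap (algebraMap A C)) :
    ∃ (q : MP C) (W : Ideal (B q)), W.IsPrime ∧ W.comap (algebraMap C (B q)) = Q' ∧
      W.comap (σB A K q) = P := by
  classical
  haveI := finite_mp (C := C)
  cases nonempty_fintype (MP C)
  let T := C ⊗[A] integralClosure A K
  let p := Q'.comap (algebraMap A C)
  let Ω := AlgebraicClosure (FractionRing (C ⧸ Q'))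
  let iQ : C →ₐ[A] Ω := IsScalarTower.toAlgHom A C Ω
  have hiQ : ∀ c, iQ c = 0 ↔ c ∈ Q' := by
    intro c
    show algebraMap C Ω c = 0 ↔ _
    rw [IsScalarTower.algebraMap_apply C (C ⧸ Q') Ω,
      IsScalarTower.algebraMap_apply (C ⧸ Q') (FractionRing (C ⧸ Q')) Ω,
      map_eq_zero, IsFractionRing.to_map_eq_zero_iff, Ideal.Quotient.algebraMap_eq,
      Ideal.Quotient.eq_zero_iff_mem]
  haveI : P.LiesOver p := ⟨hPQ.symm⟩
  haveI : IsScalarTower A (A ⧸ p) Ω := inferInstance
  haveI : p.IsPrime := inferInstance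
  haveI : FaithfulSMul (A ⧸ p) Ω := (faithfulSMul_iff_algebraMap_injective _ _).mpr <| by
    refine (injective_iff_map_eq_zero _).mpr fun a ha => ?_
    obtain ⟨a, rfl⟩ := Ideal.Quotient.mk_surjective a
    rw [← Ideal.Quotient.algebraMap_eq, ← IsScalarTower.algebraMap_apply A (A ⧸ p) Ω,
      IsScalarTower.algebraMap_apply A C Ω] at ha
    exact Ideal.Quotient.eq_zero_iff_mem.mpr ((hiQ _).mp ha)
  haveI : Algebra.IsIntegral A (integralClosure A K) := IsIntegralClosure.isIntegral_algebra A K
  haveI : Algebra.IsIntegral (A ⧸ p) (integralClosure A K ⧸ P) :=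
    Algebra.IsIntegral.tower_top (R := A)
  let iP : integralClosure A K ⧸ P →ₐ[A ⧸ p] Ω := IsAlgClosed.lift
  have hiP : Function.Injective iP := by
    refine (injective_iff_map_eq_zero _).mpr fun z hz => by_contra fun hne => ?_
    have hI : (RingHom.ker iP.toRingHom) ≠ ⊥ := fun h => hne ((Submodule.eq_bot_iff _).mp h z hz)
    refine Ideal.IsIntegral.comap_ne_bot (R := A ⧸ p) hI ?_
    refine (Submodule.eq_bot_iff _).mpr fun a (ha : iP (algebraMap _ _ a) = 0) => ?_
    rw [AlgHom.commutes] at ha
    exact FaithfulSMul.algebraMap_injective (A ⧸ p) Ω (ha.trans (map_zero _).symm)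
  let j : integralClosure A K →ₐ[A] Ω := (iP.restrictScalars A).comp (Ideal.Quotient.mkₐ A P)
  let φ : T →ₐ[A] Ω := Algebra.TensorProduct.lift iQ j fun _ _ => Commute.all _ _
  let Z := RingHom.ker φ.toRingHom
  haveI : Z.IsPrime := RingHom.ker_isPrime _
  have hZ1 : ∀ c : C, c ⊗ₜ[A] (1 : integralClosure A K) ∈ Z ↔ c ∈ Q' := fun c => by
    show φ (c ⊗ₜ 1) = 0 ↔ _
    have h1 : φ (c ⊗ₜ 1) = iQ c * j 1 := Algebra.TensorProduct.lift_tmul ..
    rw [h1, map_one, mul_one, hiQ]
  have hZ2 : ∀ y : integralClosure A K, (1 : C) ⊗ₜ[A] y ∈ Z ↔ y ∈ P := fun y => by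
    show φ (1 ⊗ₜ y) = 0 ↔ _
    have h1 : φ (1 ⊗ₜ y) = iQ 1 * j y := Algebra.TensorProduct.lift_tmul ..
    rw [h1, map_one, one_mul]
    show iP (Ideal.Quotient.mk P y) = 0 ↔ _
    rw [map_eq_zero_iff _ hiP, Ideal.Quotient.eq_zero_iff_mem]
  let θ' : ∀ q : MP C, T →ₐ[C] B q := fun q =>
    Algebra.TensorProduct.lift (Algebra.ofId C (B q)) (σB A K q) fun _ _ => Commute.all _ _
  let ι : T →ₐ[C] C ⊗[A] K :=
    Algebra.TensorProduct.map (AlgHom.id C C) (integralClosure A K).val
  have hι : Function.Injective ι :=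
    Module.Flat.lTensor_preserves_injective_linearMap (M := C) (integralClosure A K).val.toLinearMap
      Subtype.val_injective
  have hcomp : ∀ q z, ((θ' q z : B q) : L q) = θ A K q (ι z) := by
    intro q z
    induction z using TensorProduct.induction_on with
    | zero => simp
    | tmul c y => simp [θ', ι, θ_tmul]; rfl
    | add s t hs ht => simp only [map_add, Subalgebra.coe_add, hs, ht]
  obtain ⟨q, hq⟩ : ∃ q, RingHom.ker (θ' q).toRingHom ≤ Z := by
    obtain ⟨q, -, hq⟩ := (Ideal.IsPrime.prod_le (s := Finset.univ)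
      (f := fun q => RingHom.ker (θ' q).toRingHom) ‹Z.IsPrime›).mp (by
      refine Ideal.prod_le_inf.trans fun z hz => ?_
      have h0 : IsNilpotent (ι z) := isNilpotent_of_θ A K _ fun q => by
        rw [← hcomp]
        have := Finset.inf_le (f := fun q => RingHom.ker (θ' q).toRingHom) (Finset.mem_univ q) hz
        rw [show θ' q z = 0 from this]; rfl
      exact nilradical_le_prime Z ((IsNilpotent.map_iff hι).mp h0))
    exact ⟨q, hq⟩
  letI := (θ' q).toRingHom.toAlgebra
  haveI : IsScalarTower C T (B q) := IsScalarTower.of_algebraMap_eq' (θ' q).comp_algebraMap.symm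
  haveI : Algebra.IsIntegral C (B q) := Algebra.IsIntegral.trans (C ⧸ q.1)
  haveI : Algebra.IsIntegral T (B q) := Algebra.IsIntegral.tower_top (R := C)
  obtain ⟨W, -, hW, hWZ⟩ := Ideal.exists_ideal_over_prime_of_isIntegral (S := B q) Z ⊥ hq
  refine ⟨q, W, hW, Ideal.ext fun c => ?_, Ideal.ext fun y => ?_⟩
  · rw [← hZ1 c, ← hWZ, Ideal.mem_comap, Ideal.mem_comap,
      IsScalarTower.algebraMap_apply C T (B q), Algebra.TensorProduct.algebraMap_apply]
    rfl
  · rw [← hZ2 y, ← hWZ, Ideal.mem_comap, Ideal.mem_comap, RingHom.algebraMap_toAlgebra]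
    have h1 : θ' q (1 ⊗ₜ y) = Algebra.ofId C (B q) 1 * σB A K q y := Algebra.TensorProduct.lift_tmul ..
    show _ ↔ θ' q (1 ⊗ₜ y) ∈ W
    rw [h1, map_one, one_mul]

/-- Away from the conductor a component is determined by its trace. -/
theorem component_unique (q₀ : MP C) (f : C) (hf : ∀ q : MP C, q ≠ q₀ → f ∈ q.1)
    (hfB : ∀ b : B q₀, ∃ c : C, algebraMap C (B q₀) f * b = algebraMap C (B q₀) c)
    (q : MP C) (W : Ideal (B q)) [W.IsPrime] (W₀ : Ideal (B q₀)) [W₀.IsPrime]
    (hW : algebraMap C (B q₀) f ∉ W₀)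
    (h : W.comap (algebraMap C (B q)) = W₀.comap (algebraMap C (B q₀))) :
    W.comap (σB A K q) = W₀.comap (σB A K q₀) := by
  have hfW : algebraMap C (B q) f ∉ W := fun hc => hW (by
    rwa [← Ideal.mem_comap, h, Ideal.mem_comap] at hc)
  have hq : q = q₀ := by_contra fun hne => hfW (by
    rw [IsScalarTower.algebraMap_apply C (C ⧸ q.1) (B q), Ideal.Quotient.algebraMap_eq,
      Ideal.Quotient.eq_zero_iff_mem.mpr (hf q hne), map_zero]
    exact W.zero_mem)
  subst hq
  suffices W = W₀ by rw [this]
  have key : ∀ (V V' : Ideal (B q)), V'.IsPrime → algebraMap C (B q) f ∉ V' →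
      V.comap (algebraMap C (B q)) = V'.comap (algebraMap C (B q)) → ∀ b ∈ V, b ∈ V' := by
    intro V V' hV' hfV' hc b hb
    obtain ⟨c, hc'⟩ := hfB b
    have h1 : algebraMap C (B q) f * b ∈ V' := by
      rw [hc', ← Ideal.mem_comap, ← hc, Ideal.mem_comap, ← hc']
      exact V.mul_mem_left _ hb
    exact (hV'.mem_or_mem h1).resolve_left hfV'
  exact le_antisymm (key W W₀ inferInstance hW h) (key W₀ W inferInstance hfW h.symm)

end Groth.Calg6.MN
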