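import Groth.Agent.Calg6.KrullFamily
import Groth.Agent.Calg6.MoriNagataCore
import Groth.Agent.RefRank.Algebra

/-! The integral closure of a Noetherian domain is cut out by discrete valuations (Mori–Nagata). -/

set_option autoImplicit false
universe u

open scoped TensorProduct WithZero

namespace Groth.Calg6.MN

/-- The valuation of a height one prime of a normal Noetherian domain. -/
theorem exists_valuation {R : Type u} [CommRing R] [IsDomain R] [IsNoetherianRing R] [IsIntegrallyClosed R]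
    (L : Type u) [Field L] [Algebra R L] [IsFractionRing R L] (W : Ideal R) [W.IsPrime]
    (hW : W.height = 1) :
    ∃ v : Valuation L ℤᵐ⁰,
      (∀ x, v x ≤ 1 ↔ ∃ s ∉ W, algebraMap R L s * x ∈ Set.range (algebraMap R L)) ∧
      ∀ r, v (algebraMap R L r) < 1 ↔ r ∈ W := by
  have hle : W.primeCompl ≤ nonZeroDivisors R := Ideal.primeCompl_le_nonZeroDivisors W
  let S := Localization.subalgebra.ofField L W.primeCompl hle
  haveI hloc : IsLocalization.AtPrime S W := Localization.subalgebra.isLocalization_ofField L _ hle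
  haveI : IsLocalRing S := IsLocalization.AtPrime.isLocalRing S W
  haveI : IsNoetherianRing S := IsLocalization.isNoetherianRing W.primeCompl S inferInstance
  haveI : IsIntegrallyClosed S := isIntegrallyClosed_of_isLocalization S W.primeCompl hle
  have hmax : ∀ r, algebraMap R S r ∈ IsLocalRing.maximalIdeal S ↔ r ∈ W := fun r =>
    IsLocalization.AtPrime.to_map_mem_maximal_iff S W r
  have hW0 : W ≠ ⊥ := fun h => by rw [h, Ideal.height_bot] at hW; exact zero_ne_one hW
  have hne : IsLocalRing.maximalIdeal S ≠ ⊥ := by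
    obtain ⟨f, hfW, hf⟩ := Submodule.exists_mem_ne_zero_of_ne_bot hW0
    refine fun h => hf ?_
    have : algebraMap R S f = 0 := Ideal.mem_bot.mp (h ▸ (hmax f).mpr hfW)
    exact IsLocalization.injective S hle (this.trans (map_zero _).symm)
  haveI hdvr : IsDiscreteValuationRing S := by
    have hnf : ¬ IsField S := fun h => hne (IsLocalRing.isField_iff_maximalIdeal_eq.mp h)
    have hiff : IsIntegrallyClosed S ∧ (∃! P : Ideal S, P ≠ ⊥ ∧ P.IsPrime) ↔ IsDiscreteValuationRing S :=
      (IsDiscreteValuationRing.TFAE S hnf).out 3 0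
    refine hiff.mp ⟨inferInstance, IsLocalRing.maximalIdeal S, ⟨hne, inferInstance⟩, fun P ⟨hP0, hP⟩ => ?_⟩
    haveI := hP
    have hPW : P.comap (algebraMap R S) ≤ W := fun r hr =>
      (hmax r).mp (IsLocalRing.le_maximalIdeal hP.ne_top hr)
    have hP0' : P.comap (algebraMap R S) ≠ ⊥ := fun h => hP0 (by
      rw [← IsLocalization.map_comap W.primeCompl S P, Ideal.under_def, h, Ideal.map_bot])
    have := Groth.Calg6.Krull.height_one_le hW inferInstance hP0' hPW
    rw [← IsLocalization.map_comap W.primeCompl S P, Ideal.under_def, this, IsLocalization.AtPrime.map_eq_maximalIdeal]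
  refine ⟨(IsDiscreteValuationRing.maximalIdeal S).valuation L, fun x => ⟨fun hx => ?_, ?_⟩, fun r => ?_⟩
  · obtain ⟨a, rfl⟩ := IsDiscreteValuationRing.exists_lift_of_le_one hx
    obtain ⟨⟨r, s⟩, hrs⟩ := IsLocalization.surj W.primeCompl a
    refine ⟨s, s.2, r, ?_⟩
    rw [IsScalarTower.algebraMap_apply R S L, IsScalarTower.algebraMap_apply R S L, ← map_mul,
      ← hrs, mul_comm]
  · rintro ⟨s, hs, r, hr⟩
    obtain ⟨u, hu⟩ := (IsLocalization.map_units S (⟨s, hs⟩ : W.primeCompl))
    have hx : x = algebraMap S L (↑u⁻¹ * algebraMap R S r) := by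
      rw [map_mul, ← IsScalarTower.algebraMap_apply R S L, hr, IsScalarTower.algebraMap_apply R S L,
        ← mul_assoc, ← map_mul, ← hu, Units.inv_mul, map_one, one_mul]
    rw [hx]; exact IsDedekindDomain.HeightOneSpectrum.valuation_le_one _ _
  · rw [IsScalarTower.algebraMap_apply R S L, IsDedekindDomain.HeightOneSpectrum.valuation_lt_one_iff_mem]
    exact hmax r

variable {A : Type u} [CommRing A] [IsDomain A] [IsNoetherianRing A]
variable {K : Type u} [Field K] [Algebra A K] [IsFractionRing A K]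
variable {C : Type u} [CommRing C] [IsNoetherianRing C] [Algebra A C] [Module.FaithfullyFlat A C]

omit [IsNoetherianRing A] [Module.FaithfullyFlat A C] in
theorem isNoetherian_B (q : MP C) [Module.Finite (C ⧸ q.1) (B q)] : IsNoetherianRing (B q) :=
  IsNoetherianRing.of_finite (C ⧸ q.1) (B q)

theorem isFractionRing_B (q : MP C) : IsFractionRing (B q) (L q) :=
  integralClosure.isFractionRing_of_finite_extension (L q) (L q)

theorem isIntegrallyClosed_B (q : MP C) : IsIntegrallyClosed (B q) :=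
  integralClosure.isIntegrallyClosedOfFiniteExtension (L q)

/-- Height one primes of the normalised components. -/
abbrev Idx (C : Type u) [CommRing C] :=
  Σ q : MP C, {W : Ideal (B q) // W.IsPrime ∧ W.height = 1}

variable (hN : ∀ q : MP C, Module.Finite (C ⧸ q.1) (B q))

/-- The valuations on the components. -/
noncomputable def v (i : Idx C) : Valuation (L i.1) ℤᵐ⁰ :=
  haveI := hN i.1
  haveI := isNoetherian_B i.1
  haveI := isFractionRing_B i.1
  haveI := isIntegrallyClosed_B i.1
  haveI := i.2.2.1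
  (exists_valuation (L i.1) i.2.1 i.2.2.2).choose

omit [IsNoetherianRing A] [Module.FaithfullyFlat A C] in
theorem v_le_one (i : Idx C) (x : L i.1) :
    v hN i x ≤ 1 ↔ ∃ s ∉ i.2.1, algebraMap (B i.1) (L i.1) s * x ∈ Set.range (algebraMap (B i.1) (L i.1)) :=
  haveI := hN i.1
  haveI := isNoetherian_B i.1
  haveI := isFractionRing_B i.1
  haveI := isIntegrallyClosed_B i.1
  haveI := i.2.2.1
  (exists_valuation (L i.1) i.2.1 i.2.2.2).choose_spec.1 x

omit [IsNoetherianRing A] [Module.FaithfullyFlat A C] in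
theorem v_lt_one (i : Idx C) (r : B i.1) : v hN i (r : L i.1) < 1 ↔ r ∈ i.2.1 :=
  haveI := hN i.1
  haveI := isNoetherian_B i.1
  haveI := isFractionRing_B i.1
  haveI := isIntegrallyClosed_B i.1
  haveI := i.2.2.1
  (exists_valuation (L i.1) i.2.1 i.2.2.2).choose_spec.2 r

/-- The family of valuations on the fraction field. -/
noncomputable def w (i : Idx C) : Valuation K ℤᵐ⁰ :=
  (v hN i).comap (σ A K i.1 : K →ₐ[A] L i.1).toRingHom

theorem one_mul_mem_range {R F : Type*} [CommRing R] [Field F] [Algebra R F] (S : Subalgebra R F)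
    (b : S) (x : F) (h : (b : F) = x) : algebraMap S F 1 * x ∈ Set.range (algebraMap S F) :=
  ⟨b, by rw [map_one, one_mul]; exact h⟩

/-- The valuations cut out the integral closure. -/
theorem mem_iff (x : K) :
    (∃ b : integralClosure A K, algebraMap (integralClosure A K) K b = x) ↔
      ∀ i, w (A := A) hN i x ≤ 1 := by
  constructor
  · rintro ⟨b, rfl⟩ i
    show v hN i (σ A K i.1 (b : K)) ≤ 1
    exact (v_le_one hN i _).mpr ⟨1, fun h => i.2.2.1.ne_top ((Ideal.eq_top_iff_one _).mpr h),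
      one_mul_mem_range (B i.1) (σB A K i.1 b) _ (σB_coe A K i.1 b)⟩
  · intro h
    refine ⟨⟨x, (isIntegral_iff (C := C) A K x).mpr fun q => ?_⟩, rfl⟩
    haveI := hN q
    haveI := isNoetherian_B q
    haveI := isFractionRing_B q
    haveI := isIntegrallyClosed_B q
    obtain ⟨b, hb⟩ := Groth.RefRank.mem_range_of_height_one (A := B q) (σ A K q x) fun W hW hW1 =>
      (v_le_one hN ⟨q, W, hW, hW1⟩ _).mp (h ⟨q, W, hW, hW1⟩)
    rw [← hb]; exact b.2

omit [IsNoetherianRing A] [Module.FaithfullyFlat A C] in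
theorem finite_containing (q : MP C) (hq : Module.Finite (C ⧸ q.1) (B q)) (r : B q) (hr : r ≠ 0) :
    {W : Ideal (B q) | W.IsPrime ∧ W.height = 1 ∧ r ∈ W}.Finite := by
  haveI := hq
  haveI := isNoetherian_B q
  refine ((Ideal.span {r}).finite_minimalPrimes_of_isNoetherianRing).subset ?_
  rintro W ⟨hW, hW1, hrW⟩
  haveI := hW
  obtain ⟨P, hP, hPW⟩ := Ideal.exists_minimalPrimes_le (I := Ideal.span {r}) (J := W)
    (by rwa [Ideal.span_singleton_le_iff_mem])
  have hP0 : P ≠ ⊥ := fun h => hr (by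
    have := hP.1.2 (Ideal.mem_span_singleton_self r)
    rwa [h, Ideal.mem_bot] at this)
  rwa [← Groth.Calg6.Krull.height_one_le hW1 hP.1.1 hP0 hPW]

theorem w_finite (b : integralClosure A K) (hb : b ≠ 0) :
    {i : Idx C | w (A := A) hN i (algebraMap (integralClosure A K) K b) < 1}.Finite := by
  haveI := finite_mp (C := C)
  have hb' : ∀ q : MP C, σB A K q b ≠ 0 := fun q h => hb (Subtype.ext ((σ A K q).toRingHom.injective
    (by simpa using congrArg Subtype.val h)))
  refine ((Set.finite_univ (α := MP C)).biUnion fun q _ =>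
    ((finite_containing q (hN q) _ (hb' q)).preimage' (f := fun W : {W : Ideal (B q) // W.IsPrime ∧ W.height = 1} => W.1)
      fun W _ => (Set.subsingleton_singleton.preimage Subtype.val_injective).finite).image
        (Sigma.mk q)).subset ?_
  rintro ⟨q, W⟩ (hW : v hN ⟨q, W⟩ (σB A K q b : L q) < 1)
  exact Set.mem_biUnion (Set.mem_univ q) ⟨W, ⟨W.2.1, W.2.2, (v_lt_one hN ⟨q, W⟩ _).mp hW⟩, rfl⟩

omit [IsNoetherianRing A] [Module.FaithfullyFlat A C] in
/-- An element of `C` which trivialises all components but one, and whose image lies in the conductor. -/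
theorem exists_conductor (q₀ : MP C) (hq : Module.Finite (C ⧸ q₀.1) (B q₀)) :
    ∃ f : C, (∀ q : MP C, q ≠ q₀ → f ∈ q.1) ∧ f ∉ q₀.1 ∧
      ∀ b : B q₀, ∃ c : C, algebraMap C (B q₀) f * b = algebraMap C (B q₀) c := by
  classical
  haveI := finite_mp (C := C)
  cases nonempty_fintype (MP C)
  have he : ∀ q : MP C, q ≠ q₀ → ∃ e, e ∈ q.1 ∧ e ∉ q₀.1 := by
    intro q hne
    refine SetLike.not_le_iff_exists.mp fun hle => hne (Subtype.ext ?_)
    exact le_antisymm hle (q₀.2.2 q.2.1 hle)
  choose! e he using he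
  haveI := hq
  obtain ⟨T, hT⟩ := Module.Finite.fg_top (R := C ⧸ q₀.1) (M := B q₀)
  obtain ⟨d, hd⟩ := IsLocalization.exist_integer_multiples (nonZeroDivisors (C ⧸ q₀.1)) T
    (fun b : B q₀ => (b : L q₀))
  obtain ⟨d', hd'⟩ := Ideal.Quotient.mk_surjective (d : C ⧸ q₀.1)
  have hd0 : d' ∉ q₀.1 := fun h => nonZeroDivisors.ne_zero d.2 (by
    rw [← hd', Ideal.Quotient.eq_zero_iff_mem.mpr h])
  set E := ∏ q ∈ Finset.univ.erase q₀, e q
  refine ⟨E * d', fun q hne => ?_, fun h => ?_, fun b => ?_⟩
  · exact q.1.mul_mem_right _ (Ideal.IsPrime.prod_mem_iff.mpr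
      ⟨q, Finset.mem_erase.mpr ⟨hne, Finset.mem_univ q⟩, (he q hne).1⟩)
  · rcases (inferInstance : q₀.1.IsPrime).mem_or_mem h with h | h
    · obtain ⟨q, hq', hqe⟩ := Ideal.IsPrime.prod_mem_iff.mp h
      exact (he q (Finset.ne_of_mem_erase hq')).2 hqe
    · exact hd0 h
  · have hb : b ∈ Submodule.span (C ⧸ q₀.1) (T : Set (B q₀)) := hT ▸ Submodule.mem_top
    induction hb using Submodule.span_induction with
    | mem x hx =>
      obtain ⟨z, hz⟩ := hd x hx
      obtain ⟨z', rfl⟩ := Ideal.Quotient.mk_surjective z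
      refine ⟨E * z', Subtype.ext ?_⟩
      have hz' : algebraMap C (L q₀) z' = algebraMap C (L q₀) d' * (x : L q₀) := by
        rw [IsScalarTower.algebraMap_apply C (C ⧸ q₀.1) (L q₀),
          IsScalarTower.algebraMap_apply C (C ⧸ q₀.1) (L q₀), Ideal.Quotient.algebraMap_eq, hz, hd',
          Algebra.smul_def]
      show algebraMap C (L q₀) (E * d') * (x : L q₀) = algebraMap C (L q₀) (E * z')
      rw [map_mul, map_mul, hz', mul_assoc]
    | zero => exact ⟨0, by simp⟩
    | add x y _ _ hx hy =>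
      obtain ⟨c, hc⟩ := hx
      obtain ⟨c', hc'⟩ := hy
      exact ⟨c + c', by rw [mul_add, hc, hc', map_add]⟩
    | smul r x _ hx =>
      obtain ⟨c, hc⟩ := hx
      obtain ⟨r', rfl⟩ := Ideal.Quotient.mk_surjective r
      refine ⟨r' * c, ?_⟩
      rw [Algebra.smul_def, mul_left_comm, hc, map_mul, ← Ideal.Quotient.algebraMap_eq,
        ← IsScalarTower.algebraMap_apply C (C ⧸ q₀.1) (B q₀)]

omit [IsNoetherianRing A] in
/-- Finitely many primes of the integral closure lie over a given one. -/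
theorem finite_over (hN : ∀ q : MP C, Module.Finite (C ⧸ q.1) (B q)) (p : Ideal A) [p.IsPrime] :
    {P : Ideal (integralClosure A K) | P.IsPrime ∧ P.comap (algebraMap A _) = p}.Finite := by
  haveI := finite_mp (C := C)
  obtain ⟨Q', hQ'⟩ := PrimeSpectrum.comap_surjective_of_faithfullyFlat (B := C) ⟨p, inferInstance⟩
  have hfib : ∀ q : MP C, {W : Ideal (B q) | W.IsPrime ∧ W.comap (algebraMap C (B q)) = Q'.asIdeal}.Finite := by
    intro q
    haveI := hN q
    haveI : Module.Finite C (B q) := Module.Finite.trans (C ⧸ q.1) (B q)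
    refine (Algebra.QuasiFinite.finite_primesOver (R := C) (S := B q) Q'.asIdeal).subset ?_
    rintro W ⟨hW, hWQ⟩
    exact ⟨hW, ⟨hWQ.symm⟩⟩
  refine ((Set.finite_univ (α := MP C)).biUnion fun q _ =>
    (hfib q).image fun W => W.comap (σB A K q)).subset ?_
  rintro P ⟨hP, hPp⟩
  haveI := hP
  obtain ⟨q, W, hW, hWQ, hWP⟩ := exists_component A K P Q'.asIdeal
    (hPp.trans (congrArg PrimeSpectrum.asIdeal hQ').symm)
  exact Set.mem_biUnion (Set.mem_univ q) ⟨W, ⟨hW, hWQ⟩, hWP⟩

include hN in
/-- Only finitely many primes of the base carry several height one primes of the integral closure. -/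
theorem exists_bad : ∃ Bad : Set (Ideal A), Bad.Finite ∧ (∀ p ∈ Bad, p.IsPrime) ∧
    ∀ (P P' : Ideal (integralClosure A K)) [P.IsPrime] [P'.IsPrime], P.height = 1 →
      P.comap (algebraMap A _) = P'.comap (algebraMap A _) →
      P.comap (algebraMap A _) ∈ Bad ∨ P = P' := by
  classical
  haveI := finite_mp (C := C)
  choose f hf1 hf2 hf3 using fun q : MP C => exists_conductor q (hN q)
  have hf0 : ∀ q : MP C, algebraMap C (B q) (f q) ≠ 0 := fun q h => hf2 q (by
    rw [← Ideal.Quotient.eq_zero_iff_mem, ← Ideal.Quotient.algebraMap_eq]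
    apply IsFractionRing.injective (C ⧸ q.1) (L q)
    rw [← IsScalarTower.algebraMap_apply C (C ⧸ q.1) (L q), map_zero]
    exact congrArg Subtype.val h)
  refine ⟨⋃ q : MP C, (fun W : Ideal (B q) => W.comap ((σB A K q).toRingHom.comp (algebraMap A _))) ''
      {W | W.IsPrime ∧ W.height = 1 ∧ algebraMap C (B q) (f q) ∈ W},
    Set.finite_iUnion fun q => (finite_containing q (hN q) _ (hf0 q)).image _, ?_, ?_⟩
  · intro p hp
    obtain ⟨q, W, hW, rfl⟩ := Set.mem_iUnion.mp hp
    haveI := hW.1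
    infer_instance
  · intro P P' _ _ hP1 hPP'
    obtain ⟨⟨q₀, W₀, hW₀, hW₀1⟩, hi⟩ := Groth.Calg6.Krull.exists_centre_eq
      (B := integralClosure A K) (w (A := A) hN) (mem_iff hN) (w_finite hN) hP1
    haveI := hW₀
    have hPW : W₀.comap (σB A K q₀) = P := by
      rw [← hi]
      ext b
      exact (v_lt_one hN ⟨q₀, W₀, hW₀, hW₀1⟩ (σB A K q₀ b)).symm
    by_cases hfW : algebraMap C (B q₀) (f q₀) ∈ W₀
    · left
      refine Set.mem_iUnion.mpr ⟨q₀, W₀, ⟨hW₀, hW₀1, hfW⟩, ?_⟩
      rw [← hPW]; rfl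
    right
    obtain ⟨q, W, hW, hWQ, hWP⟩ := exists_component A K P' (W₀.comap (algebraMap C (B q₀))) (by
      rw [← hPP', ← hPW]
      ext a
      simp only [Ideal.mem_comap]
      rw [AlgHom.commutes, IsScalarTower.algebraMap_apply A C (B q₀)])
    haveI := hW
    rw [← hWP, ← hPW, component_unique A K q₀ (f q₀) (hf1 q₀) (hf3 q₀) q W W₀ hfW hWQ]

include hN in
/-- Mori–Nagata: the integral closure is a Krull domain with valuations coming from a finite subalgebra. -/
theorem exists_finite_subalgebra :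
    ∃ C₀ : Subalgebra A K, Module.Finite A C₀ ∧
      (∀ (p : Ideal C₀) [p.IsPrime], p.height = 1 →
        ∃ V : ValuationSubring K, IsDiscreteValuationRing V ∧
          ∀ x : K, x ∈ V ↔ ∃ s : C₀, s ∉ p ∧ IsIntegral C₀ ((s : K) * x)) ∧
      (∀ x : K, x ∈ integralClosure A K ↔
        ∀ (p : Ideal C₀) [p.IsPrime], p.height = 1 → ∃ s : C₀, s ∉ p ∧ IsIntegral C₀ ((s : K) * x)) ∧
      (∀ x : K, {p : Ideal C₀ | p.IsPrime ∧ p.height = 1 ∧
        ¬ ∃ s : C₀, s ∉ p ∧ IsIntegral C₀ ((s : K) * x)}.Finite) := by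
  classical
  obtain ⟨Bad, hBad, hBadP, hbad⟩ := exists_bad (A := A) (K := K) hN
  let A' := integralClosure A K
  let S : Set (Ideal A') := ⋃ p ∈ Bad, {P | P.IsPrime ∧ P.comap (algebraMap A A') = p}
  have hS : S.Finite := hBad.biUnion fun p hp => by
    haveI := hBadP p hp
    exact finite_over hN p
  let pairs : Set (Ideal A' × Ideal A') := {x ∈ S ×ˢ S | ¬ x.1 ≤ x.2}
  have hpairs : pairs.Finite := (hS.prod hS).subset fun x hx => hx.1
  have hex : ∀ x ∈ pairs, ∃ e : A', e ∈ x.1 ∧ e ∉ x.2 := fun x hx => SetLike.not_le_iff_exists.mp hx.2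
  choose! e he using hex
  let E : Set K := (fun x => (e x : K)) '' pairs
  let C₀ : Subalgebra A K := Algebra.adjoin A E
  have hC₀fin : Module.Finite A C₀ := Module.Finite.iff_fg.mpr
    (fg_adjoin_of_finite (hpairs.image _) (by rintro _ ⟨x, _, rfl⟩; exact (e x).2))
  have hle : C₀ ≤ A' := Algebra.adjoin_le (by rintro _ ⟨x, _, rfl⟩; exact (e x).2)
  let j : C₀ →ₐ[A] A' := Subalgebra.inclusion hle
  letI : Algebra C₀ A' := j.toRingHom.toAlgebra
  haveI : IsScalarTower A C₀ A' := IsScalarTower.of_algebraMap_eq fun a => (j.commutes a).symm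
  haveI : Algebra.IsIntegral A A' := IsIntegralClosure.isIntegral_algebra A K
  haveI : Algebra.IsIntegral C₀ A' := Algebra.IsIntegral.tower_top (R := A)
  haveI : FaithfulSMul C₀ A' :=
    (faithfulSMul_iff_algebraMap_injective _ _).mpr (Subalgebra.inclusion_injective hle)
  haveI : IsFractionRing A' K := integralClosure.isFractionRing_of_finite_extension K K
  haveI : Algebra.IsIntegral A C₀ := Algebra.IsIntegral.of_finite A C₀
  have hint : ∀ z : K, IsIntegral C₀ z ↔ z ∈ A' :=
    fun z => ⟨fun h => isIntegral_trans z h, fun h => (show IsIntegral A z from h).tower_top⟩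
  -- uniqueness over the finite subalgebra
  have huniq : ∀ (P P' : Ideal A') [P.IsPrime] [P'.IsPrime], P.height = 1 →
      P.comap (algebraMap C₀ A') = P'.comap (algebraMap C₀ A') → P = P' := by
    intro P P' _ _ hP1 h
    have hA : P.comap (algebraMap A A') = P'.comap (algebraMap A A') := by
      rw [IsScalarTower.algebraMap_eq A C₀ A', ← Ideal.comap_comap, h, Ideal.comap_comap]
    rcases hbad P P' hP1 hA with hb | rfl
    · have hPS : P ∈ S := Set.mem_biUnion hb ⟨inferInstance, rfl⟩
      have hP'S : P' ∈ S := Set.mem_biUnion hb ⟨inferInstance, hA.symm⟩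
      have key : ∀ (Q Q' : Ideal A'), Q ∈ S → Q' ∈ S →
          Q.comap (algebraMap C₀ A') = Q'.comap (algebraMap C₀ A') → Q ≤ Q' := by
        intro Q Q' hQ hQ' hc
        by_contra hne
        have hx : (Q, Q') ∈ pairs := ⟨⟨hQ, hQ'⟩, hne⟩
        let eC : C₀ := ⟨e (Q, Q'), Algebra.subset_adjoin ⟨_, hx, rfl⟩⟩
        have : eC ∈ Q.comap (algebraMap C₀ A') := (he _ hx).1
        rw [hc] at this
        exact (he _ hx).2 this
      exact le_antisymm (key P P' hPS hP'S h) (key P' P hP'S hPS h.symm)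
    · rfl
  -- height one primes correspond
  have hup : ∀ (p : Ideal C₀) [p.IsPrime], p.height = 1 →
      ∃ (P : Ideal A') (_ : P.IsPrime), P.height = 1 ∧ P.comap (algebraMap C₀ A') = p := by
    intro p _ hp1
    obtain ⟨P, -, hP, hPp⟩ := Ideal.exists_ideal_over_prime_of_isIntegral (S := A') p ⊥ (by
      rw [← RingHom.ker_eq_comap_bot, (RingHom.injective_iff_ker_eq_bot _).mp
        (FaithfulSMul.algebraMap_injective C₀ A')]
      exact bot_le)
    haveI := hP
    refine ⟨P, hP, le_antisymm ?_ ?_, hPp⟩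
    · refine Ideal.height_le_iff.mpr fun Q hQ hQP => ?_
      rw [Nat.cast_one, Order.lt_one_iff, Ideal.height_eq_zero_iff, IsDomain.minimalPrimes_eq_singleton_bot,
        Set.mem_singleton_iff]
      haveI := hQ
      by_contra hQ0
      have h1 := Ideal.IsIntegral.comap_ne_bot (R := C₀) hQ0
      have h2 := Ideal.comap_lt_comap_of_integral_mem_sdiff hQP.le
        (Set.diff_nonempty.mpr fun h => hQP.not_ge h).some_mem
        (Algebra.IsIntegral.isIntegral (R := C₀) _)
      rw [hPp] at h2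
      exact h2.ne (Groth.Calg6.Krull.height_one_le hp1 inferInstance h1 h2.le)
    · rw [Order.one_le_iff_pos, pos_iff_ne_zero, ne_eq, Ideal.height_eq_zero_iff,
        IsDomain.minimalPrimes_eq_singleton_bot, Set.mem_singleton_iff]
      rintro rfl
      rw [← hPp, Ideal.comap_bot_of_injective _ (FaithfulSMul.algebraMap_injective C₀ A'),
        Ideal.height_bot] at hp1
      exact zero_ne_one hp1
  have hdown : ∀ (P : Ideal A') [P.IsPrime], P.height = 1 → (P.comap (algebraMap C₀ A')).height = 1 := by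
    intro P _ hP1
    have hP0 : P ≠ ⊥ := fun h => by rw [h, Ideal.height_bot] at hP1; exact zero_ne_one hP1
    refine le_antisymm ?_ ?_
    · refine Ideal.height_le_iff.mpr fun q hq hqP => ?_
      rw [Nat.cast_one, Order.lt_one_iff, Ideal.height_eq_zero_iff, IsDomain.minimalPrimes_eq_singleton_bot,
        Set.mem_singleton_iff]
      haveI := hq
      by_contra hq0
      obtain ⟨Q, -, hQ, hQq⟩ := Ideal.exists_ideal_over_prime_of_isIntegral (S := A') q ⊥ (by
        rw [← RingHom.ker_eq_comap_bot, (RingHom.injective_iff_ker_eq_bot _).mp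
          (FaithfulSMul.algebraMap_injective C₀ A')]
        exact bot_le)
      haveI := hQ
      obtain ⟨P', hQP', hP', hP'p⟩ := Ideal.exists_ideal_over_prime_of_isIntegral (S := A')
        (P.comap (algebraMap C₀ A')) Q (hQq.le.trans hqP.le)
      haveI := hP'
      obtain rfl : P = P' := huniq P P' hP1 hP'p.symm
      have hQ0 : Q ≠ ⊥ := fun h => hq0 (by
        rw [← hQq, h, Ideal.comap_bot_of_injective _ (FaithfulSMul.algebraMap_injective C₀ A')])
      have := Groth.Calg6.Krull.height_one_le hP1 hQ hQ0 hQP'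
      subst this
      exact hqP.ne hQq.symm
    · rw [Order.one_le_iff_pos, pos_iff_ne_zero, ne_eq, Ideal.height_eq_zero_iff,
        IsDomain.minimalPrimes_eq_singleton_bot, Set.mem_singleton_iff]
      exact Ideal.IsIntegral.comap_ne_bot (R := C₀) hP0
  -- the criterion in terms of the valuations
  have hcrit : ∀ (P : Ideal A') [P.IsPrime], P.height = 1 → ∀ i,
      Groth.Calg6.Krull.centre (B := A') (w (A := A) hN)
        (Groth.Calg6.Krull.le_one (B := A') _ (mem_iff hN)) i = P → ∀ x,
        (w (A := A) hN i x ≤ 1 ↔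
          ∃ s : C₀, s ∉ P.comap (algebraMap C₀ A') ∧ IsIntegral C₀ ((s : K) * x)) := by
    intro P _ hP1 i hi x
    rw [Groth.Calg6.Krull.le_one_iff (B := A') (w (A := A) hN) (mem_iff hN) (w_finite hN) hP1 i hi x]
    constructor
    · rintro ⟨s', hs', b, hb⟩
      have hnle : ¬ (Ideal.span {s'}).comap (algebraMap C₀ A') ≤ P.comap (algebraMap C₀ A') := fun hc => by
        obtain ⟨P', hP'ge, hP', hP'p⟩ :=
          Ideal.exists_ideal_over_prime_of_isIntegral (S := A') (P.comap (algebraMap C₀ A')) _ hc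
        haveI := hP'
        exact hs' ((huniq P P' hP1 hP'p.symm) ▸ hP'ge (Ideal.mem_span_singleton_self s'))
      obtain ⟨s, hs, hsP⟩ := SetLike.not_le_iff_exists.mp hnle
      obtain ⟨a, ha⟩ := Ideal.mem_span_singleton'.mp hs
      refine ⟨s, hsP, (hint _).mpr ?_⟩
      have : (s : K) * x = ((a * b : A') : K) := by
        rw [Subalgebra.coe_mul]
        change _ = (a : K) * algebraMap A' K b
        rw [hb, ← mul_assoc]
        congr 1
        exact (congrArg Subtype.val ha).symm
      rw [this]; exact (a * b).2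
    · rintro ⟨s, hs, hsx⟩
      exact ⟨algebraMap C₀ A' s, hs, ⟨_, (hint _).mp hsx⟩, rfl⟩
  refine ⟨C₀, hC₀fin, fun p _ hp1 => ?_, fun x => ⟨fun hx p hp _ => ?_, fun h => ?_⟩, fun x => ?_⟩
  · obtain ⟨P, hP, hP1, rfl⟩ := hup p hp1
    obtain ⟨i, hi⟩ := Groth.Calg6.Krull.exists_centre_eq
      (B := A') (w (A := A) hN) (mem_iff hN) (w_finite hN) hP1
    refine ⟨(w (A := A) hN i).valuationSubring, ?_, fun x => hcrit P hP1 i hi x⟩
    obtain ⟨b, hbP, hb0⟩ := Submodule.exists_mem_ne_zero_of_ne_bot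
      (show P ≠ ⊥ from fun h => by rw [h, Ideal.height_bot] at hP1; exact zero_ne_one hP1)
    have hb1 : w (A := A) hN i (algebraMap A' K b) < 1 := by rw [← hi] at hbP; exact hbP
    haveI : Nontrivial (MonoidWithZeroHom.valueGroup
        (MonoidWithZeroHom.ofClass (w (A := A) (K := K) hN i))) := by
      have hne : w (A := A) hN i (algebraMap A' K b) ≠ 0 :=
        (Valuation.ne_zero_iff _).mpr fun h => hb0 (IsFractionRing.injective A' K (h.trans (map_zero _).symm))
      rw [Subgroup.nontrivial_iff_exists_ne_one]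
      refine ⟨Units.mk0 _ hne, MonoidWithZeroHom.mem_valueGroup _ ⟨algebraMap A' K b, rfl⟩, fun h => ?_⟩
      exact hb1.ne (congrArg Units.val h)
    infer_instance
  · exact ⟨1, fun h => hp.ne_top ((Ideal.eq_top_iff_one _).mpr h),
      (hint _).mpr (by rw [OneMemClass.coe_one, one_mul]; exact hx)⟩
  · obtain ⟨b, hb⟩ := Groth.Calg6.Krull.mem_of_forall_height_one
      (B := A') (w (A := A) hN) (mem_iff hN) (w_finite hN) x fun P hP hP1 => by
        haveI := hP
        obtain ⟨s, hs, hsx⟩ := h _ (hdown P hP1)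
        exact ⟨algebraMap C₀ A' s, hs, ⟨_, (hint _).mp hsx⟩, rfl⟩
    rw [← hb]; exact b.2
  · refine ((Groth.Calg6.Krull.finite_neg (B := A') (w (A := A) hN) (mem_iff hN) (w_finite hN) x).image
      fun i => (Groth.Calg6.Krull.centre (B := A') (w (A := A) hN)
        (Groth.Calg6.Krull.le_one (B := A') _ (mem_iff hN)) i).comap (algebraMap C₀ A')).subset ?_
    rintro p ⟨hp, hp1, hno⟩
    haveI := hp
    obtain ⟨P, hP, hP1, rfl⟩ := hup p hp1
    obtain ⟨i, hi⟩ := Groth.Calg6.Krull.exists_centre_eq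
      (B := A') (w (A := A) hN) (mem_iff hN) (w_finite hN) hP1
    refine ⟨i, not_le.mp fun hx => hno ((hcrit P hP1 i hi x).mp hx), ?_⟩
    show Ideal.comap _ _ = _
    rw [hi]

end Groth.Calg6.MN
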