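import Mathlib

/-! The standard semistable node `V[x, y]/(xy - ϖ)` and functions étale on its generic fibre. -/

set_option autoImplicit false
universe u

open scoped Polynomial

namespace Groth.Calg6.Node

open MvPolynomial

variable (V : Type u) [CommRing V] (ϖ : V)

/-- The coordinate ring of the node. -/
abbrev Q := MvPolynomial (Fin 2) V ⧸ Ideal.span {(X 0 * X 1 - C ϖ : MvPolynomial (Fin 2) V)}

/-- The quotient map. -/
noncomputable abbrev mk : MvPolynomial (Fin 2) V →+* Q V ϖ := Ideal.Quotient.mk _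

variable {V}

theorem cases_index {i j : Fin 2} (hij : i ≠ j) (l : Fin 2) : l = i ∨ l = j := by omega

theorem X_mul_X {i j : Fin 2} (hij : i ≠ j) : mk V ϖ (X i) * mk V ϖ (X j) = mk V ϖ (C ϖ) := by
  rw [← map_mul, ← sub_eq_zero, ← map_sub, Ideal.Quotient.eq_zero_iff_mem, Ideal.mem_span_singleton]
  fin_cases i <;> fin_cases j <;> simp at hij ⊢
  rw [mul_comm]

section Branch

variable [IsLocalRing V]

/-- Restriction of a polynomial to the branch `x_i = 0`. -/
noncomputable def rho (i : Fin 2) : MvPolynomial (Fin 2) V →ₐ[V] V[X] :=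
  aeval fun l => if l = i then 0 else Polynomial.X

/-- Restriction to the branch on the closed fibre. -/
noncomputable def psi0 (i : Fin 2) : MvPolynomial (Fin 2) V →+* (IsLocalRing.ResidueField V)[X] :=
  (Polynomial.mapRingHom (IsLocalRing.residue V)).comp (rho i).toRingHom

theorem psi0_apply (i : Fin 2) (p : MvPolynomial (Fin 2) V) :
    psi0 i p = (rho i p).map (IsLocalRing.residue V) := rfl

variable {ϖ} (hm : IsLocalRing.maximalIdeal V = Ideal.span {ϖ})

include hm in
theorem psi0_rel (i : Fin 2) : psi0 i (X 0 * X 1 - C ϖ : MvPolynomial (Fin 2) V) = 0 := by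
  have h : IsLocalRing.residue V ϖ = 0 :=
    (IsLocalRing.residue_eq_zero_iff ϖ).mpr (hm ▸ Ideal.mem_span_singleton_self ϖ)
  fin_cases i <;> simp [psi0_apply, rho, h]

/-- Restriction to the branch on the closed fibre, from the node. -/
noncomputable def psi (i : Fin 2) : Q V ϖ →+* (IsLocalRing.ResidueField V)[X] :=
  Ideal.Quotient.lift _ (psi0 i) fun a ha => by
    obtain ⟨c, rfl⟩ := Ideal.mem_span_singleton'.mp ha
    rw [map_mul, psi0_rel hm, mul_zero]

theorem psi_mk (i : Fin 2) (p : MvPolynomial (Fin 2) V) : psi hm i (mk V ϖ p) = psi0 i p := rfl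

include hm in
theorem ker_psi {i j : Fin 2} (hij : i ≠ j) (q : Q V ϖ) :
    psi hm i q = 0 ↔ q ∈ Ideal.span {mk V ϖ (X i)} := by
  constructor
  · intro h
    obtain ⟨p, rfl⟩ := Ideal.Quotient.mk_surjective q
    let I : Ideal (Q V ϖ) := Ideal.span {mk V ϖ (X i)}
    let r : MvPolynomial (Fin 2) V →+* Q V ϖ ⧸ I := (Ideal.Quotient.mk I).comp (mk V ϖ)
    have hi : r (X i) = 0 := Ideal.Quotient.eq_zero_iff_mem.mpr (Ideal.mem_span_singleton_self _)
    let τ0 : IsLocalRing.ResidueField V →+* Q V ϖ ⧸ I :=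
      Ideal.Quotient.lift _ (r.comp C) fun a ha => by
        rw [hm] at ha
        obtain ⟨c, rfl⟩ := Ideal.mem_span_singleton'.mp ha
        have : r (C ϖ) = 0 := by
          show Ideal.Quotient.mk I (mk V ϖ (C ϖ)) = 0
          rw [← X_mul_X ϖ hij, map_mul]
          show r (X i) * _ = 0
          rw [hi]
          exact zero_mul (Ideal.Quotient.mk I (mk V ϖ (X j)) : Q V ϖ ⧸ I)
        show r (C (c * ϖ)) = 0
        rw [map_mul, map_mul, this]
        exact mul_zero (r (C c) : Q V ϖ ⧸ I)
    have hr : r = (Polynomial.eval₂RingHom τ0 (r (X j))).comp (psi0 i) := by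
      refine MvPolynomial.ringHom_ext (fun a => ?_) fun l => ?_
      · simp [psi0_apply, τ0, rho]; rfl
      · rcases cases_index hij l with rfl | rfl
        · simp [psi0_apply, rho, hi]
        · simp [psi0_apply, rho, hij.symm]
    refine Ideal.Quotient.eq_zero_iff_mem.mp ?_
    show r p = 0
    rw [hr, RingHom.comp_apply, show psi0 i p = 0 from h, map_zero]
  · intro h
    obtain ⟨c, rfl⟩ := Ideal.mem_span_singleton'.mp h
    have : psi hm i (mk V ϖ (X i)) = 0 := by simp [psi_mk, psi0_apply, rho]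
    rw [map_mul, this, mul_zero]

include hm in
theorem prime_ideal {i j : Fin 2} (hij : i ≠ j) : (Ideal.span {mk V ϖ (X i)}).IsPrime := by
  have : Ideal.span {mk V ϖ (X i)} = RingHom.ker (psi hm i) :=
    Ideal.ext fun q => (ker_psi hm hij q).symm
  rw [this]
  exact RingHom.ker_isPrime _

theorem psi_X {i j : Fin 2} (hij : i ≠ j) : psi hm i (mk V ϖ (X j)) = Polynomial.X := by
  simp [psi_mk, psi0_apply, rho, hij.symm]

/-- The origin. -/
theorem origin_eq (q : Q V ϖ) (hq : q ∉ Ideal.span {mk V ϖ (X 0), mk V ϖ (X 1)}) {i j : Fin 2}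
    (hij : i ≠ j) : (psi hm i q).coeff 0 ≠ 0 := by
  intro h
  obtain ⟨c, hc⟩ := Polynomial.X_dvd_iff.mpr h
  obtain ⟨c', rfl⟩ := Polynomial.map_surjective (IsLocalRing.residue V) IsLocalRing.residue_surjective c
  let c'' : Q V ϖ := mk V ϖ (Polynomial.aeval (X j) c')
  have hc'' : psi hm i c'' = c'.map (IsLocalRing.residue V) := by
    rw [psi_mk, psi0_apply, ← Polynomial.aeval_algHom_apply]
    simp [rho, hij.symm]
  have h1 : q - mk V ϖ (X j) * c'' ∈ Ideal.span {mk V ϖ (X i)} :=
    (ker_psi hm hij _).mp (by rw [map_sub, map_mul, psi_X hm hij, hc'', hc, sub_self])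
  have h2 : ∀ l, mk V ϖ (X l) ∈ Ideal.span {mk V ϖ (X 0), mk V ϖ (X 1)} := fun l => by
    fin_cases l <;> exact Ideal.subset_span (by simp)
  refine hq ?_
  have h3 := (Ideal.span_singleton_le_iff_mem _).mpr (h2 i) h1
  have := Ideal.add_mem _ h3 (Ideal.mul_mem_right c'' _ (h2 j))
  rwa [sub_add_cancel] at this

end Branch

theorem regular_X [IsDomain V] {ϖ : V} (hϖ : ϖ ≠ 0) {i j : Fin 2} (hij : i ≠ j) (q : Q V ϖ)
    (h : mk V ϖ (X i) * q = 0) : q = 0 := by
  obtain ⟨p, rfl⟩ := Ideal.Quotient.mk_surjective q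
  rw [← map_mul, Ideal.Quotient.eq_zero_iff_mem, Ideal.mem_span_singleton] at h
  obtain ⟨c, hc⟩ := h
  have hrel : ¬ (X i : MvPolynomial (Fin 2) V) ∣ (X 0 * X 1 - C ϖ) := fun ⟨d, hd⟩ => hϖ (by
    have := congrArg (MvPolynomial.eval (fun _ => (0 : V))) hd
    simpa using this)
  obtain ⟨c', rfl⟩ : (X i : MvPolynomial (Fin 2) V) ∣ c :=
    ((MvPolynomial.X_prime).dvd_or_dvd (Dvd.intro p hc)).resolve_left hrel
  rw [Ideal.Quotient.eq_zero_iff_mem, Ideal.mem_span_singleton]
  exact ⟨c', mul_left_cancel₀ (MvPolynomial.X_ne_zero i) (by rw [hc]; ring)⟩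

/-- The Euler derivation `x ∂_x - y ∂_y` on polynomials. -/
noncomputable def euler (i j : Fin 2) : Derivation V (MvPolynomial (Fin 2) V) (MvPolynomial (Fin 2) V) :=
  (X i : MvPolynomial (Fin 2) V) • pderiv i - (X j : MvPolynomial (Fin 2) V) • pderiv j

theorem euler_X_left {i j : Fin 2} (hij : i ≠ j) : euler (V := V) i j (X i) = X i := by
  simp [euler, pderiv_X_of_ne hij]

theorem euler_X_right {i j : Fin 2} (hij : i ≠ j) : euler (V := V) i j (X j) = - X j := by
  simp [euler, pderiv_X_of_ne hij.symm]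

theorem rho_euler {i j : Fin 2} (hij : i ≠ j) (p : MvPolynomial (Fin 2) V) :
    rho i (euler i j p) = -(Polynomial.X * Polynomial.derivative (rho i p)) := by
  induction p using MvPolynomial.induction_on with
  | C a => simp [euler, rho]
  | add p q hp hq => simp only [map_add, hp, hq]; ring
  | mul_X p l hp =>
    rw [Derivation.leibniz, smul_eq_mul, smul_eq_mul, map_add, map_mul, map_mul, map_mul, hp,
      Polynomial.derivative_mul]
    rcases cases_index hij l with rfl | rfl
    · rw [euler_X_left hij]; simp [rho]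
    · rw [euler_X_right hij]; simp [rho, hij.symm]; ring

section Open

variable {ϖ} (h : Q V ϖ) (i j : Fin 2)

/-- The coordinates on the open set. -/
noncomputable abbrev t (l : Fin 2) : Localization.Away h :=
  algebraMap (Q V ϖ) (Localization.Away h) (mk V ϖ (X l))

theorem t_mul_t {i j : Fin 2} (hij : i ≠ j) : t h i * t h j = algebraMap V (Localization.Away h) ϖ := by
  rw [← map_mul, X_mul_X ϖ hij, IsScalarTower.algebraMap_apply V (Q V ϖ) (Localization.Away h)]
  rfl

theorem exists_derivation {i j : Fin 2} (hij : i ≠ j) :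
    ∃ D : Derivation V (Localization.Away h) (Localization.Away h),
      ∀ p, D (algebraMap (Q V ϖ) _ (mk V ϖ p)) = algebraMap (Q V ϖ) _ (mk V ϖ (euler i j p)) := by
  classical
  let B := Localization.Away h
  let φ0 : MvPolynomial (Fin 2) V →ₐ[V] TrivSqZeroExt B B :=
    aeval fun l => TrivSqZeroExt.inl (t h l) + TrivSqZeroExt.inr (if l = i then t h l else -(t h l))
  have hX : ∀ l, φ0 (X l) = TrivSqZeroExt.inl (t h l) + TrivSqZeroExt.inr (if l = i then t h l else -(t h l)) :=
    fun l => aeval_X _ l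
  have hφ0 : φ0 (X 0 * X 1 - C ϖ) = 0 := by
    show φ0 (X 0 * X 1 - algebraMap V (MvPolynomial (Fin 2) V) ϖ) = 0
    rw [map_sub, map_mul, AlgHom.commutes, hX, hX, TrivSqZeroExt.algebraMap_eq_inl']
    refine TrivSqZeroExt.ext ?_ ?_
    · simp only [TrivSqZeroExt.fst_sub, TrivSqZeroExt.fst_mul, TrivSqZeroExt.fst_add, TrivSqZeroExt.fst_inl,
        TrivSqZeroExt.fst_inr, TrivSqZeroExt.fst_zero, add_zero,
        t_mul_t h (show (0 : Fin 2) ≠ 1 by decide)]
      exact sub_self _
    · simp only [TrivSqZeroExt.snd_sub, TrivSqZeroExt.snd_mul, TrivSqZeroExt.snd_add, TrivSqZeroExt.snd_inl,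
        TrivSqZeroExt.snd_inr, TrivSqZeroExt.fst_add, TrivSqZeroExt.fst_inl, TrivSqZeroExt.fst_inr,
        TrivSqZeroExt.snd_zero, add_zero, zero_add, sub_zero, smul_eq_mul, op_smul_eq_smul]
      fin_cases i <;> simp at hij ⊢ <;> ring
  let φ1 : Q V ϖ →ₐ[V] TrivSqZeroExt B B := Ideal.Quotient.liftₐ _ φ0 fun a ha => by
    obtain ⟨c, rfl⟩ := Ideal.mem_span_singleton'.mp ha
    rw [map_mul, hφ0, mul_zero]
  have hfst : ∀ q, (φ1 q).fst = algebraMap (Q V ϖ) B q := by
    intro q
    obtain ⟨p, rfl⟩ := Ideal.Quotient.mk_surjective q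
    have : (TrivSqZeroExt.fstHom V B B).comp φ0 =
        (IsScalarTower.toAlgHom V (Q V ϖ) B).comp (Ideal.Quotient.mkₐ V _) :=
      MvPolynomial.algHom_ext fun l => by
        show (φ0 (X l)).fst = _
        rw [hX, TrivSqZeroExt.fst_add, TrivSqZeroExt.fst_inl, TrivSqZeroExt.fst_inr, add_zero]
        rfl
    exact AlgHom.congr_fun this p
  let φ2 : B →ₐ[V] TrivSqZeroExt B B :=
    IsLocalization.liftAlgHom (M := Submonoid.powers h) (f := φ1) fun s => by
      rw [TrivSqZeroExt.isUnit_iff_isUnit_fst, hfst]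
      exact IsLocalization.map_units B s
  have hφ2 : ∀ q, φ2 (algebraMap (Q V ϖ) B q) = φ1 q := fun q => by
    simp [φ2, IsLocalization.lift_eq]
  have hsec : (TrivSqZeroExt.fstHom V B B).comp φ2 = AlgHom.id V B :=
    IsLocalization.algHom_ext (Submonoid.powers h) (AlgHom.ext fun q => by
      show (φ2 (algebraMap (Q V ϖ) B q)).fst = algebraMap (Q V ϖ) B q
      rw [hφ2, hfst])
  have hfst2 : ∀ b, (φ2 b).fst = b := fun b => AlgHom.congr_fun hsec b
  let D : Derivation V B B := Derivation.mk' ((TrivSqZeroExt.sndHom B B).restrictScalars V ∘ₗ φ2.toLinearMap)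
    fun a b => by
      show (φ2 (a * b)).snd = a • (φ2 b).snd + b • (φ2 a).snd
      rw [map_mul, TrivSqZeroExt.snd_mul, hfst2, hfst2, op_smul_eq_smul]
  refine ⟨D, fun p => ?_⟩
  have key : D.compAlgebraMap (MvPolynomial (Fin 2) V) =
      (Algebra.linearMap (MvPolynomial (Fin 2) V) B).compDer (euler i j) := by
    refine MvPolynomial.derivation_ext fun l => ?_
    show (φ2 (algebraMap (Q V ϖ) B (mk V ϖ (X l)))).snd = algebraMap (Q V ϖ) B (mk V ϖ (euler i j (X l)))
    rw [hφ2]
    show (φ0 (X l)).snd = _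
    rw [hX, TrivSqZeroExt.snd_add, TrivSqZeroExt.snd_inl, TrivSqZeroExt.snd_inr, zero_add]
    rcases cases_index hij l with rfl | rfl
    · rw [euler_X_left hij, if_pos rfl]
    · rw [euler_X_right hij, if_neg hij.symm, map_neg, map_neg]
  exact Derivation.congr_fun key p

theorem exists_frac (f : Localization.Away h) :
    ∃ p r : MvPolynomial (Fin 2) V, mk V ϖ r ∈ Submonoid.powers h ∧
      f * algebraMap (Q V ϖ) _ (mk V ϖ r) = algebraMap (Q V ϖ) _ (mk V ϖ p) := by
  obtain ⟨⟨q, s⟩, hqs⟩ := IsLocalization.surj (Submonoid.powers h) f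
  obtain ⟨p, hp⟩ := Ideal.Quotient.mk_surjective q
  obtain ⟨r, hr⟩ := Ideal.Quotient.mk_surjective (s : Q V ϖ)
  have hr' : mk V ϖ r = (s : Q V ϖ) := hr
  have hp' : mk V ϖ p = q := hp
  exact ⟨p, r, by rw [hr']; exact s.2, by rw [hr', hp']; exact hqs⟩

theorem mul_deriv {i j : Fin 2} (D : Derivation V (Localization.Away h) (Localization.Away h))
    (hD : ∀ p, D (algebraMap (Q V ϖ) _ (mk V ϖ p)) = algebraMap (Q V ϖ) _ (mk V ϖ (euler i j p)))
    (f : Localization.Away h) (p r : MvPolynomial (Fin 2) V)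
    (hfr : f * algebraMap (Q V ϖ) _ (mk V ϖ r) = algebraMap (Q V ϖ) _ (mk V ϖ p)) :
    algebraMap (Q V ϖ) _ (mk V ϖ r) * D f = algebraMap (Q V ϖ) _ (mk V ϖ (euler i j p)) -
      f * algebraMap (Q V ϖ) _ (mk V ϖ (euler i j r)) := by
  have h1 := congrArg D hfr
  rw [Derivation.leibniz, hD, hD, smul_eq_mul, smul_eq_mul] at h1
  linear_combination h1

end Open

/-- If `B[1/ϖ]` is étale over `V[T]` along `T ↦ f`, the differential of `f` generates up to powers of `ϖ`. -/
theorem exists_dvd_of_etale {B : Type u} [CommRing B] [Algebra V B] (ϖ : V) (f : B)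
    (hf : ((algebraMap B (Localization.Away (algebraMap V B ϖ))).comp
      (Polynomial.aeval f : V[X] →ₐ[V] B).toRingHom).Etale)
    (D : Derivation V B B) (z0 : B) : ∃ n, D f ∣ (algebraMap V B ϖ) ^ n * D z0 := by
  let L := Localization.Away (algebraMap V B ϖ)
  letI algT : Algebra V[X] L := ((algebraMap B L).comp (Polynomial.aeval f : V[X] →ₐ[V] B).toRingHom).toAlgebra
  haveI : IsScalarTower V V[X] L := IsScalarTower.of_algebraMap_eq fun a => by
    show _ = algebraMap B L (Polynomial.aeval f (algebraMap V V[X] a))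
    rw [AlgHom.commutes, ← IsScalarTower.algebraMap_apply]
  haveI : Algebra.Etale V[X] L := hf
  haveI : Subsingleton (Ω[L⁄V[X]]) := inferInstance
  let S : Submodule L (Ω[L⁄V]) := Submodule.span L {KaehlerDifferential.D V L (algebraMap B L f)}
  have htop : ∀ z : L, KaehlerDifferential.D V L z ∈ S := by
    intro z
    let δ : Derivation V L (Ω[L⁄V] ⧸ S) := S.mkQ.compDer (KaehlerDifferential.D V L)
    have hδ : ∀ P : V[X], δ (algebraMap B L (Polynomial.aeval f P)) = 0 := by
      intro P
      induction P using Polynomial.induction_on with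
      | C a => rw [Polynomial.aeval_C, ← IsScalarTower.algebraMap_apply V B L, Derivation.map_algebraMap]
      | add P R hP hR => rw [map_add, map_add, map_add, hP, hR, add_zero]
      | monomial n a ih =>
        rw [pow_succ, ← mul_assoc, map_mul, map_mul, Derivation.leibniz, ih, smul_zero, add_zero,
          Polynomial.aeval_X]
        have : δ (algebraMap B L f) = 0 :=
          (Submodule.Quotient.mk_eq_zero S).mpr (Submodule.mem_span_singleton_self _)
        rw [this, smul_zero]
    let δ' : Derivation V[X] L (Ω[L⁄V] ⧸ S) :=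
      { toFun := δ
        map_add' := δ.map_add
        map_smul' := fun P l => by
          show δ (P • l) = algebraMap V[X] L P • δ l
          rw [Algebra.smul_def, Derivation.leibniz]
          show _ + l • δ (algebraMap B L (Polynomial.aeval f P)) = _
          rw [hδ, smul_zero, add_zero]
        map_one_eq_zero' := δ.map_one_eq_zero
        leibniz' := δ.leibniz }
    have : δ z = 0 := by
      show δ' z = 0
      rw [← Derivation.liftKaehlerDifferential_comp_D δ' z, Subsingleton.elim (KaehlerDifferential.D V[X] L z) 0,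
        map_zero]
    exact (Submodule.Quotient.mk_eq_zero S).mp this
  obtain ⟨c, hc⟩ := Submodule.mem_span_singleton.mp (htop (algebraMap B L z0))
  obtain ⟨⟨c', s⟩, hcs⟩ := IsLocalization.surj (Submonoid.powers (algebraMap V B ϖ)) c
  obtain ⟨n, hn⟩ := s.2
  have h1 : (KaehlerDifferential.map V V B L) ((s : B) • KaehlerDifferential.D V B z0) =
      (KaehlerDifferential.map V V B L) (c' • KaehlerDifferential.D V B f) := by
    rw [map_smul, map_smul, KaehlerDifferential.map_D, KaehlerDifferential.map_D, ← hc,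
      ← algebraMap_smul L (s : B), ← algebraMap_smul L c', smul_smul, mul_comm, hcs]
  have h2 : IsLocalizedModule (Submonoid.powers (algebraMap V B ϖ))
      (KaehlerDifferential.map V V B L) := inferInstance
  obtain ⟨⟨u, m, hm'⟩, hu⟩ := h2.exists_of_eq h1
  refine ⟨m + n, ?_⟩
  have h3 := congrArg D.liftKaehlerDifferential hu
  simp only [Submonoid.smul_def, map_smul, Derivation.liftKaehlerDifferential_comp_D, smul_eq_mul] at h3
  simp only at hm'
  simp only at hn
  rw [pow_add, hm', mul_assoc, show algebraMap V B ϖ ^ n = s from hn, h3]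
  exact ⟨u * c', by ring⟩

/-- A quotient of polynomial expressions with vanishing Wronskian has zero differential. -/
theorem d_eq_zero_of_wronskian {B' : Type u} [CommRing B'] [Algebra V B'] (y F : B') (P R : V[X])
    (hF : F * Polynomial.aeval y R = Polynomial.aeval y P) (hu : IsUnit (Polynomial.aeval y R))
    (hkill : Polynomial.aeval y (Polynomial.derivative P * R - P * Polynomial.derivative R) = 0) :
    KaehlerDifferential.D V B' F = 0 := by
  have h4 := congrArg (KaehlerDifferential.D V B') hF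
  rw [Derivation.leibniz, Derivation.map_aeval, Derivation.map_aeval] at h4
  have h5 : Polynomial.aeval y R • KaehlerDifferential.D V B' F =
      (Polynomial.aeval y (Polynomial.derivative P) -
        F * Polynomial.aeval y (Polynomial.derivative R)) • KaehlerDifferential.D V B' y := by
    rw [sub_smul, mul_smul, eq_sub_iff_add_eq, add_comm]; exact h4
  refine hu.smul_eq_zero.mp (hu.smul_eq_zero.mp ?_)
  rw [h5, smul_smul]
  have : Polynomial.aeval y R * (Polynomial.aeval y (Polynomial.derivative P) -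
      F * Polynomial.aeval y (Polynomial.derivative R)) = 0 := by
    rw [← hkill, map_sub, map_mul, map_mul, ← hF]; ring
  rw [this, zero_smul]

section Main

variable [IsDomain V] [IsLocalRing V] {ϖ} (hm : IsLocalRing.maximalIdeal V = Ideal.span {ϖ})
variable (hϖ : ϖ ≠ 0) (h : Q V ϖ) (hh : h ∉ Ideal.span {mk V ϖ (X 0), mk V ϖ (X 1)})

include hm hh in
theorem prime_t {i j : Fin 2} (hij : i ≠ j) : (Ideal.span {t h i}).IsPrime ∧
    ∀ q, algebraMap (Q V ϖ) (Localization.Away h) q ∈ Ideal.span {t h i} ↔ psi hm i q = 0 := by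
  haveI := prime_ideal hm hij
  have hd : Disjoint (Submonoid.powers h : Set (Q V ϖ)) (Ideal.span {mk V ϖ (X i)} : Ideal _) := by
    rw [Set.disjoint_left]
    rintro _ ⟨n, rfl⟩ hn
    have := (ker_psi hm hij h).mpr ((inferInstance : (Ideal.span {mk V ϖ (X i)}).IsPrime).mem_of_pow_mem n hn)
    exact origin_eq hm h hh hij (by rw [this, Polynomial.coeff_zero])
  have hmap : Ideal.span {t h i} = (Ideal.span {mk V ϖ (X i)}).map (algebraMap (Q V ϖ) (Localization.Away h)) := by
    rw [Ideal.map_span, Set.image_singleton]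
  refine ⟨?_, fun q => ?_⟩
  · rw [hmap]; exact IsLocalization.isPrime_of_isPrime_disjoint _ _ _ ‹_› hd
  · rw [hmap, ← Ideal.mem_comap, ker_psi hm hij]
    exact Iff.of_eq (congrArg (q ∈ ·) (IsLocalization.comap_map_of_isPrime_disjoint _ _ ‹_› hd))

include hϖ in
theorem cancel_t {i j : Fin 2} (hij : i ≠ j) (a b : Localization.Away h) (hab : t h i * a = t h i * b) :
    a = b := by
  rw [← sub_eq_zero]
  obtain ⟨⟨q, s⟩, hqs⟩ := IsLocalization.surj (Submonoid.powers h) (a - b)
  have h1 : algebraMap (Q V ϖ) (Localization.Away h) (mk V ϖ (X i) * q) = 0 := by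
    rw [map_mul, ← hqs, ← mul_assoc, mul_sub]
    show (t h i * a - t h i * b) * _ = 0
    rw [hab, sub_self, zero_mul]
  obtain ⟨c, hc⟩ := (IsLocalization.map_eq_zero_iff (Submonoid.powers h) _ _).mp h1
  have : (c : Q V ϖ) * q = 0 := regular_X hϖ hij _ (by rw [← hc]; ring)
  have h2 : algebraMap (Q V ϖ) (Localization.Away h) q = 0 :=
    (IsLocalization.map_eq_zero_iff (Submonoid.powers h) _ _).mpr ⟨c, this⟩
  rw [h2] at hqs
  exact (IsLocalization.map_units _ s).mul_left_eq_zero.mp hqs

variable (f : Localization.Away h)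

include hm hϖ hh in
/-- Étaleness on the generic fibre: the Euler derivative of `f` lies on one of the branches. -/
theorem exists_branch (hf : ((algebraMap (Localization.Away h)
        (Localization.Away (algebraMap V (Localization.Away h) ϖ))).comp
          (Polynomial.aeval f : V[X] →ₐ[V] Localization.Away h).toRingHom).Etale) :
    ∃ (i j : Fin 2), i ≠ j ∧ ∀ D : Derivation V (Localization.Away h) (Localization.Away h),
      (∀ p, D (algebraMap (Q V ϖ) _ (mk V ϖ p)) = algebraMap (Q V ϖ) _ (mk V ϖ (euler 0 1 p))) →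
      D f ∈ Ideal.span {t h i} := by
  classical
  let B := Localization.Away h
  obtain ⟨D, hD⟩ := exists_derivation h (show (0 : Fin 2) ≠ 1 by decide)
  set g := D f
  have huniq : ∀ D' : Derivation V B B,
      (∀ p, D' (algebraMap (Q V ϖ) B (mk V ϖ p)) = algebraMap (Q V ϖ) B (mk V ϖ (euler 0 1 p))) → D' f = g := by
    intro D' hD'
    obtain ⟨p, r, hr, hfr⟩ := exists_frac h f
    refine (IsLocalization.map_units B (⟨_, hr⟩ : Submonoid.powers h)).mul_left_cancel ?_
    rw [mul_deriv h D' hD' f p r hfr, mul_deriv h D hD f p r hfr]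
  have hdiv : ∀ l : Fin 2, ∃ n, g ∣ (algebraMap V B ϖ) ^ n * D (t h l) := fun l =>
    exists_dvd_of_etale ϖ f hf D (t h l)
  -- `g` vanishes at the origin
  have horigin : g ∈ Ideal.span {t h 0, t h 1} := by
    obtain ⟨p, r, hr, hfr⟩ := exists_frac h f
    have heul : ∀ p, algebraMap (Q V ϖ) B (mk V ϖ (euler 0 1 p)) ∈ Ideal.span {t h 0, t h 1} := by
      intro p
      simp only [euler, Derivation.sub_apply, Derivation.smul_apply, smul_eq_mul, map_sub, map_mul]
      exact Ideal.sub_mem _ (Ideal.mul_mem_right _ _ (Ideal.subset_span (Set.mem_insert _ _)))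
        (Ideal.mul_mem_right _ _ (Ideal.subset_span (Set.mem_insert_of_mem _ rfl)))
    rw [← Ideal.unit_mul_mem_iff_mem _ (IsLocalization.map_units B (⟨_, hr⟩ : Submonoid.powers h))]
    rw [mul_deriv h D hD f p r hfr]
    exact Ideal.sub_mem _ (heul p) (Ideal.mul_mem_left _ _ (heul r))
  by_contra hno
  push Not at hno
  have hnot : ∀ i j : Fin 2, i ≠ j → g ∉ Ideal.span {t h i} := fun i j hij hmem => by
    obtain ⟨D', hD', hD'f⟩ := hno i j hij
    exact hD'f (by rw [huniq D' hD']; exact hmem)
  -- peel off the branches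
  have hpeel : ∀ (i j : Fin 2), i ≠ j → ∀ (n : ℕ) (b : B), g ∣ t h i ^ n * b → g ∣ b := by
    intro i j hij n
    induction n with
    | zero => intro b hb; simpa using hb
    | succ n ih =>
      intro b hb
      refine ih b ?_
      obtain ⟨c, hc⟩ := hb
      have hmem : g * c ∈ Ideal.span {t h i} :=
        Ideal.mem_span_singleton.mpr ⟨t h i ^ n * b, by rw [← hc]; ring⟩
      obtain ⟨c', rfl⟩ := Ideal.mem_span_singleton.mp
        (((prime_t hm h hh hij).1.mem_or_mem hmem).resolve_left (hnot i j hij))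
      exact ⟨c', cancel_t hϖ h hij _ _ (by linear_combination hc)⟩
  have hunit : IsUnit g := by
    obtain ⟨n, hn⟩ := hdiv 0
    have h01 : (0 : Fin 2) ≠ 1 := by decide
    have ht : D (t h 0) = t h 0 := by rw [hD, euler_X_left h01]
    rw [ht, ← t_mul_t h h01, mul_pow, show t h 0 ^ n * t h 1 ^ n * t h 0 = t h 0 ^ (n + 1) * (t h 1 ^ n * 1) by ring] at hn
    exact isUnit_of_dvd_one (hpeel 1 0 h01.symm n 1 (hpeel 0 1 h01 (n + 1) _ hn))
  have : (1 : B) ∈ Ideal.span {t h 0, t h 1} := by
    have := Ideal.eq_top_of_isUnit_mem _ horigin hunit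
    rw [this]; trivial
  -- but the origin is a point of the open set
  obtain ⟨a, b, hab⟩ := Ideal.mem_span_pair.mp this
  obtain ⟨⟨qa, sa⟩, hqa⟩ := IsLocalization.surj (Submonoid.powers h) a
  obtain ⟨⟨qb, sb⟩, hqb⟩ := IsLocalization.surj (Submonoid.powers h) b
  have h5 : algebraMap (Q V ϖ) B (qa * sb * mk V ϖ (X 0) + qb * sa * mk V ϖ (X 1)) =
      algebraMap (Q V ϖ) B ((sa : Q V ϖ) * sb) := by
    simp only [map_add, map_mul, ← hqa, ← hqb]
    linear_combination (algebraMap (Q V ϖ) B sa * algebraMap (Q V ϖ) B sb) * hab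
  obtain ⟨c, hc⟩ := (IsLocalization.eq_iff_exists (Submonoid.powers h) B).mp h5
  obtain ⟨n, hn⟩ : ((c * (sa * sb) : Submonoid.powers h) : Q V ϖ) ∈ Submonoid.powers h := (c * (sa * sb)).2
  have h01 : (0 : Fin 2) ≠ 1 := by decide
  have h6 := congrArg (fun q => (psi hm 0 q).coeff 0) hc
  simp only [map_mul, map_add, Polynomial.mul_coeff_zero, Polynomial.coeff_add, psi_X hm h01,
    Polynomial.coeff_X_zero, show psi hm 0 (mk V ϖ (X 0)) = 0 from (ker_psi hm h01 _).mpr (Ideal.mem_span_singleton_self _),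
    Polynomial.coeff_zero, mul_zero, add_zero] at h6
  have h7 : (psi hm 0 (h ^ n)).coeff 0 = 0 := by
    rw [show h ^ n = _ from hn]
    simp only [Submonoid.coe_mul, map_mul, Polynomial.mul_coeff_zero]
    exact h6.symm
  rw [map_pow, Polynomial.coeff_zero_eq_eval_zero, Polynomial.eval_pow, ← Polynomial.coeff_zero_eq_eval_zero] at h7
  exact origin_eq hm h hh h01 (pow_eq_zero_iff'.mp h7).1

/-- On a branch where the Euler derivative vanishes, the restriction of `f` is killed by differentiation. -/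
theorem branch_polys {i j : Fin 2} (hij : i ≠ j)
    (D : Derivation V (Localization.Away h) (Localization.Away h))
    (hD : ∀ p, D (algebraMap (Q V ϖ) _ (mk V ϖ p)) = algebraMap (Q V ϖ) _ (mk V ϖ (euler i j p)))
    (hmem : D f ∈ Ideal.span {t h i}) (hh : h ∉ Ideal.span {mk V ϖ (X 0), mk V ϖ (X 1)})
    (hm : IsLocalRing.maximalIdeal V = Ideal.span {ϖ}) :
    ∃ p r : MvPolynomial (Fin 2) V, mk V ϖ r ∈ Submonoid.powers h ∧
      f * algebraMap (Q V ϖ) _ (mk V ϖ r) = algebraMap (Q V ϖ) _ (mk V ϖ p) ∧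
      Polynomial.derivative (psi0 i p) * psi0 i r = psi0 i p * Polynomial.derivative (psi0 i r) := by
  obtain ⟨p, r, hr, hfr⟩ := exists_frac h f
  refine ⟨p, r, hr, hfr, ?_⟩
  have key : algebraMap (Q V ϖ) (Localization.Away h)
      (mk V ϖ (euler i j p * r - p * euler i j r)) ∈ Ideal.span {t h i} := by
    have h1 := mul_deriv h D hD f p r hfr
    have : algebraMap (Q V ϖ) (Localization.Away h) (mk V ϖ (euler i j p * r - p * euler i j r)) =
        D f * (algebraMap (Q V ϖ) _ (mk V ϖ r) * algebraMap (Q V ϖ) _ (mk V ϖ r)) := by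
      simp only [map_sub, map_mul, ← hfr]
      linear_combination (-algebraMap (Q V ϖ) (Localization.Away h) (mk V ϖ r)) * h1
    rw [this]; exact Ideal.mul_mem_right _ _ hmem
  have h3 := ((prime_t hm h hh hij).2 _).mp key
  rw [psi_mk, map_sub, map_mul, map_mul] at h3
  have he : ∀ w : MvPolynomial (Fin 2) V, psi0 i (euler i j w) = -(Polynomial.X * Polynomial.derivative (psi0 i w)) := fun w => by
    rw [psi0_apply, rho_euler hij, Polynomial.map_neg, Polynomial.map_mul, Polynomial.map_X,
      ← Polynomial.derivative_map, ← psi0_apply]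
  rw [he, he] at h3
  refine mul_left_cancel₀ Polynomial.X_ne_zero ?_
  linear_combination -h3

/-- The differential of the restriction vanishes. -/
theorem d_eq_zero {i j : Fin 2} (hij : i ≠ j) (p r : MvPolynomial (Fin 2) V)
    (hr : mk V ϖ r ∈ Submonoid.powers h)
    (hfr : f * algebraMap (Q V ϖ) _ (mk V ϖ r) = algebraMap (Q V ϖ) _ (mk V ϖ p))
    (hder : Polynomial.derivative (psi0 i p) * psi0 i r = psi0 i p * Polynomial.derivative (psi0 i r))
    (hm : IsLocalRing.maximalIdeal V = Ideal.span {ϖ}) :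
    KaehlerDifferential.D V (Localization.Away h ⧸ Ideal.span {t h i}) (Ideal.Quotient.mk _ f) = 0 := by
  let B' := Localization.Away h ⧸ Ideal.span {t h i}
  let d := KaehlerDifferential.D V B'
  let y : B' := Ideal.Quotient.mk _ (t h j)
  have himg : ∀ w, Ideal.Quotient.mk (Ideal.span {t h i}) (algebraMap (Q V ϖ) _ (mk V ϖ w)) =
      Polynomial.aeval y (rho i w) := by
    intro w
    have : ((Ideal.Quotient.mkₐ V (Ideal.span {t h i})).comp (IsScalarTower.toAlgHom V (Q V ϖ) _)).comp
        (Ideal.Quotient.mkₐ V _) = (Polynomial.aeval y).comp (rho i) := by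
      refine MvPolynomial.algHom_ext fun l => ?_
      rcases cases_index hij l with rfl | rfl
      · simp [rho]
        exact Ideal.Quotient.eq_zero_iff_mem.mpr (Ideal.mem_span_singleton_self _)
      · simp [rho, hij.symm]; rfl
    exact AlgHom.congr_fun this w
  have hϖ0 : algebraMap V B' ϖ = 0 := by
    rw [IsScalarTower.algebraMap_apply V (Localization.Away h) B', ← t_mul_t h hij,
      Ideal.Quotient.algebraMap_eq, map_mul,
      Ideal.Quotient.eq_zero_iff_mem.mpr (Ideal.mem_span_singleton_self _), zero_mul]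
  have hkill : Polynomial.aeval y (Polynomial.derivative (rho i p) * rho i r - rho i p * Polynomial.derivative (rho i r)) = 0 := by
    set W := Polynomial.derivative (rho i p) * rho i r - rho i p * Polynomial.derivative (rho i r)
    have hW : W.map (IsLocalRing.residue V) = 0 := by
      simp only [W, Polynomial.map_sub, Polynomial.map_mul, ← Polynomial.derivative_map, ← psi0_apply, hder, sub_self]
    rw [Polynomial.aeval_eq_sum_range]
    refine Finset.sum_eq_zero fun n _ => ?_
    have hn : W.coeff n ∈ IsLocalRing.maximalIdeal V := by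
      rw [← IsLocalRing.residue_eq_zero_iff]
      simpa using congrArg (fun P => Polynomial.coeff P n) hW
    rw [hm] at hn
    obtain ⟨c, hc⟩ := Ideal.mem_span_singleton'.mp hn
    rw [← hc, Algebra.smul_def, map_mul, hϖ0, mul_zero, zero_mul]
  set F := Ideal.Quotient.mk (Ideal.span {t h i}) f
  have hF : F * Polynomial.aeval y (rho i r) = Polynomial.aeval y (rho i p) := by
    rw [← himg, ← himg, ← map_mul, hfr]
  have hu : IsUnit (Polynomial.aeval y (rho i r)) := by
    rw [← himg]
    exact (IsLocalization.map_units _ (⟨_, hr⟩ : Submonoid.powers h)).map _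
  exact d_eq_zero_of_wronskian y F _ _ hF hu hkill

/-- Wronskian zero implies proportional. -/
theorem exists_eq_C_mul {k : Type*} [Field k] [CharZero k] (p q : k[X]) (hq : q.coeff 0 ≠ 0)
    (hder : Polynomial.derivative p * q = p * Polynomial.derivative q) :
    ∃ c, p = Polynomial.C c * q := by
  refine ⟨p.coeff 0 / q.coeff 0, ?_⟩
  rw [← sub_eq_zero]
  set r := p - Polynomial.C (p.coeff 0 / q.coeff 0) * q
  by_contra hr
  have hr0 : r.coeff 0 = 0 := by simp [r, Polynomial.mul_coeff_zero, div_mul_cancel₀ _ hq]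
  have hrd : Polynomial.derivative r * q = r * Polynomial.derivative q := by
    simp only [r, Polynomial.derivative_sub, Polynomial.derivative_C_mul, sub_mul, hder]
    ring
  obtain ⟨e, g, hg, hre⟩ : ∃ (e : ℕ) (g : k[X]), g.coeff 0 ≠ 0 ∧ r = Polynomial.X ^ e * g := by
    refine ⟨r.natTrailingDegree, ?_⟩
    obtain ⟨g, hg⟩ : Polynomial.X ^ r.natTrailingDegree ∣ r := Polynomial.X_pow_dvd_iff.mpr fun d hd =>
      Polynomial.coeff_eq_zero_of_lt_natTrailingDegree hd
    refine ⟨g, fun hg0 => ?_, hg⟩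
    have := Polynomial.trailingCoeff_nonzero_iff_nonzero.mpr hr
    refine this ?_
    rw [Polynomial.trailingCoeff]
    conv_lhs => arg 1; rw [hg]
    rw [Polynomial.coeff_X_pow_mul', if_pos le_rfl, Nat.sub_self, hg0]
  rcases e with _ | e
  · exact hg (by rw [hre] at hr0; simpa using hr0)
  rw [hre, Polynomial.derivative_mul, Polynomial.derivative_X_pow, add_mul] at hrd
  have h1 : Polynomial.C ((e + 1 : ℕ) : k) * g * q =
      Polynomial.X * (g * Polynomial.derivative q - Polynomial.derivative g * q) := by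
    refine mul_left_cancel₀ (pow_ne_zero e Polynomial.X_ne_zero) ?_
    simp only [Nat.add_sub_cancel, pow_succ] at hrd
    linear_combination hrd
  have h2 := congrArg (fun P => Polynomial.coeff P 0) h1
  simp only [Polynomial.mul_coeff_zero, Polynomial.coeff_X_zero, zero_mul, Polynomial.coeff_C_zero] at h2
  exact mul_ne_zero (mul_ne_zero (Nat.cast_ne_zero.mpr (Nat.succ_ne_zero e)) hg) hq h2

set_option synthInstance.maxHeartbeats 200000 in
include hm hh in
/-- In residue characteristic zero the branch is contracted, so the morphism is not quasi-finite. -/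
theorem not_quasiFinite [CharZero (IsLocalRing.ResidueField V)] {i j : Fin 2} (hij : i ≠ j)
    (p r : MvPolynomial (Fin 2) V) (hr : mk V ϖ r ∈ Submonoid.powers h)
    (hfr : f * algebraMap (Q V ϖ) _ (mk V ϖ r) = algebraMap (Q V ϖ) _ (mk V ϖ p))
    (hder : Polynomial.derivative (psi0 i p) * psi0 i r = psi0 i p * Polynomial.derivative (psi0 i r)) :
    ¬ (Polynomial.aeval f : V[X] →ₐ[V] Localization.Away h).toRingHom.QuasiFinite := by
  intro hqf
  obtain ⟨hP, hPmem⟩ := prime_t hm h hh hij
  let P := Ideal.span {t h i}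
  haveI : P.IsPrime := hP
  let B' := Localization.Away h ⧸ P
  obtain ⟨n, hn⟩ := hr
  have hr0 : (psi0 i r).coeff 0 ≠ 0 := by
    rw [← psi_mk hm, ← show h ^ n = mk V ϖ r from hn, map_pow, Polynomial.coeff_zero_eq_eval_zero,
      Polynomial.eval_pow, ← Polynomial.coeff_zero_eq_eval_zero]
    exact pow_ne_zero _ (origin_eq hm h hh hij)
  obtain ⟨c, hc⟩ := exists_eq_C_mul _ _ hr0 hder
  obtain ⟨c₀, rfl⟩ := IsLocalRing.residue_surjective c
  have hmem : algebraMap (Q V ϖ) (Localization.Away h) (mk V ϖ (p - C c₀ * r)) ∈ P := by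
    rw [hPmem, psi_mk, map_sub, map_mul, hc]
    simp [psi0_apply, rho]
  have hfc : Ideal.Quotient.mk P f = algebraMap V B' c₀ := by
    rw [IsScalarTower.algebraMap_apply V (Localization.Away h) B', Ideal.Quotient.algebraMap_eq, Ideal.Quotient.eq]
    have : (f - algebraMap V _ c₀) * algebraMap (Q V ϖ) _ (mk V ϖ r) ∈ P := by
      rw [sub_mul, hfr, IsScalarTower.algebraMap_apply V (Q V ϖ) (Localization.Away h), ← map_mul, ← map_sub]
      rw [map_sub (mk V ϖ), map_mul (mk V ϖ)] at hmem
      exact hmem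
    exact (Ideal.unit_mul_mem_iff_mem _ (IsLocalization.map_units _ (⟨_, ⟨n, hn⟩⟩ : Submonoid.powers h))).mp
      (by convert this using 1; exact mul_comm _ _)
  have hm0 : ∀ a ∈ IsLocalRing.maximalIdeal V, algebraMap V B' a = 0 := by
    intro a ha
    rw [hm] at ha
    obtain ⟨b, rfl⟩ := Ideal.mem_span_singleton'.mp ha
    rw [map_mul, IsScalarTower.algebraMap_apply V (Localization.Away h) B' ϖ, ← t_mul_t h hij,
      Ideal.Quotient.algebraMap_eq, map_mul, show Ideal.Quotient.mk P (t h i) = 0 from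
      Ideal.Quotient.eq_zero_iff_mem.mpr (Ideal.mem_span_singleton_self _), zero_mul, mul_zero]
  let α : IsLocalRing.ResidueField V →+* B' := Ideal.Quotient.lift _ (algebraMap V B') hm0
  let β : V[X] →+* IsLocalRing.ResidueField V := (IsLocalRing.residue V).comp (Polynomial.evalRingHom c₀)
  have hfac : (Ideal.Quotient.mk P).comp (Polynomial.aeval f : V[X] →ₐ[V] Localization.Away h).toRingHom =
      α.comp β := by
    refine Polynomial.ringHom_ext (fun a => ?_) ?_
    · simp [α, β]
      rfl
    · simp [α, β, hfc]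
      rfl
  have hq : ((Ideal.Quotient.mk P).comp (Polynomial.aeval f : V[X] →ₐ[V] Localization.Away h).toRingHom).QuasiFinite :=
    (RingHom.QuasiFinite.of_finite (RingHom.Finite.of_surjective _ Ideal.Quotient.mk_surjective)).comp hqf
  rw [hfac] at hq
  have hα := hq.of_comp
  letI := α.toAlgebra
  haveI : Algebra.QuasiFinite (IsLocalRing.ResidueField V) B' := hα
  haveI : Module.Finite (IsLocalRing.ResidueField V) B' := Module.Finite.of_quasiFinite
  have hfield : IsField B' :=
    isField_of_isIntegral_of_isField' (R := IsLocalRing.ResidueField V) (Field.toIsField _)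
  have hy : Ideal.Quotient.mk P (t h j) ≠ 0 := fun h0 => by
    have := (hPmem _).mp (Ideal.Quotient.eq_zero_iff_mem.mp h0)
    rw [psi_X hm hij] at this
    exact Polynomial.X_ne_zero this
  obtain ⟨z, hz⟩ := hfield.mul_inv_cancel hy
  obtain ⟨z, rfl⟩ := Ideal.Quotient.mk_surjective z
  rw [← map_mul, ← map_one (Ideal.Quotient.mk P), Ideal.Quotient.eq] at hz
  obtain ⟨⟨qz, sz⟩, hqz⟩ := IsLocalization.surj (Submonoid.powers h) z
  have h8 : algebraMap (Q V ϖ) (Localization.Away h) (mk V ϖ (X j) * qz - sz) ∈ P := by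
    rw [map_sub, map_mul, ← hqz, ← mul_assoc]
    have := Ideal.mul_mem_right (algebraMap (Q V ϖ) _ (sz : Q V ϖ)) _ hz
    rwa [sub_mul, one_mul] at this
  have h9 := congrArg (fun w => Polynomial.coeff w 0) ((hPmem _).mp h8)
  simp only [map_sub, map_mul, psi_X hm hij, Polynomial.coeff_sub, Polynomial.mul_coeff_zero,
    Polynomial.coeff_X_zero, zero_mul, zero_sub, Polynomial.coeff_zero, neg_eq_zero] at h9
  obtain ⟨l, hl⟩ := sz.2
  rw [← show h ^ l = (sz : Q V ϖ) from hl, map_pow, Polynomial.coeff_zero_eq_eval_zero, Polynomial.eval_pow,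
    ← Polynomial.coeff_zero_eq_eval_zero] at h9
  exact origin_eq hm h hh hij (pow_eq_zero_iff'.mp h9).1

end Main

end Groth.Calg6.Node
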