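import Groth.Agent.FrobLCI.AusBuch
import Groth.Agent.FrobLCI.MinimalComplex
import Groth.Agent.Ega4Algebra1.RegularLocal
import Groth.Agent.Calg6.TorBridge

/-! Planar curve singularities: modules supported on subcurves without common component. -/

set_option autoImplicit false
universe u

open IsLocalRing CategoryTheory Groth.Ega4Algebra1
open scoped TensorProduct

namespace Groth.Calg6.Planar

/-- A finite module over a two-dimensional regular local ring with a regular element in the maximal
ideal, killed by a non-zero element, has a square presentation. -/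
theorem exists_square_presentation_regular (S : Type u) [CommRing S] [IsRegularLocalRing S]
    (hS : ringKrullDim S = 2) (f : S) (hf : f ≠ 0) (M : Type u) [AddCommGroup M] [Module S M]
    [Module.Finite S M] (hfM : ∀ m : M, f • m = 0) (x : S) (hx : x ∈ maximalIdeal S)
    (hxM : IsSMulRegular M x) :
    ∃ (k : ℕ) (A : Matrix (Fin k) (Fin k) S) (g : (Fin k → S) →ₗ[S] M),
      Function.Surjective g ∧ Function.Exact A.mulVecLin g := by
  haveI := isDomain_of_isRegularLocalRing S
  have hpd : PdLT S M 2 := by
    by_contra h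
    have : Nontrivial M := by
      rw [← not_subsingleton_iff_nontrivial]
      exact fun hs => h ((PdLT.zero_iff.2 hs).mono (Nat.zero_le _))
    have hd : (maximalIdeal S).spanFinrank = 2 := by
      have := (isRegularLocalRing_iff S).mp inferInstance
      rw [hS] at this
      exact_mod_cast this
    have hab := Groth.FrobLCI.auslander_buchsbaum 2 M (pdLT_of_isRegularLocalRing S 2 hd M) h
    rw [Groth.FrobLCI.depth_eq_of_isRegularLocalRing S (d := 2) (by rw [hS]; rfl)] at hab
    have h1 : (1 : ℕ∞) ≤ LocCoh.depth S M :=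
      (Groth.LocCohBase.one_le_idealDepth_iff _ M).2 fun q hq hle => by
        have hmem : x ∈ ⋃ p ∈ associatedPrimes S M, (p : Set S) := Set.mem_biUnion hq (hle hx)
        rw [biUnion_associatedPrimes_eq_compl_regular] at hmem
        exact hmem hxM
    have h3 : ((2 : ℕ) : ℕ∞) + 1 ≤ ((2 : ℕ) : ℕ∞) + LocCoh.depth S M := add_le_add le_rfl h1
    rw [← hab] at h3
    norm_cast at h3
  obtain ⟨k, g, hg⟩ := exists_surjective_fin S M
  have : Module.Projective S (LinearMap.ker g) := PdLT.one_iff.1 ((PdLT.ker_iff g hg 0).1 hpd)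
  have : Module.Free S (LinearMap.ker g) := Module.free_of_flat_of_isLocalRing
  have hrank : Module.finrank S (LinearMap.ker g) = k := by
    refine le_antisymm ?_ ?_
    · simpa using LinearMap.finrank_le_finrank_of_injective (f := (LinearMap.ker g).subtype) Subtype.val_injective
    · let φ : (Fin k → S) →ₗ[S] LinearMap.ker g :=
        (f • LinearMap.id : (Fin k → S) →ₗ[S] (Fin k → S)).codRestrict _ fun v => by
          rw [LinearMap.mem_ker, LinearMap.smul_apply, LinearMap.id_apply, map_smul, hfM]
      have hφ : Function.Injective φ := fun a b hab => smul_right_injective _ hf (congrArg Subtype.val hab)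
      simpa using LinearMap.finrank_le_finrank_of_injective hφ
  let β := Module.finBasisOfFinrankEq S (LinearMap.ker g) hrank
  let φ : (Fin k → S) →ₗ[S] (Fin k → S) := (LinearMap.ker g).subtype.comp β.equivFun.symm.toLinearMap
  refine ⟨k, LinearMap.toMatrix' φ, g, hg, ?_⟩
  rw [← Matrix.toLin'_apply', Matrix.toLin'_toMatrix', LinearMap.exact_iff, LinearMap.range_comp,
    LinearEquiv.range, Submodule.map_top, Submodule.range_subtype]

variable {S : Type u} [CommRing S] [IsRegularLocalRing S] (hS : ringKrullDim S = 2)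
variable {f : S} (hf : f ≠ 0) {R : Type u} [CommRing R] [IsLocalRing R]
variable (π : S →+* R) (hπ : Function.Surjective π) (hker : RingHom.ker π = Ideal.span {f})

include hS hf hπ hker in
/-- A square presentation over the hypersurface. -/
theorem exists_square_presentation (M : Type u) [AddCommGroup M] [Module R M] [Module.Finite R M]
    (x : R) (hx : x ∈ maximalIdeal R) (hxM : IsSMulRegular M x) :
    ∃ (k : ℕ) (A : Matrix (Fin k) (Fin k) R) (g : (Fin k → R) →ₗ[R] M),
      Function.Surjective g ∧ Function.Exact A.mulVecLin g := by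
  letI := π.toAlgebra
  letI : Module S M := Module.compHom M π
  haveI : IsScalarTower S R M := ⟨fun s r m => by
    show (π s * r) • m = π s • (r • m)
    rw [mul_smul]⟩
  haveI : Module.Finite S R := Module.Finite.of_surjective (Algebra.linearMap S R) hπ
  haveI : Module.Finite S M := Module.Finite.trans R M
  obtain ⟨x', hx'⟩ := hπ x
  obtain ⟨k, A, g, hg, hex⟩ := exists_square_presentation_regular S hS f hf M (fun m => by
    show π f • m = 0
    rw [show π f = 0 from (RingHom.mem_ker).mp (hker ▸ Ideal.mem_span_singleton_self f), zero_smul]) x'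
    (fun hu => (mem_maximalIdeal _).mp hx (hx' ▸ hu.map π))
    (fun a b hab => hxM (by show x • a = x • b; rw [← hx']; exact hab))
  let g' : (Fin k → R) →ₗ[R] M := Fintype.linearCombination R fun i => g (Pi.single i 1)
  have hgg : ∀ v : Fin k → S, g' (fun i => π (v i)) = g v := by
    intro v
    conv_rhs => rw [pi_eq_sum_univ v, map_sum]
    rw [Fintype.linearCombination_apply]
    refine Finset.sum_congr rfl fun i _ => ?_
    rw [map_smul]
    show π (v i) • g _ = π (v i) • g _
    congr 2
    funext j
    simp [Pi.single_apply, eq_comm]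
  have hA : ∀ w : Fin k → S, (A.map π).mulVec (fun i => π (w i)) = fun i => π (A.mulVec w i) := fun w =>
    funext fun i => (RingHom.map_mulVec π A w i).symm
  refine ⟨k, A.map π, g', fun m => ?_, fun v => ?_⟩
  · obtain ⟨v, hv⟩ := hg m
    exact ⟨fun i => π (v i), (hgg v).trans hv⟩
  · choose v' hv' using fun i => hπ (v i)
    have hv : v = fun i => π (v' i) := funext fun i => (hv' i).symm
    constructor
    · intro h
      rw [hv, hgg] at h
      obtain ⟨w, hw⟩ := (hex v').1 h
      refine ⟨fun i => π (w i), ?_⟩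
      rw [Matrix.mulVecLin_apply, hA, hv, ← hw]
      rfl
    · rintro ⟨w, hw⟩
      choose w' hw' using fun i => hπ (w i)
      rw [← hw, Matrix.mulVecLin_apply, show w = fun i => π (w' i) from funext fun i => (hw' i).symm, hA, hgg]
      exact (hex _).2 ⟨w', rfl⟩

/-- Elements killing the cokernel kill the kernel after taking a power. -/
theorem pow_smul_eq_zero {R : Type u} [CommRing R] {M : Type u} [AddCommGroup M] [Module R M] {k : ℕ}
    (A : Matrix (Fin k) (Fin k) R) (g : (Fin k → R) →ₗ[R] M) (hex : Function.Exact A.mulVecLin g)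
    (a : R) (ha : ∀ m : M, a • m = 0) (v : Fin k → R) (hv : A.mulVec v = 0) : a ^ k • v = 0 := by
  classical
  have h1 : ∀ j, ∃ b, A.mulVec b = a • Pi.single j (1 : R) := fun j =>
    (hex _).1 (by rw [map_smul, ha])
  choose b hb using h1
  let B : Matrix (Fin k) (Fin k) R := Matrix.of fun i j => b j i
  have hAB : A * B = a • 1 := by
    ext i j
    have := congrFun (hb j) i
    simpa [B, Matrix.mul_apply, Matrix.mulVec, dotProduct, Matrix.one_apply, Pi.single_apply] using this
  have hdet : A.det * B.det = a ^ k := by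
    rw [← Matrix.det_mul, hAB, Matrix.det_smul, Matrix.det_one, mul_one, Fintype.card_fin]
  have : A.det • v = 0 := by
    rw [← Matrix.one_mulVec v, ← Matrix.smul_mulVec, ← Matrix.adjugate_mul A, ← Matrix.mulVec_mulVec,
      hv, Matrix.mulVec_zero]
  rw [← hdet, mul_comm, mul_smul, this, smul_zero]

section Vanishing

variable {R : Type u} [CommRing R] [IsLocalRing R] (I J : Ideal R) (n : ℕ)
  (hIJ : maximalIdeal R ^ n ≤ I ⊔ J)
  (M N : Type u) [AddCommGroup M] [Module R M] [AddCommGroup N] [Module R N]

include hIJ in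
theorem hom_ker_eq_zero (hI : I ≤ Module.annihilator R M) (hJ : J ≤ Module.annihilator R N)
    (y : R) (hy : y ∈ maximalIdeal R) (hyN : IsSMulRegular N y) {k : ℕ}
    (A : Matrix (Fin k) (Fin k) R) (g : (Fin k → R) →ₗ[R] M) (hex : Function.Exact A.mulVecLin g)
    (h : LinearMap.ker A.mulVecLin →ₗ[R] N) : h = 0 := by
  obtain ⟨a, ha, b, hb, hab⟩ := Submodule.mem_sup.mp (hIJ (Ideal.pow_mem_pow hy n))
  refine LinearMap.ext fun v => (hyN.pow n).pow k ?_
  show (y ^ n) ^ k • h v = (y ^ n) ^ k • 0
  have hstep : ∀ (j : ℕ) (z : N), (y ^ n) ^ j • z = a ^ j • z := by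
    intro j
    induction j with
    | zero => intro z; simp
    | succ j ih =>
      intro z
      rw [pow_succ, mul_smul, ← hab, add_smul, Module.mem_annihilator.mp (hJ hb) z, add_zero, hab, ih,
        ← mul_smul, ← pow_succ]
  rw [smul_zero, hstep, ← map_smul]
  have : a ^ k • v = 0 := Subtype.ext
    (pow_smul_eq_zero A g hex a (fun m => Module.mem_annihilator.mp (hI ha) m) v.1 v.2)
  rw [this, map_zero]

/-- An endomorphism whose cokernel is killed by a regular element is injective. -/
theorem injective_of_smul_mem_range [IsNoetherianRing R] {V : Type u} [AddCommGroup V] [Module R V]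
    [Module.Finite R V] (φ : V →ₗ[R] V) (z : R) (hz : IsSMulRegular V z)
    (h : ∀ v, z • v ∈ LinearMap.range φ) : Function.Injective φ := by
  have hpow : ∀ (j : ℕ) (v : V), z ^ j • v ∈ LinearMap.range (φ ^ j) := by
    intro j
    induction j with
    | zero => intro v; simp
    | succ j ih =>
      intro v
      obtain ⟨u, hu⟩ := ih v
      obtain ⟨u', hu'⟩ := h u
      refine ⟨u', ?_⟩
      rw [pow_succ, Module.End.mul_apply, hu', map_smul, hu, ← mul_smul, ← pow_succ']
  obtain ⟨j, hj⟩ := monotone_stabilizes_iff_noetherian.mpr (inferInstance : IsNoetherian R V)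
    ⟨fun j => LinearMap.ker (φ ^ j), monotone_nat_of_le_succ fun j v hv => by
      rw [LinearMap.mem_ker, pow_succ', Module.End.mul_apply, LinearMap.mem_ker.mp hv, map_zero]⟩
  refine (injective_iff_map_eq_zero _).mpr fun v hv => (hz.pow j) ?_
  show z ^ j • v = z ^ j • 0
  obtain ⟨u, hu⟩ := hpow j v
  have h1 : u ∈ LinearMap.ker (φ ^ (j + 1)) := by
    rw [LinearMap.mem_ker, pow_succ', Module.End.mul_apply, hu, map_smul, hv, smul_zero]
  rw [smul_zero, ← hu]
  have h2 : LinearMap.ker (φ ^ j) = LinearMap.ker (φ ^ (j + 1)) := hj (j + 1) (Nat.le_succ j)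
  exact LinearMap.mem_ker.mp (h2 ▸ h1)

include hIJ in
theorem torZero [IsNoetherianRing R] [Module.Finite R M] (hI : I ≤ Module.annihilator R M)
    (hJ : J ≤ Module.annihilator R N) (x : R) (hx : x ∈ maximalIdeal R) (hxM : IsSMulRegular M x)
    {k : ℕ} (A : Matrix (Fin k) (Fin k) R) (g : (Fin k → R) →ₗ[R] N) (hg : Function.Surjective g)
    (hex : Function.Exact A.mulVecLin g) : FlatMorOne.TorZero R N M := by
  rw [Groth.Calg6.torZero_iff_of_presentation M N g hg]
  let e : M ⊗[R] (Fin k → R) ≃ₗ[R] (Fin k → M) := TensorProduct.piScalarRight R R M (Fin k)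
  let φ := A.mulVecLin.lTensor M
  obtain ⟨a, ha, b, hb, hab⟩ := Submodule.mem_sup.mp (hIJ (Ideal.pow_mem_pow hx n))
  have hregV : IsSMulRegular (M ⊗[R] (Fin k → R)) (x ^ n) := fun u v huv => e.injective <| funext fun i =>
    (hxM.pow n) (by
      show x ^ n • e u i = x ^ n • e v i
      rw [← Pi.smul_apply, ← map_smul, ← Pi.smul_apply, ← map_smul]
      exact congrFun (congrArg e huv) i)
  have hinj : Function.Injective φ := injective_of_smul_mem_range φ (x ^ n) hregV fun v => by
    induction v using TensorProduct.induction_on with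
    | zero => rw [smul_zero]; exact Submodule.zero_mem _
    | tmul m w =>
      rw [← hab, add_smul]
      refine Submodule.add_mem _ ?_ ?_
      · rw [TensorProduct.smul_tmul', Module.mem_annihilator.mp (hI ha) m, TensorProduct.zero_tmul]
        exact Submodule.zero_mem _
      · rw [← TensorProduct.tmul_smul]
        obtain ⟨u, hu⟩ := (hex (b • w)).1 (by rw [map_smul, Module.mem_annihilator.mp (hJ hb)])
        exact ⟨m ⊗ₜ u, by rw [LinearMap.lTensor_tmul, hu]⟩
    | add u v hu hv => rw [smul_add]; exact Submodule.add_mem _ hu hv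
  let q : (Fin k → R) →ₗ[R] LinearMap.ker g :=
    A.mulVecLin.codRestrict _ fun v => LinearMap.mem_ker.2 (hex.apply_apply_eq_zero v)
  have hq : Function.Surjective q := fun z => by
    obtain ⟨u, hu⟩ := (hex z.1).1 z.2
    exact ⟨u, Subtype.ext hu⟩
  have hcomp : φ = (LinearMap.ker g).subtype.lTensor M ∘ₗ q.lTensor M := by
    rw [← LinearMap.lTensor_comp, LinearMap.subtype_comp_codRestrict]
  refine fun u v huv => ?_
  obtain ⟨u, rfl⟩ := LinearMap.lTensor_surjective M hq u
  obtain ⟨v, rfl⟩ := LinearMap.lTensor_surjective M hq v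
  have : φ u = φ v := by rw [hcomp]; exact huv
  rw [hinj this]

include hIJ in
theorem subsingleton_ext_two (hI : I ≤ Module.annihilator R M) (hJ : J ≤ Module.annihilator R N)
    (y : R) (hy : y ∈ maximalIdeal R) (hyN : IsSMulRegular N y) {k : ℕ}
    (A : Matrix (Fin k) (Fin k) R) (g : (Fin k → R) →ₗ[R] M) (hg : Function.Surjective g)
    (hex : Function.Exact A.mulVecLin g) :
    Subsingleton (Abelian.Ext (ModuleCat.of R M) (ModuleCat.of R N) 2) := by
  let q : (Fin k → R) →ₗ[R] LinearMap.ker g :=
    A.mulVecLin.codRestrict _ fun v => LinearMap.mem_ker.2 (hex.apply_apply_eq_zero v)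
  have hq : Function.Surjective q := fun z => by
    obtain ⟨u, hu⟩ := (hex z.1).1 z.2
    exact ⟨u, Subtype.ext hu⟩
  have hS₁ := LinearMap.shortExact_shortComplexKer hg
  have hS₂ := LinearMap.shortExact_shortComplexKer hq
  haveI : Projective (ModuleCat.of R (Fin k → R)) := (IsProjective.iff_projective _).mp inferInstance
  haveI : Projective g.shortComplexKer.X₂ := ‹Projective (ModuleCat.of R (Fin k → R))›
  haveI : Projective q.shortComplexKer.X₂ := ‹Projective (ModuleCat.of R (Fin k → R))›
  refine subsingleton_of_forall_eq 0 fun x₂ => ?_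
  obtain ⟨x₁, rfl⟩ := Abelian.Ext.contravariant_sequence_exact₃ hS₁ _ x₂
    (Abelian.Ext.eq_zero_of_projective _) (rfl : 1 + 1 = 2)
  obtain ⟨x₀, rfl⟩ := Abelian.Ext.contravariant_sequence_exact₃ hS₂ _ x₁
    (Abelian.Ext.eq_zero_of_projective _) (rfl : 1 + 0 = 1)
  have hkerq : LinearMap.ker q = LinearMap.ker A.mulVecLin := LinearMap.ker_codRestrict _ _ _
  obtain ⟨h, rfl⟩ : ∃ h, Abelian.Ext.mk₀ h = x₀ := Abelian.Ext.homEquiv₀.symm.surjective x₀
  have h0 : h = 0 := by
    refine ModuleCat.hom_ext (LinearMap.ext fun v => ?_)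
    have := hom_ker_eq_zero I J n hIJ M N hI hJ y hy hyN A g hex
      (h.hom ∘ₗ (LinearEquiv.ofEq _ _ hkerq.symm).toLinearMap)
    exact LinearMap.congr_fun this (LinearEquiv.ofEq _ _ hkerq v)
  rw [h0, Abelian.Ext.mk₀_zero, Abelian.Ext.comp_zero, Abelian.Ext.comp_zero]

end Vanishing

/-- In a reduced Noetherian local ring of positive dimension the maximal ideal has a regular element. -/
theorem exists_regular (R : Type u) [CommRing R] [IsLocalRing R] [IsNoetherianRing R] [IsReduced R]
    (hfield : ¬ IsField R) : ∃ z ∈ maximalIdeal R, z ∈ nonZeroDivisors R := by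
  classical
  by_contra h
  push Not at h
  have hsub : (maximalIdeal R : Set R) ⊆ ⋃ q ∈ minimalPrimes R, (q : Set R) := by
    intro z hz
    have hz' := h z hz
    rw [mem_nonZeroDivisors_iff_right] at hz'
    push Not at hz'
    obtain ⟨c, hc, hc0⟩ := hz'
    by_contra hno
    simp only [Set.mem_iUnion, SetLike.mem_coe, not_exists] at hno
    refine hc0 (IsReduced.eq_zero c (nilpotent_iff_mem_prime.mpr fun P hP => ?_))
    haveI := hP
    obtain ⟨q, hq, hqP⟩ := Ideal.exists_minimalPrimes_le (I := (⊥ : Ideal R)) (J := P) bot_le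
    exact hqP ((hq.1.1.mem_or_mem (show c * z ∈ q by rw [hc]; exact q.zero_mem)).resolve_right (hno q hq))
  obtain ⟨q, hq, hle⟩ := (Ideal.subset_union_prime_finite (minimalPrimes.finite_of_isNoetherianRing R)
    (f := id) ⊥ ⊥ fun _ h _ _ => h.1.1).1 hsub
  have : maximalIdeal R = q := (maximalIdeal.isMaximal R).eq_of_le hq.1.1.ne_top hle
  haveI hsing : Ring.KrullDimLE 0 R := .mk₀ fun P hP => by
    have hPm := IsLocalRing.le_maximalIdeal hP.ne_top
    have : P = maximalIdeal R := le_antisymm hPm (this ▸ hq.2 ⟨hP, bot_le⟩ (this ▸ hPm))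
    rw [this]; exact maximalIdeal.isMaximal R
  exact hfield Ring.KrullDimLE.isField_of_isReduced

end Groth.Calg6.Planar
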