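import Groth.Prelude.Def_IntMult
import Groth.Agent.ParaFormal.StalkIdeal
import Groth.Agent.Ega4Algebra2.RegularImmersion
import Groth.Agent.Variety2.DimScheme
import Groth.Agent.Ega41Dim.SystemParams
import Groth.Agent.VarietyBC.SmoothChart
import Mathlib.AlgebraicGeometry.IdealSheaf.Subscheme

/-!
Local rings at a component of a proper intersection.
-/

set_option autoImplicit false

universe u

open CategoryTheory AlgebraicGeometry TopologicalSpace

namespace Groth.Calg6.ProperStalk

variable {X : Scheme.{u}}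

/-- The local ring of a closed subscheme. -/
theorem exists_stalk_equiv (I : X.IdealSheafData) (z : I.subscheme) :
    Nonempty ((X.presheaf.stalk (I.subschemeι z) ⧸ IntMult.stalkIdeal I (I.subschemeι z)) ≃+*
      I.subscheme.presheaf.stalk z) := by
  obtain ⟨U, hU, -⟩ := Divisors.exists_affine_le (I.subschemeι z) ⊤ trivial
  have h : RingHom.ker (I.subschemeι.stalkMap z).hom = IntMult.stalkIdeal I (I.subschemeι z) := by
    rw [Groth.ParaFormal.stalkIdeal_eq I U hU, Groth.Ega4b.ker_stalkMap_eq_map I.subschemeι U.2 z hU,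
      Scheme.IdealSheafData.ker_subschemeι]
  exact ⟨(Ideal.quotEquivOfEq h.symm).trans
    (RingHom.quotientKerEquivOfSurjective (I.subschemeι.stalkMap_surjective z))⟩

theorem exists_point (I : X.IdealSheafData) {x : X} (hx : x ∈ I.support) :
    ∃ z : I.subscheme, I.subschemeι z = x := by
  have : x ∈ Set.range I.subschemeι := by rw [Scheme.IdealSheafData.range_subschemeι]; exact hx
  exact this

theorem stalkIdeal_ne_top (I : X.IdealSheafData) {x : X} (hx : x ∈ I.support) :
    IntMult.stalkIdeal I x ≠ ⊤ := fun h => by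
  obtain ⟨z, rfl⟩ := exists_point I hx
  obtain ⟨e⟩ := exists_stalk_equiv I z
  have := Ideal.Quotient.subsingleton_iff.2 h
  have := e.symm.toEquiv.subsingleton
  exact not_subsingleton (I.subscheme.presheaf.stalk z) this

theorem mem_support_of_stalkIdeal_ne_top (I : X.IdealSheafData) {x : X}
    (hx : IntMult.stalkIdeal I x ≠ ⊤) : x ∈ I.support := by
  obtain ⟨U, hU, -⟩ := Divisors.exists_affine_le x ⊤ trivial
  rw [Scheme.IdealSheafData.mem_support_iff_of_mem (U := U) hU, Scheme.mem_zeroLocus_iff]
  intro f hf hfx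
  rw [Scheme.mem_basicOpen X f x hU] at hfx
  refine hx (Ideal.eq_top_of_isUnit_mem _ ?_ hfx)
  rw [Groth.ParaFormal.stalkIdeal_eq I U hU]
  exact Ideal.mem_map_of_mem _ hf

theorem isPrime_stalkIdeal (I : X.IdealSheafData) [IsIntegral I.subscheme] {x : X} (hx : x ∈ I.support) :
    (IntMult.stalkIdeal I x).IsPrime := by
  obtain ⟨z, rfl⟩ := exists_point I hx
  obtain ⟨e⟩ := exists_stalk_equiv I z
  rw [← Ideal.Quotient.isDomain_iff_prime]
  exact e.toMulEquiv.isDomain

theorem topologicalKrullDim_subscheme (I : X.IdealSheafData) :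
    topologicalKrullDim I.subscheme = topologicalKrullDim (I.support : Set X) := by
  let h := I.subschemeι.isClosedEmbedding.toIsEmbedding.toHomeomorph.trans
    (Homeomorph.setCongr (Scheme.IdealSheafData.range_subschemeι I))
  exact IsHomeomorph.topologicalKrullDim_eq _ h.isHomeomorph

variable {K : Type u} [Field K] (f : X ⟶ Spec (CommRingCat.of K)) [LocallyOfFiniteType f]

include f in
theorem ringKrullDim_quotient_add_height (I : X.IdealSheafData) [IsIntegral I.subscheme] {x : X}
    (hx : x ∈ I.support) {r : ℕ} (hr : topologicalKrullDim (I.support : Set X) = r) :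
    ringKrullDim (X.presheaf.stalk x ⧸ IntMult.stalkIdeal I x) + (Order.height x : ℕ∞) = r := by
  obtain ⟨z, rfl⟩ := exists_point I hx
  obtain ⟨e⟩ := exists_stalk_equiv I z
  rw [ringKrullDim_eq_of_ringEquiv e,
    Groth.Variety2.Dim.height_eq_of_isPreimmersion (I.subschemeι ≫ f) f I.subschemeι rfl z,
    Groth.Variety2.Dim.ringKrullDim_stalk_add_height (I.subschemeι ≫ f) z, topologicalKrullDim_subscheme, hr]

include f in
/-- The dimension inequality at a component of a proper intersection. -/
theorem dim_le_add [IsIntegral X] {x : X}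
    (IV IW : X.IdealSheafData) [IsIntegral IV.subscheme] [IsIntegral IW.subscheme] {n r s : ℕ}
    (hn : topologicalKrullDim X = n) (hr : topologicalKrullDim (IV.support : Set X) = r)
    (hs : topologicalKrullDim (IW.support : Set X) = s)
    (hprop : IntMult.ProperInt (IV.support : Set X) (IW.support : Set X) n r s)
    (hxV : x ∈ IV.support) (hxW : x ∈ IW.support) :
    ∃ d a b : ℕ, ringKrullDim (X.presheaf.stalk x) = d ∧
      ringKrullDim (X.presheaf.stalk x ⧸ IntMult.stalkIdeal IV x) = a ∧
      ringKrullDim (X.presheaf.stalk x ⧸ IntMult.stalkIdeal IW x) = b ∧ d ≤ a + b := by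
  obtain ⟨h, hh⟩ := Groth.Variety2.Dim.exists_height_eq f x
  obtain ⟨hnrs, hdim⟩ := hprop ⟨x, hxV, hxW⟩
  have hle : h ≤ r + s - n := by
    have h1 : ((Order.height x : ℕ∞) : WithBot ℕ∞) ≤ ((r + s - n : ℕ) : WithBot ℕ∞) := by
      refine le_trans ?_ hdim
      rw [Groth.Variety2.Dim.dim_closed (IV.support.isClosed.inter IW.support.isClosed)]
      exact le_iSup₂ (f := fun y (_ : y ∈ (IV.support : Set X) ∩ IW.support) =>
        ((Order.height y : ℕ∞) : WithBot ℕ∞)) x ⟨hxV, hxW⟩
    rw [hh] at h1
    exact Nat.cast_le.1 (WithBot.coe_le_coe.1 h1)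
  have key : ∀ (D : WithBot ℕ∞) (m : ℕ), D + ((h : ℕ∞) : WithBot ℕ∞) = m → ∃ d : ℕ, D = d ∧ d + h = m := by
    intro D m hD
    cases D with
    | bot => rw [WithBot.bot_add] at hD; exact absurd hD (by simp)
    | coe D =>
      cases D with
      | top =>
        rw [← WithBot.coe_add, top_add] at hD
        have : (⊤ : ℕ∞) = (m : ℕ∞) := WithBot.coe_inj.1 hD
        exact absurd this (ENat.coe_ne_top m).symm
      | coe d => exact ⟨d, rfl, by exact_mod_cast hD⟩
  have h0 := Groth.Variety2.Dim.ringKrullDim_stalk_add_height f x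
  rw [hn, hh] at h0
  have hV := ringKrullDim_quotient_add_height f IV hxV hr
  rw [hh] at hV
  have hW := ringKrullDim_quotient_add_height f IW hxW hs
  rw [hh] at hW
  obtain ⟨d, hd, hd'⟩ := key _ _ h0
  obtain ⟨a, ha, ha'⟩ := key _ _ hV
  obtain ⟨b, hb, hb'⟩ := key _ _ hW
  exact ⟨d, a, b, hd, ha, hb, by omega⟩


/-- The intersection has finite length at a component. -/
theorem isFiniteLength_inter {x : X} [IsNoetherianRing (X.presheaf.stalk x)] (IV IW : X.IdealSheafData)
    (hmax : ∀ y : X, y ∈ IV.support → y ∈ IW.support → y ⤳ x → y = x) :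
    IsFiniteLength (X.presheaf.stalk x)
      (X.presheaf.stalk x ⧸ (IntMult.stalkIdeal IV x ⊔ IntMult.stalkIdeal IW x)) := by
  haveI : IsArtinianRing (X.presheaf.stalk x ⧸ (IntMult.stalkIdeal IV x ⊔ IntMult.stalkIdeal IW x)) :=
    Groth.Ega41Dim.isArtinianRing_quotient_of_forall_isMaximal _ fun p hp hle => by
      obtain ⟨y, hy, hyp⟩ := Groth.ParaFormal.exists_spec_comap_eq x p
      have hmem : ∀ I : X.IdealSheafData, IntMult.stalkIdeal I x ≤ p → y ∈ I.support := fun I hI => by
        refine mem_support_of_stalkIdeal_ne_top I fun htop => ?_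
        rw [← Groth.ParaFormal.stalkIdeal_spec I hy] at htop
        refine (IsLocalRing.maximalIdeal.isMaximal _).ne_top (top_le_iff.1 (htop.ge.trans ?_))
        rw [Ideal.map_le_iff_le_comap, hyp]
        exact hI
      obtain rfl := hmax y (hmem IV (le_sup_left.trans hle)) (hmem IW (le_sup_right.trans hle)) hy
      rw [← hyp, TopCat.Presheaf.stalkSpecializes_refl]
      simp only [CommRingCat.hom_id, Ideal.comap_id]
      exact IsLocalRing.maximalIdeal.isMaximal _
  exact isFiniteLength_iff_isNoetherian_isArtinian.2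
    ⟨inferInstance, isArtinian_of_surjective_algebraMap (Ideal.Quotient.mk_surjective (I := IntMult.stalkIdeal IV x ⊔ IntMult.stalkIdeal IW x))⟩

end Groth.Calg6.ProperStalk
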