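import Mathlib
import Groth.Agent.Ega4Algebra1.RegularLocal

/-! Regular quotients of regular local rings. -/

set_option autoImplicit false
universe u v

namespace Groth.Calg6

open IsLocalRing

/-- An ideal containing `x` needs at most one generator more than its image modulo `x`. -/
theorem spanFinrank_le_map_add_one {R : Type u} [CommRing R] [IsNoetherianRing R] (I : Ideal R) {x : R} (hx : x ∈ I) :
    I.spanFinrank ≤ (I.map (Ideal.Quotient.mk (Ideal.span {x}))).spanFinrank + 1 := by
  classical
  set q := Ideal.Quotient.mk (Ideal.span {x})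
  have hfg : (I.map q).FG := IsNoetherian.noetherian _
  have hf := Submodule.FG.finite_generators hfg
  have hex : ∀ y : (I.map q).generators, ∃ z ∈ I, q z = (y : R ⧸ Ideal.span {x}) := fun y =>
    (Ideal.mem_map_iff_of_surjective _ Ideal.Quotient.mk_surjective).1
      (by
        have h2 : (y : R ⧸ Ideal.span {x}) ∈ Submodule.span (R ⧸ Ideal.span {x}) (I.map q).generators := Submodule.subset_span y.2
        rwa [Submodule.span_generators] at h2)
  choose l hl hlq using hex
  haveI := hf.to_subtype
  have hs : I = Ideal.span (insert x (Set.range l)) := by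
    refine le_antisymm (fun z hz => ?_) (Ideal.span_le.2 (Set.insert_subset hx (Set.range_subset_iff.2 hl)))
    have h1 : q z ∈ (Ideal.span (Set.range l)).map q := by
      rw [Ideal.map_span, ← Set.range_comp]
      have h2 : q z ∈ I.map q := Ideal.mem_map_of_mem q hz
      rw [← Submodule.span_generators (I.map q)] at h2
      refine Submodule.span_mono ?_ h2
      intro y hy
      exact ⟨⟨y, hy⟩, hlq _⟩
    rw [← Ideal.mem_comap, Ideal.comap_map_of_surjective _ Ideal.Quotient.mk_surjective,
      ← RingHom.ker_eq_comap_bot, Ideal.mk_ker] at h1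
    rw [Ideal.span_insert, sup_comm]
    exact h1
  calc I.spanFinrank = (Ideal.span (insert x (Set.range l))).spanFinrank := by rw [← hs]
    _ ≤ (insert x (Set.range l)).ncard := Submodule.spanFinrank_span_le_ncard_of_finite ((Set.finite_range l).insert x)
    _ ≤ (Set.range l).ncard + 1 := Set.ncard_insert_le _ _
    _ ≤ _ := by
      refine Nat.add_le_add_right ?_ 1
      rw [← Set.image_univ]
      refine (Set.ncard_image_le Set.finite_univ).trans ?_
      rw [Set.ncard_univ, Nat.card_coe_set_eq, Submodule.FG.generators_ncard hfg]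

/-- A regular quotient of a regular local ring is cut out by `dim R - dim R/I` elements. -/
theorem spanFinrank_add_le_of_isRegularLocalRing_quotient :
    ∀ (k : ℕ) {R : Type u} [CommRing R] [IsRegularLocalRing R] (I : Ideal R) [IsRegularLocalRing (R ⧸ I)] (a : ℕ),
      ringKrullDim R = ((a + k : ℕ) : WithBot ℕ∞) → ringKrullDim (R ⧸ I) = (a : WithBot ℕ∞) → I.spanFinrank ≤ k := by
  intro k
  induction k with
  | zero =>
    intro R _ _ I _ a hR hI
    haveI := Groth.Ega4Algebra1.isDomain_of_isRegularLocalRing R
    suffices I = ⊥ by simp [this, Submodule.spanFinrank]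
    by_contra hne
    obtain ⟨f, hf, hf0⟩ := Submodule.exists_mem_ne_zero_of_ne_bot hne
    have h1 := ringKrullDim_quotient_succ_le_of_nonZeroDivisor (mem_nonZeroDivisors_of_ne_zero hf0)
    have h2 : ringKrullDim (R ⧸ I) ≤ ringKrullDim (R ⧸ Ideal.span {f}) :=
      ringKrullDim_le_of_surjective (Ideal.Quotient.factor ((Ideal.span_singleton_le_iff_mem _).2 hf))
        (Ideal.Quotient.factor_surjective _)
    rw [hI] at h2
    rw [hR] at h1
    have := (add_le_add_left h2 1).trans h1
    norm_cast at this
    simp at this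
  | succ k ih =>
    intro R _ _ I _ a hR hI
    have hIne : I ≠ ⊤ := by
      intro h
      haveI := Ideal.Quotient.subsingleton_iff.2 h
      exact not_nontrivial (R ⧸ I) inferInstance
    have hIm : I ≤ maximalIdeal R := le_maximalIdeal hIne
    have hns : ¬ I ≤ maximalIdeal R ^ 2 := by
      intro hle
      have h1 : maximalIdeal (R ⧸ I) = (maximalIdeal R).map (Ideal.Quotient.mk I) :=
        (map_maximalIdeal_of_surjective _ Ideal.Quotient.mk_surjective).symm
      set s := (maximalIdeal (R ⧸ I)).spanFinrank
      have hs : s = a := by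
        have := IsRegularLocalRing.spanFinrank_maximalIdeal (R := R ⧸ I)
        rw [hI] at this; exact_mod_cast this
      have hm : (maximalIdeal R).spanFinrank = a + (k + 1) := by
        have := IsRegularLocalRing.spanFinrank_maximalIdeal (R := R)
        rw [hR] at this; exact_mod_cast this
      classical
      have hfg : (maximalIdeal (R ⧸ I)).FG := IsNoetherian.noetherian _
      have hf := Submodule.FG.finite_generators hfg
      choose l hl using Ideal.Quotient.mk_surjective (I := I)
      let T := l '' (maximalIdeal (R ⧸ I)).generators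
      have hT : maximalIdeal R ≤ Ideal.span T := by
        refine Submodule.le_of_le_smul_of_le_jacobson_bot (IsNoetherian.noetherian _) (maximalIdeal_le_jacobson ⊥) ?_
        intro z hz
        have h2 : Ideal.Quotient.mk I z ∈ (Ideal.span T).map (Ideal.Quotient.mk I) := by
          rw [Ideal.map_span, ← Set.image_comp]
          simp only [Function.comp_def, hl, Set.image_id']
          show Ideal.Quotient.mk I z ∈ Submodule.span (R ⧸ I) (maximalIdeal (R ⧸ I)).generators
          rw [Submodule.span_generators, h1]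
          exact Ideal.mem_map_of_mem _ hz
        rw [← Ideal.mem_comap, Ideal.comap_map_of_surjective _ Ideal.Quotient.mk_surjective,
          ← RingHom.ker_eq_comap_bot, Ideal.mk_ker] at h2
        rw [smul_eq_mul, ← pow_two]
        exact (sup_le_sup_left hle _) h2
      have hT' : Ideal.span T ≤ maximalIdeal R := Ideal.span_le.2 (by
        rintro _ ⟨y, hy, rfl⟩
        have h3 : y ∈ maximalIdeal (R ⧸ I) := Submodule.span_generators (maximalIdeal (R ⧸ I)) ▸ Submodule.subset_span hy
        rw [h1, ← hl y] at h3
        obtain ⟨w, hw, hwy⟩ := (Ideal.mem_map_iff_of_surjective _ Ideal.Quotient.mk_surjective).1 h3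
        simpa using (maximalIdeal R).sub_mem hw (hIm (Ideal.Quotient.eq.1 hwy)))
      have h4 : (maximalIdeal R).spanFinrank ≤ a := by
        calc (maximalIdeal R).spanFinrank = (Ideal.span T).spanFinrank := by rw [le_antisymm hT hT']
          _ ≤ T.ncard := Submodule.spanFinrank_span_le_ncard_of_finite (hf.image l)
          _ ≤ _ := (Set.ncard_image_le hf).trans (by rw [Submodule.FG.generators_ncard hfg]; exact hs.le)
      omega
    obtain ⟨x, hxI, hx2⟩ := SetLike.not_le_iff_exists.1 hns
    obtain ⟨hreg1, hdimx⟩ := Groth.Ega4Algebra1.isRegularLocalRing_quotient_span_singleton (hIm hxI) hx2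
    haveI := hreg1
    set q := Ideal.Quotient.mk (Ideal.span {x})
    haveI hreg2 : IsRegularLocalRing ((R ⧸ Ideal.span {x}) ⧸ I.map q) :=
      IsRegularLocalRing.of_ringEquiv ((Ideal.quotEquivOfEq (sup_eq_right.2 ((Ideal.span_singleton_le_iff_mem _).2 hxI))).symm.trans
        (DoubleQuot.quotQuotEquivQuotSup (Ideal.span {x}) I).symm)
    have hdim1 : ringKrullDim (R ⧸ Ideal.span {x}) = ((a + k : ℕ) : WithBot ℕ∞) := by
      rw [← IsRegularLocalRing.spanFinrank_maximalIdeal, hR] at hdimx
      rw [← IsRegularLocalRing.spanFinrank_maximalIdeal]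
      norm_cast at hdimx ⊢
      omega
    have hdim2 : ringKrullDim ((R ⧸ Ideal.span {x}) ⧸ I.map q) = (a : WithBot ℕ∞) := by
      rw [← hI]
      exact ringKrullDim_eq_of_ringEquiv ((DoubleQuot.quotQuotEquivQuotSup (Ideal.span {x}) I).trans
        (Ideal.quotEquivOfEq (sup_eq_right.2 ((Ideal.span_singleton_le_iff_mem _).2 hxI))))
    have := ih (I.map q) a hdim1 hdim2
    have h5 : I.spanFinrank ≤ (I.map q).spanFinrank + 1 := spanFinrank_le_map_add_one I hxI
    omega

/-- Transversal intersection of two regular quotients. -/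
theorem isRegularLocalRing_quotient_sup {R : Type u} [CommRing R] [IsRegularLocalRing R]
    (I J : Ideal R) [IsRegularLocalRing (R ⧸ I)] [IsRegularLocalRing (R ⧸ J)] [IsLocalRing (R ⧸ (I ⊔ J))]
    (n a b : ℕ) (hn : ringKrullDim R = n) (ha : ringKrullDim (R ⧸ I) = a) (hb : ringKrullDim (R ⧸ J) = b)
    (ht : Module.finrank (ResidueField (R ⧸ (I ⊔ J))) (CotangentSpace (R ⧸ (I ⊔ J))) + n = a + b) :
    IsRegularLocalRing (R ⧸ (I ⊔ J)) ∧ ringKrullDim (R ⧸ (I ⊔ J)) = ((a + b - n : ℕ) : WithBot ℕ∞) := by
  have han : a ≤ n := by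
    have := ringKrullDim_quotient_le I
    rw [hn, ha] at this; exact_mod_cast this
  have hI : I.spanFinrank ≤ n - a :=
    spanFinrank_add_le_of_isRegularLocalRing_quotient (n - a) I a (by rw [hn, show a + (n - a) = n by omega]) ha
  set S := R ⧸ (I ⊔ J)
  haveI : IsNoetherianRing S := inferInstance
  have hs : ((maximalIdeal S).spanFinrank : WithBot ℕ∞) = ((a + b - n : ℕ) : WithBot ℕ∞) := by
    rw [spanFinrank_maximalIdeal_eq_finrank_cotangentSpace]
    have key : Module.finrank (ResidueField S) (CotangentSpace S) = a + b - n := Nat.eq_sub_of_add_eq ht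
    rw [key]
  have hlow : ((a + b - n : ℕ) : WithBot ℕ∞) ≤ ringKrullDim S := by
    have hJne : J ≠ ⊤ := fun h => by
      haveI := Ideal.Quotient.subsingleton_iff.2 h
      exact not_nontrivial (R ⧸ J) inferInstance
    have hIne : I ≠ ⊤ := fun h => by
      haveI := Ideal.Quotient.subsingleton_iff.2 h
      exact not_nontrivial (R ⧸ I) inferInstance
    set I' := I.map (Ideal.Quotient.mk J)
    have h1 := ringKrullDim_le_ringKrullDim_quotient_add_spanFinrank I' (by
      rw [IsLocalRing.ringJacobson_eq_maximalIdeal]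
      refine (Ideal.map_mono (le_maximalIdeal hIne)).trans (le_of_eq ?_)
      exact map_maximalIdeal_of_surjective _ Ideal.Quotient.mk_surjective)
    have e : ringKrullDim ((R ⧸ J) ⧸ I') = ringKrullDim S :=
      ringKrullDim_eq_of_ringEquiv ((DoubleQuot.quotQuotEquivQuotSup J I).trans (Ideal.quotEquivOfEq (sup_comm J I)))
    rw [hb, e] at h1
    have h2 : I'.spanFinrank ≤ n - a :=
      (Ideal.spanFinrank_map_le_of_fg _ (IsNoetherian.noetherian I)).trans hI
    obtain ⟨d, hd⟩ : ∃ d : ℕ, ringKrullDim S = (d : WithBot ℕ∞) := by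
      have hfin := ringKrullDim_le_spanFinrank_maximalIdeal S
      have h0 : (0 : WithBot ℕ∞) ≤ ringKrullDim S := ringKrullDim_nonneg_of_nontrivial
      obtain ⟨e, he⟩ := WithBot.ne_bot_iff_exists.1 (ne_bot_of_le_ne_bot (by simp) h0)
      rw [← he] at hfin ⊢
      have : e ≠ ⊤ := fun h => by
        rw [h] at hfin
        exact (not_le_of_gt (ENat.coe_lt_top _)) (WithBot.coe_le_coe.1 hfin)
      obtain ⟨e', rfl⟩ := ENat.ne_top_iff_exists.1 this
      exact ⟨e', rfl⟩
    rw [hd] at h1 ⊢
    norm_cast at h1 ⊢
    omega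
  have hreg : IsRegularLocalRing S :=
    IsRegularLocalRing.of_spanFinrank_maximalIdeal_le _ (hs.le.trans hlow)
  exact ⟨hreg, by rw [← IsRegularLocalRing.spanFinrank_maximalIdeal, hs]⟩

end Groth.Calg6
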