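import Mathlib
import Groth.Agent.EGA41Two.DimIntegral

/-! Simultaneous Noether normalisation with prescribed power perturbations. -/

set_option autoImplicit false
universe u

open MvPolynomial

namespace Groth.Calg6.RelNN

variable {k : Type u} [Field k] {S : Type u} [CommRing S] [Algebra k S]

/-- The tuple `z` generates a subalgebra over which `S` is finite. -/
def Good (k : Type u) [Field k] {S : Type u} [CommRing S] [Algebra k S] {ι : Type} (z : ι → S) : Prop :=
  (aeval z : MvPolynomial ι k →ₐ[k] S).toRingHom.Finite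

theorem isIntegralElem_range {ι : Type} (z : ι → S) (i : ι) :
    (aeval z : MvPolynomial ι k →ₐ[k] S).toRingHom.IsIntegralElem (z i) := by
  simpa using (aeval z : MvPolynomial ι k →ₐ[k] S).toRingHom.isIntegralElem_map (x := X i)

theorem good_of_isIntegralElem [Algebra.FiniteType k S] {ι κ : Type} {z : ι → S} {z' : κ → S}
    (hz : Good k z) (h : ∀ i, (aeval z' : MvPolynomial κ k →ₐ[k] S).toRingHom.IsIntegralElem (z i)) :
    Good k z' := by
  letI : Algebra (MvPolynomial κ k) S := (aeval z' : MvPolynomial κ k →ₐ[k] S).toRingHom.toAlgebra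
  haveI : IsScalarTower k (MvPolynomial κ k) S :=
    IsScalarTower.of_algebraMap_eq fun c => ((aeval z' : MvPolynomial κ k →ₐ[k] S).commutes c).symm
  have hint : Algebra.IsIntegral (MvPolynomial κ k) S := by
    refine ⟨fun s => ?_⟩
    let B := integralClosure (MvPolynomial κ k) S
    let ψ : MvPolynomial ι k →ₐ[k] B := aeval fun i => (⟨z i, h i⟩ : B)
    have hψ : (B.val.restrictScalars k).comp ψ = (aeval z : MvPolynomial ι k →ₐ[k] S) := by
      refine MvPolynomial.algHom_ext fun i => ?_
      simp [ψ]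
    obtain ⟨p, hp, hp0⟩ := hz.to_isIntegral s
    have hs : IsIntegral B s := by
      refine ⟨p.map ψ.toRingHom, hp.map _, ?_⟩
      rw [Polynomial.eval₂_map]
      refine Eq.trans ?_ hp0
      rw [← hψ]
      rfl
    exact isIntegral_trans (A := B) s hs
  haveI : Algebra.FiniteType (MvPolynomial κ k) S :=
    Algebra.FiniteType.of_restrictScalars_finiteType k _ S
  exact RingHom.finite_algebraMap.mpr Algebra.IsIntegral.finite

theorem exists_kernel [Nontrivial S] {ι : Type} [Fintype ι] {z : ι → S} (hz : Good k z) (d : ℕ)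
    (hd : ringKrullDim S ≤ d) (hι : d < Fintype.card ι) :
    ∃ h : MvPolynomial ι k, h ≠ 0 ∧ aeval z h = 0 := by
  by_contra hc
  push Not at hc
  have hinj : Function.Injective (aeval z : MvPolynomial ι k →ₐ[k] S) := by
    rw [injective_iff_map_eq_zero]
    exact fun h hh => by_contra fun h0 => hc h h0 hh
  letI : Algebra (MvPolynomial ι k) S := (aeval z : MvPolynomial ι k →ₐ[k] S).toRingHom.toAlgebra
  haveI : Module.Finite (MvPolynomial ι k) S := hz
  have h1 := Groth.EGA41Two.ringKrullDim_eq_of_isIntegral_of_injective (R := MvPolynomial ι k) (S := S) hinj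
  rw [← h1, MvPolynomial.ringKrullDim_of_isNoetherianRing, ringKrullDim_eq_zero_of_field, zero_add,
    Nat.card_eq_fintype_card] at hd
  have : Fintype.card ι ≤ d := by exact_mod_cast hd
  omega

/-- The Nagata substitution makes the first variable integral. -/
theorem isIntegralElem_nagata {n r : ℕ} (z : Fin (n + 1) → S) (h : MvPolynomial (Fin (n + 1)) k)
    (h0 : h ≠ 0) (hr : ∀ a ∈ h.support, ∀ i, a i < r) (hz : aeval z h = 0) :
    (aeval (fun i : Fin n => z i.succ - z 0 ^ r ^ ((i : ℕ) + 1)) :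
      MvPolynomial (Fin n) k →ₐ[k] S).toRingHom.IsIntegralElem (z 0) := by
  classical
  set φ : MvPolynomial (Fin n) k →ₐ[k] S := aeval (fun i : Fin n => z i.succ - z 0 ^ r ^ ((i : ℕ) + 1))
  let u : Fin (n + 1) → Polynomial (MvPolynomial (Fin n) k) :=
    Fin.cons Polynomial.X fun i => Polynomial.X ^ r ^ ((i : ℕ) + 1) + Polynomial.C (X i)
  have hr0 : ∀ a ∈ h.support, 0 < r := fun a ha => Nat.lt_of_le_of_lt (Nat.zero_le _) (hr a ha 0)
  obtain ⟨a₀, ha₀⟩ := MvPolynomial.support_nonempty.mpr h0
  have hrpos := hr0 a₀ ha₀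
  have hu : ∀ i, (u i).Monic ∧ (u i).natDegree = r ^ (i : ℕ) := by
    intro i
    cases i using Fin.cases with
    | zero => exact ⟨Polynomial.monic_X, by simp [u]⟩
    | succ i =>
      simp only [u, Fin.cons_succ, Fin.val_succ]
      exact ⟨Polynomial.monic_X_pow_add_C _ (pow_ne_zero _ hrpos.ne'), Polynomial.natDegree_X_pow_add_C⟩
  let t : (Fin (n + 1) →₀ ℕ) → Polynomial (MvPolynomial (Fin n) k) := fun a => ∏ i, u i ^ a i
  let w : (Fin (n + 1) →₀ ℕ) → ℕ := fun a => ∑ i, a i * r ^ (i : ℕ)
  have ht : ∀ a, (t a).Monic ∧ (t a).natDegree = w a := by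
    intro a
    refine ⟨Polynomial.monic_prod_of_monic _ _ fun i _ => (hu i).1.pow _, ?_⟩
    rw [Polynomial.natDegree_prod_of_monic _ _ fun i _ => (hu i).1.pow _]
    refine Finset.sum_congr rfl fun i _ => ?_
    rw [(hu i).1.natDegree_pow, (hu i).2]
  have hw : ∀ a ∈ h.support, ∀ b ∈ h.support, w a = w b → a = b := by
    intro a ha b hb hab
    have : (fun i => (⟨a i, hr a ha i⟩ : Fin r)) = fun i => ⟨b i, hr b hb i⟩ := by
      apply finFunctionFinEquiv.injective
      apply Fin.ext
      simpa [finFunctionFinEquiv, w] using hab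
    ext i
    exact congrArg Fin.val (congr_fun this i)
  let q : Polynomial (MvPolynomial (Fin n) k) :=
    ∑ a ∈ h.support, Polynomial.C (C (h.coeff a)) * t a
  obtain ⟨a, ha, hamax⟩ := h.support.exists_max_image w (MvPolynomial.support_nonempty.mpr h0)
  have hqdeg : q.natDegree ≤ w a := by
    refine Polynomial.natDegree_sum_le_of_forall_le _ _ fun b hb => ?_
    refine (Polynomial.natDegree_C_mul_le _ _).trans ?_
    rw [(ht b).2]; exact hamax b hb
  have hqcoeff : q.coeff (w a) = C (h.coeff a) := by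
    rw [Polynomial.finsetSum_coeff, Finset.sum_eq_single a]
    · rw [Polynomial.coeff_C_mul, ← (ht a).2, Polynomial.Monic.coeff_natDegree (ht a).1, mul_one]
    · intro b hb hba
      rw [Polynomial.coeff_C_mul, Polynomial.coeff_eq_zero_of_natDegree_lt, mul_zero]
      rw [(ht b).2]
      exact lt_of_le_of_ne (hamax b hb) fun e => hba (hw b hb a ha e)
    · intro h'; exact absurd ha h'
  have hq0 : Polynomial.eval₂ φ.toRingHom (z 0) q = 0 := by
    have hu' : ∀ i, Polynomial.eval₂ φ.toRingHom (z 0) (u i) = z i := by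
      intro i
      cases i using Fin.cases with
      | zero => simp [u]
      | succ i =>
        simp only [u, Fin.cons_succ, Polynomial.eval₂_add, Polynomial.eval₂_X_pow, Polynomial.eval₂_C]
        show z 0 ^ r ^ ((i : ℕ) + 1) + φ (X i) = _
        simp [φ]
    rw [← hz, aeval_def, eval₂_eq' , Polynomial.eval₂_finsetSum]
    refine Finset.sum_congr rfl fun b _ => ?_
    rw [Polynomial.eval₂_mul, Polynomial.eval₂_C, Polynomial.eval₂_finsetProd]
    congr 1
    · exact φ.commutes _
    · exact Finset.prod_congr rfl fun i _ => by rw [Polynomial.eval₂_pow, hu']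
  have hc : h.coeff a ≠ 0 := MvPolynomial.mem_support_iff.mp ha
  refine ⟨Polynomial.C (C (h.coeff a)⁻¹) * q, ?_, ?_⟩
  · refine Polynomial.monic_of_natDegree_le_of_coeff_eq_one (w a)
      ((Polynomial.natDegree_C_mul_le _ _).trans hqdeg) ?_
    rw [Polynomial.coeff_C_mul, hqcoeff, ← C_mul, inv_mul_cancel₀ hc, C_1]
  · rw [Polynomial.eval₂_mul, hq0, mul_zero]

theorem good_nagata [Algebra.FiniteType k S] {n r : ℕ} (z : Fin (n + 1) → S) (hz : Good k z)
    (h : MvPolynomial (Fin (n + 1)) k) (h0 : h ≠ 0) (hr : ∀ a ∈ h.support, ∀ i, a i < r)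
    (hh : aeval z h = 0) :
    Good k (fun i : Fin n => z i.succ - z 0 ^ r ^ ((i : ℕ) + 1)) := by
  have h1 := isIntegralElem_nagata z h h0 hr hh
  refine good_of_isIntegralElem hz fun i => ?_
  cases i using Fin.cases with
  | zero => exact h1
  | succ i =>
    have h2 := isIntegralElem_range (k := k) (fun i : Fin n => z i.succ - z 0 ^ r ^ ((i : ℕ) + 1)) i
    letI : Algebra (MvPolynomial (Fin n) k) S :=
      (aeval fun i : Fin n => z i.succ - z 0 ^ r ^ ((i : ℕ) + 1) : MvPolynomial (Fin n) k →ₐ[k] S).toRingHom.toAlgebra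
    have h3 := IsIntegral.add (R := MvPolynomial (Fin n) k) h2
      (IsIntegral.pow (R := MvPolynomial (Fin n) k) h1 (r ^ ((i : ℕ) + 1)))
    rwa [sub_add_cancel] at h3

theorem exists_kernel_of_le [Nontrivial S] {ι : Type} [Fintype ι] {z : ι → S} (hz : Good k z) (d : ℕ)
    (hd : ringKrullDim S ≤ d) (hι : d < Fintype.card ι) :
    ∃ (h : MvPolynomial ι k) (r : ℕ), h ≠ 0 ∧ aeval z h = 0 ∧ ∀ r' ≥ r, ∀ a ∈ h.support, ∀ i, a i < r' := by
  obtain ⟨h, h0, hh⟩ := exists_kernel hz d hd hι
  refine ⟨h, h.totalDegree + 1, h0, hh, fun r' hr' a ha i => ?_⟩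
  have h1 := MvPolynomial.le_totalDegree ha
  have h2 : a i ≤ a.sum fun _ e => e := by
    by_cases hi : i ∈ a.support
    · exact Finset.single_le_sum (f := fun j => a j) (fun _ _ => Nat.zero_le _) hi
    · simp [Finsupp.notMem_support_iff.mp hi]
  omega

section Two

variable {V R : Type u} [CommRing V] [CommRing R] [Algebra V R] [Algebra.FiniteType V R]

open TensorProduct

/-- Two fibres at once. -/
theorem exists_good (K₁ K₂ : Type u) [Field K₁] [Field K₂] [Algebra V K₁] [Algebra V K₂] (d : ℕ)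
    (h₁ : ringKrullDim (K₁ ⊗[V] R) ≤ d) (h₂ : ringKrullDim (K₂ ⊗[V] R) ≤ d) :
    ∃ g : Fin d → R, Good K₁ (fun i => (1 : K₁) ⊗ₜ[V] g i) ∧ Good K₂ (fun i => (1 : K₂) ⊗ₜ[V] g i) := by
  classical
  let ι₁ : R →ₐ[V] K₁ ⊗[V] R := Algebra.TensorProduct.includeRight
  let ι₂ : R →ₐ[V] K₂ ⊗[V] R := Algebra.TensorProduct.includeRight
  suffices H : ∀ (n : ℕ) (z : Fin n → R), Good K₁ (fun i => ι₁ (z i)) → Good K₂ (fun i => ι₂ (z i)) →
      ∃ g : Fin d → R, Good K₁ (fun i => ι₁ (g i)) ∧ Good K₂ (fun i => ι₂ (g i)) by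
    obtain ⟨n, f, hf⟩ := Algebra.FiniteType.iff_quotient_mvPolynomial''.mp ‹Algebra.FiniteType V R›
    have hz : ∀ (K : Type u) [Field K] [Algebra V K],
        Good K (fun i => (Algebra.TensorProduct.includeRight : R →ₐ[V] K ⊗[V] R) (f (X i))) := by
      intro K _ _
      refine RingHom.Finite.of_surjective _ fun y => ?_
      induction y using TensorProduct.induction_on with
      | zero => exact ⟨0, map_zero _⟩
      | add a b ha hb =>
        obtain ⟨a', ha'⟩ := ha
        obtain ⟨b', hb'⟩ := hb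
        exact ⟨a' + b', by rw [map_add, ha', hb']⟩
      | tmul c x =>
        obtain ⟨p, rfl⟩ := hf x
        refine ⟨C c * MvPolynomial.map (algebraMap V K) p, ?_⟩
        show aeval _ (C c * MvPolynomial.map (algebraMap V K) p) = _
        rw [map_mul, aeval_C, aeval_map_algebraMap]
        have : aeval (fun i => (Algebra.TensorProduct.includeRight : R →ₐ[V] K ⊗[V] R) (f (X i))) p =
            (Algebra.TensorProduct.includeRight : R →ₐ[V] K ⊗[V] R) (f p) := by
          rw [← AlgHom.comp_apply _ f p]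
          congr 1
          exact MvPolynomial.algHom_ext fun i => by simp
        rw [this, Algebra.TensorProduct.algebraMap_apply]
        show c ⊗ₜ[V] (1 : R) * (1 : K) ⊗ₜ[V] f p = c ⊗ₜ[V] f p
        simp
    exact H n (fun i => f (X i)) (hz K₁) (hz K₂)
  intro n
  induction n with
  | zero =>
    intro z hz₁ hz₂
    refine ⟨fun _ => 0, ?_, ?_⟩
    · exact good_of_isIntegralElem hz₁ fun i => i.elim0
    · exact good_of_isIntegralElem hz₂ fun i => i.elim0
  | succ n ih =>
    intro z hz₁ hz₂
    by_cases hn : n + 1 ≤ d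
    · let g : Fin d → R := fun i => if h : (i : ℕ) < n + 1 then z ⟨i, h⟩ else 0
      have hg : ∀ j : Fin (n + 1), g (Fin.castLE hn j) = z j := fun j => dif_pos j.isLt
      refine ⟨g, good_of_isIntegralElem hz₁ fun j => ?_, good_of_isIntegralElem hz₂ fun j => ?_⟩
      · rw [← hg]; exact isIntegralElem_range (k := K₁) (fun i => ι₁ (g i)) _
      · rw [← hg]; exact isIntegralElem_range (k := K₂) (fun i => ι₂ (g i)) _
    have hcard : d < Fintype.card (Fin (n + 1)) := by simpa using Nat.lt_of_not_le hn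
    have key : ∀ (K : Type u) [Field K] [Algebra V K], ringKrullDim (K ⊗[V] R) ≤ d →
        Good K (fun i => (Algebra.TensorProduct.includeRight : R →ₐ[V] K ⊗[V] R) (z i)) →
        ∃ r₀ : ℕ, ∀ r ≥ r₀, Good K (fun i : Fin n =>
          (Algebra.TensorProduct.includeRight : R →ₐ[V] K ⊗[V] R) (z i.succ - z 0 ^ r ^ ((i : ℕ) + 1))) := by
      intro K _ _ hdim hz
      rcases subsingleton_or_nontrivial (K ⊗[V] R) with hS | hS
      · exact ⟨0, fun r _ => RingHom.Finite.of_surjective _ fun y => ⟨0, Subsingleton.elim _ _⟩⟩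
      · obtain ⟨h, r₀, h0, hh, hr⟩ := exists_kernel_of_le hz d hdim hcard
        refine ⟨r₀, fun r hr' => ?_⟩
        simpa only [map_sub, map_pow] using good_nagata _ hz h h0 (hr r hr') hh
    obtain ⟨r₁, hr₁⟩ := key K₁ h₁ hz₁
    obtain ⟨r₂, hr₂⟩ := key K₂ h₂ hz₂
    exact ih _ (hr₁ (max r₁ r₂) (le_max_left _ _)) (hr₂ (max r₁ r₂) (le_max_right _ _))

end Two

/-- Adding high powers of a normalising tuple keeps finiteness. -/
theorem exists_good_perturb {d : ℕ} {g : Fin d → S} (hg : Good k g) (x : Fin d → S) :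
    ∃ M₀ : ℕ, ∀ M ≥ M₀, Good k (fun i => x i + g i ^ M) := by
  classical
  let φ : MvPolynomial (Fin d) k →ₐ[k] S := aeval g
  letI : Algebra (MvPolynomial (Fin d) k) S := φ.toRingHom.toAlgebra
  haveI : Module.Finite (MvPolynomial (Fin d) k) S := hg
  obtain ⟨n, e, he⟩ := Module.Finite.exists_fin (R := MvPolynomial (Fin d) k) (M := S)
  have hP : ∀ i l, ∃ P : Fin n → MvPolynomial (Fin d) k, ∑ j, P j • e j = x i * e l := fun i l => by
    refine (Submodule.mem_span_range_iff_exists_fun _).mp ?_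
    rw [he]; trivial
  choose P hP using hP
  have hdec : ∀ s : S, ∃ c : Fin n → MvPolynomial (Fin d) k, ∑ l, φ (c l) * e l = s := fun s => by
    obtain ⟨c, hc⟩ := (Submodule.mem_span_range_iff_exists_fun (MvPolynomial (Fin d) k)).mp
      (show s ∈ Submodule.span _ (Set.range e) by rw [he]; trivial)
    exact ⟨c, hc⟩
  let D := Finset.univ.sup fun i => Finset.univ.sup fun l => Finset.univ.sup fun j => (P i l j).totalDegree
  refine ⟨D + 1, fun M hM => ?_⟩
  let f : Fin d → S := fun i => x i + g i ^ M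
  let ψ : MvPolynomial (Fin d) k →ₐ[k] S := aeval f
  let F : Finset (Fin d →₀ ℕ) := (Finset.univ : Finset (Fin d → Fin M)).image
    fun a => Finsupp.equivFunOnFinite.symm fun i => (a i : ℕ)
  suffices hall : ∀ (D' : ℕ) (a : Fin d →₀ ℕ), a.degree = D' → ∀ l,
      φ (monomial a 1) * e l ∈ {s | ∃ c : (Fin d →₀ ℕ) → Fin n → MvPolynomial (Fin d) k,
        s = ∑ b ∈ F, ∑ j, ψ (c b j) * (φ (monomial b 1) * e j)} by
    letI alg : Algebra (MvPolynomial (Fin d) k) S := ψ.toRingHom.toAlgebra
    show @Module.Finite _ S _ _ alg.toModule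
    refine ⟨⟨(F ×ˢ Finset.univ).image fun p => φ (monomial p.1 1) * e p.2, ?_⟩⟩
    rw [eq_top_iff]
    intro s _
    set N := @Submodule.span (MvPolynomial (Fin d) k) S _ _ alg.toModule
      (((F ×ˢ Finset.univ).image fun p => φ (monomial p.1 1) * e p.2 : Finset S) : Set S)
    have hbase : ∀ a l, φ (monomial a 1) * e l ∈ N := fun a l => by
      obtain ⟨c, hc⟩ := hall _ a rfl l
      rw [hc]
      refine Submodule.sum_mem _ fun b hb => Submodule.sum_mem _ fun j _ => ?_
      exact N.smul_mem (c b j) (Submodule.subset_span (Finset.mem_coe.mpr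
        (Finset.mem_image.mpr ⟨(b, j), Finset.mem_product.mpr ⟨hb, Finset.mem_univ _⟩, rfl⟩)))
    have hgen : ∀ (p : MvPolynomial (Fin d) k) l, φ p * e l ∈ N := fun p l => by
      induction p using MvPolynomial.induction_on' with
      | monomial a c =>
        have : φ (monomial a c) * e l = ψ (C c) * (φ (monomial a 1) * e l) := by
          rw [← mul_assoc, show monomial a c = C c * monomial a 1 by rw [C_mul_monomial, mul_one],
            map_mul]
          congr 2
          rw [← MvPolynomial.algebraMap_eq, AlgHom.commutes, AlgHom.commutes]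
        rw [this]
        exact N.smul_mem (C c) (hbase a l)
      | add p q hp hq => rw [map_add, add_mul]; exact add_mem hp hq
    obtain ⟨c, hc⟩ := hdec s
    rw [← hc]
    exact Submodule.sum_mem _ fun l _ => hgen (c l) l
  intro D'
  induction D' using Nat.strong_induction_on with
  | _ D' ih =>
  intro a ha l
  have zero' : (0 : S) ∈ {s | ∃ c : (Fin d →₀ ℕ) → Fin n → MvPolynomial (Fin d) k,
      s = ∑ b ∈ F, ∑ j, ψ (c b j) * (φ (monomial b 1) * e j)} := ⟨0, by simp⟩
  by_cases hsmall : ∀ i, a i < M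
  · have haF : a ∈ F := Finset.mem_image.mpr ⟨fun i => ⟨a i, hsmall i⟩, Finset.mem_univ _, by ext i; simp⟩
    refine ⟨fun b j => if b = a ∧ j = l then 1 else 0, ?_⟩
    rw [Finset.sum_eq_single a (fun b _ hb => by simp [hb]) (fun h => absurd haF h),
      Finset.sum_eq_single l (fun j _ hj => by simp [hj]) (fun h => absurd (Finset.mem_univ l) h)]
    simp
  push Not at hsmall
  obtain ⟨i, hi⟩ := hsmall
  obtain ⟨a', rfl⟩ := exists_add_of_le (Finsupp.single_le_iff.mpr hi : Finsupp.single i M ≤ a)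
  have hdeg : a'.degree + M = D' := by rw [← ha, map_add, Finsupp.degree_single]; ring
  have hmon : φ (monomial (Finsupp.single i M + a') 1) = g i ^ M * φ (monomial a' 1) := by
    rw [← one_mul (1 : k), ← monomial_mul, map_mul, one_mul, ← X_pow_eq_monomial, map_pow, aeval_X]
  rw [hmon]
  obtain ⟨c₀, hc₀⟩ := ih a'.degree (by omega) a' rfl l
  have hlow : ∀ (j : Fin n) (p : MvPolynomial (Fin d) k), p.totalDegree ≤ D →
      φ (monomial a' 1 * p) * e j ∈ {s | ∃ c : (Fin d →₀ ℕ) → Fin n → MvPolynomial (Fin d) k,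
        s = ∑ b ∈ F, ∑ j, ψ (c b j) * (φ (monomial b 1) * e j)} := by
    intro j p hp
    rw [p.as_sum, Finset.mul_sum, map_sum, Finset.sum_mul]
    have hterm : ∀ b ∈ p.support, ∃ c : (Fin d →₀ ℕ) → Fin n → MvPolynomial (Fin d) k,
        φ (monomial a' 1 * monomial b (p.coeff b)) * e j =
          ∑ b' ∈ F, ∑ j', ψ (c b' j') * (φ (monomial b' 1) * e j') := by
      intro b hb
      have hb' : b.degree ≤ D := by
        refine le_trans ?_ hp
        exact (MvPolynomial.le_totalDegree hb)
      obtain ⟨c, hc⟩ := ih (a' + b).degree (by rw [map_add]; omega) (a' + b) rfl j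
      refine ⟨fun b' j' => C (p.coeff b) * c b' j', ?_⟩
      rw [monomial_mul, one_mul, show monomial (a' + b) (p.coeff b) = C (p.coeff b) * monomial (a' + b) 1 by
        rw [C_mul_monomial, mul_one], map_mul, mul_assoc, hc, Finset.mul_sum]
      refine Finset.sum_congr rfl fun b' _ => ?_
      rw [Finset.mul_sum]
      refine Finset.sum_congr rfl fun j' _ => ?_
      rw [map_mul, ← MvPolynomial.algebraMap_eq, AlgHom.commutes, AlgHom.commutes, mul_assoc]
    choose! c hc using hterm
    refine ⟨fun b' j' => ∑ b ∈ p.support, c b b' j', ?_⟩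
    rw [Finset.sum_congr rfl hc, Finset.sum_comm]
    refine Finset.sum_congr rfl fun b' _ => ?_
    rw [Finset.sum_comm]
    refine Finset.sum_congr rfl fun j' _ => ?_
    rw [map_sum, Finset.sum_mul]
  choose c₁ hc₁ using fun j => hlow j (P i l j) (by
    refine le_trans ?_ (Finset.le_sup (Finset.mem_univ i))
    refine le_trans ?_ (Finset.le_sup (Finset.mem_univ l))
    exact Finset.le_sup (f := fun j => (P i l j).totalDegree) (Finset.mem_univ j))
  refine ⟨fun b j' => X i * c₀ b j' - ∑ j, c₁ j b j', ?_⟩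
  have hx : φ (monomial a' 1) * (x i * e l) = ∑ j, φ (monomial a' 1 * P i l j) * e j := by
    rw [← hP i l, Finset.mul_sum]
    refine Finset.sum_congr rfl fun j _ => ?_
    rw [map_mul, mul_assoc]
    rfl
  calc g i ^ M * φ (monomial a' 1) * e l
      = f i * (φ (monomial a' 1) * e l) - φ (monomial a' 1) * (x i * e l) := by simp only [f]; ring
    _ = _ := by
      rw [hc₀, hx, Finset.sum_congr rfl fun j _ => hc₁ j, Finset.sum_comm (s := Finset.univ) (t := F),
        Finset.mul_sum, ← Finset.sum_sub_distrib]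
      refine Finset.sum_congr rfl fun b _ => ?_
      rw [Finset.sum_comm, Finset.mul_sum, ← Finset.sum_sub_distrib]
      refine Finset.sum_congr rfl fun j' _ => ?_
      rw [map_sub, map_mul, aeval_X, map_sum, sub_mul, Finset.sum_mul, mul_assoc]

end Groth.Calg6.RelNN
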