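import Mathlib
import Groth.Agent.Calg6.RelNoetherNorm
import Groth.Agent.Calg6.EtaEtale
import Groth.Agent.EtaleAlgebra.EtaleCriterion
import Groth.Agent.Calg8.IntegralDimEq
import Groth.Agent.GrassRep.Free

/-!
# η-étale coordinates which are finite on both fibres
-/

set_option autoImplicit false
universe u

open TensorProduct MvPolynomial AlgebraicGeometry

namespace Groth.Calg6.TwoFibreEta

/-- An algebra smooth of relative dimension `d` over a field has dimension at most `d`. -/
theorem ringKrullDim_le_of_smooth {K S : Type u} [Field K] [CommRing S] [Algebra K S] {d : ℕ}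
    (h : SmoothOfRelativeDimension d (Spec.map (CommRingCat.ofHom (algebraMap K S)))) :
    ringKrullDim S ≤ d := by
  obtain ⟨s, hs, hsm⟩ := Groth.Calg6.EtaEtale.exists_cover d h
  rw [ringKrullDim_le_iff_isMaximal_height_le]
  intro m hm
  obtain ⟨g, hg, hgm⟩ : ∃ g ∈ s, g ∉ m := by
    by_contra! hall
    exact hm.ne_top (top_le_iff.mp (hs ▸ Ideal.span_le.mpr hall))
  let Sg := Localization.Away g
  haveI := hsm g hg
  obtain ⟨ψ, hψ⟩ := Algebra.IsStandardSmoothOfRelativeDimension.exists_etale_mvPolynomial d K Sg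
  letI : Algebra (MvPolynomial (Fin d) K) Sg := ψ.toRingHom.toAlgebra
  haveI : IsScalarTower K (MvPolynomial (Fin d) K) Sg :=
    IsScalarTower.of_algebraMap_eq fun c => (ψ.commutes c).symm
  haveI : Algebra.Etale (MvPolynomial (Fin d) K) Sg := RingHom.etale_algebraMap.mp hψ
  have hdisj : Disjoint (Submonoid.powers g : Set S) (m : Set S) := by
    rw [Set.disjoint_left]
    rintro _ ⟨i, rfl⟩ hi
    exact hgm (hm.isPrime.mem_of_pow_mem i hi)
  haveI := IsLocalization.isPrime_of_isPrime_disjoint (Submonoid.powers g) Sg m hm.isPrime hdisj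
  haveI : Algebra.FiniteType K Sg :=
    Algebra.FiniteType.trans (R := K) (S := MvPolynomial (Fin d) K) (A := Sg) inferInstance inferInstance
  have hht := IsLocalization.height_map_of_disjoint (S := Sg) (Submonoid.powers g) m hdisj
  obtain ⟨M, hM, hle⟩ := Ideal.exists_le_maximal _
    (IsLocalization.isPrime_of_isPrime_disjoint (Submonoid.powers g) Sg m hm.isPrime hdisj).ne_top
  haveI := hM
  have := Groth.Agent.EtaleAlgebra.EtaleCriterion.ringKrullDim_atPrime_of_etale (k := K) (n := d) M
  rw [IsLocalization.AtPrime.ringKrullDim_eq_height M] at this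
  rw [← hht, ← this]
  exact_mod_cast Ideal.height_mono hle

/-- More than `dim` elements are algebraically dependent. -/
theorem exists_relation {K S : Type u} [Field K] [CommRing S] [Algebra K S] [Algebra.FiniteType K S]
    [Nontrivial S] (d : ℕ) (hd : ringKrullDim S ≤ d) {n : ℕ} (hn : d < n) (x : Fin n → S) :
    ∃ h : MvPolynomial (Fin n) K, h ≠ 0 ∧ aeval x h = 0 := by
  by_contra hno
  push Not at hno
  have hinj : Function.Injective (aeval x : MvPolynomial (Fin n) K →ₐ[K] S) :=
    (injective_iff_map_eq_zero _).mpr fun h hh => by_contra fun h0 => hno h h0 hh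
  obtain ⟨P, -, hP, hPc⟩ := Ideal.exists_ideal_comap_le_prime
    (f := (aeval x : MvPolynomial (Fin n) K →ₐ[K] S).toRingHom) (⊥ : Ideal (MvPolynomial (Fin n) K))
    (⊥ : Ideal S) (by
      intro p hp
      exact hinj ((Ideal.mem_bot.mp (Ideal.mem_comap.mp hp)).trans (map_zero _).symm))
  haveI := hP
  let D := S ⧸ P
  let π : S →ₐ[K] D := Ideal.Quotient.mkₐ K P
  have hind : AlgebraicIndependent K (π ∘ x) := by
    rw [algebraicIndependent_iff_injective_aeval, injective_iff_map_eq_zero]
    intro h hh
    have h1 : π (aeval x h) = 0 := by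
      rw [← AlgHom.comp_apply, comp_aeval]; exact hh
    exact Ideal.mem_bot.mp (hPc (Ideal.mem_comap.mpr (Ideal.Quotient.eq_zero_iff_mem.mp h1)))
  haveI : Algebra.FiniteType K D :=
    Algebra.FiniteType.of_surjective π Ideal.Quotient.mk_surjective
  obtain ⟨s, g, hg, hgfin⟩ := exists_finite_inj_algHom_of_fg K D
  letI : Algebra (MvPolynomial (Fin s) K) D := g.toRingHom.toAlgebra
  haveI : Module.Finite (MvPolynomial (Fin s) K) D := hgfin
  have hsd : s ≤ d := by
    have h1 := Groth.Calg8.ringKrullDim_eq_of_integral (MvPolynomial (Fin s) K) D hg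
    have h2 : ringKrullDim D ≤ ringKrullDim S := ringKrullDim_quotient_le P
    rw [h1, MvPolynomial.ringKrullDim_of_isNoetherianRing, ringKrullDim_eq_zero_of_field, zero_add,
      Nat.card_fin] at h2
    exact_mod_cast h2.trans hd
  let y : Fin s → D := fun i => g (X i)
  have hgy : g = aeval y := MvPolynomial.algHom_ext fun i => by simp [y]
  haveI : Algebra.IsAlgebraic (Algebra.adjoin K (Set.range y)) D := by
    haveI : Algebra.IsIntegral (Algebra.adjoin K (Set.range y)) D := by
      refine ⟨fun z => ?_⟩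
      obtain ⟨q, hq, hqz⟩ := Algebra.IsIntegral.isIntegral (R := MvPolynomial (Fin s) K) z
      have hrange : ∀ p, g p ∈ Algebra.adjoin K (Set.range y) := fun p => by
        rw [Algebra.adjoin_range_eq_range_aeval, ← hgy]; exact ⟨p, rfl⟩
      refine ⟨q.map (g.codRestrict (Algebra.adjoin K (Set.range y)) hrange).toRingHom, hq.map _, ?_⟩
      rw [Polynomial.eval₂_map]
      exact hqz
    exact Algebra.IsIntegral.isAlgebraic
  have h3 := hind.lift_cardinalMk_le_trdeg
  have h4 : Algebra.trdeg K D ≤ Cardinal.mk (Set.range y) :=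
    Algebra.IsAlgebraic.trdeg_le_cardinalMk K (Set.range y)
  have h5 : Cardinal.mk (Set.range y) ≤ (s : Cardinal) := by
    simpa using Cardinal.mk_range_le_lift (f := y)
  have h6 := h3.trans (Cardinal.lift_le.mpr (h4.trans h5))
  simp only [Cardinal.mk_fin, Cardinal.lift_natCast, Cardinal.lift_id', Nat.cast_le] at h6
  omega

section Main

variable {V : Type u} [CommRing V] [IsDomain V] [IsDiscreteValuationRing V] {R : Type u} [CommRing R]
  [Algebra V R] [Module.Flat V R] [Algebra.FiniteType V R]

local notation "κ" => IsLocalRing.ResidueField V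

/-- The closed fibre is at most as big as the generic fibre. -/
theorem ringKrullDim_closedFibre_le (d : ℕ) (hη : ringKrullDim (FractionRing V ⊗[V] R) ≤ d) :
    ringKrullDim (κ ⊗[V] R) ≤ d := by
  rcases subsingleton_or_nontrivial (κ ⊗[V] R) with hS | hS
  · rw [ringKrullDim_eq_bot_of_subsingleton]; exact bot_le
  obtain ⟨s, g, hg, hgfin⟩ := exists_finite_inj_algHom_of_fg κ (κ ⊗[V] R)
  letI : Algebra (MvPolynomial (Fin s) κ) (κ ⊗[V] R) := g.toRingHom.toAlgebra
  haveI : Module.Finite (MvPolynomial (Fin s) κ) (κ ⊗[V] R) := hgfin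
  rw [Groth.Calg8.ringKrullDim_eq_of_integral (MvPolynomial (Fin s) κ) (κ ⊗[V] R) hg,
    MvPolynomial.ringKrullDim_of_isNoetherianRing, ringKrullDim_eq_zero_of_field, zero_add, Nat.card_fin]
  by_contra hlt
  have hds : d < s := by
    have := not_le.mp hlt
    exact_mod_cast this
  have hred : Function.Surjective fun r : R => (1 : κ) ⊗ₜ[V] r := by
    intro z
    induction z using TensorProduct.induction_on with
    | zero => exact ⟨0, TensorProduct.tmul_zero _ _⟩
    | tmul c r =>
      obtain ⟨c, rfl⟩ := IsLocalRing.residue_surjective c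
      refine ⟨c • r, ?_⟩
      show (1 : κ) ⊗ₜ[V] (c • r) = _
      rw [TensorProduct.tmul_smul, TensorProduct.smul_tmul', Algebra.smul_def, mul_one]; rfl
    | add a b ha hb =>
      obtain ⟨a', rfl⟩ := ha
      obtain ⟨b', rfl⟩ := hb
      exact ⟨a' + b', TensorProduct.tmul_add _ _ _⟩
  choose r hr using fun i : Fin s => hred (g (X i))
  let ev : MvPolynomial (Fin s) V →ₐ[V] R := aeval r
  let ι : R →ₐ[V] FractionRing V ⊗[V] R := Algebra.TensorProduct.includeRight
  have hι : Function.Injective ι :=
    Algebra.TensorProduct.includeRight_injective (IsFractionRing.injective V (FractionRing V))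
  rcases subsingleton_or_nontrivial R with hR | hR
  · exact (not_subsingleton (κ ⊗[V] R)) (hred.subsingleton)
  haveI : Nontrivial (FractionRing V ⊗[V] R) := hι.nontrivial
  obtain ⟨h, h0, hh⟩ := exists_relation (K := FractionRing V) d hη hds fun i => ι (r i)
  -- a relation over `V`
  obtain ⟨h₀, h₀ne, hh₀⟩ : ∃ h₀ : MvPolynomial (Fin s) V, h₀ ≠ 0 ∧ ev h₀ = 0 := by
    obtain ⟨c, hc⟩ := IsLocalization.exist_integer_multiples (nonZeroDivisors V) h.support
      fun a => h.coeff a
    choose! v hv using hc
    let h₀ : MvPolynomial (Fin s) V := ∑ a ∈ h.support, monomial a (v a)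
    have hmap : MvPolynomial.map (algebraMap V (FractionRing V)) h₀ =
        (algebraMap V (FractionRing V) c) • h := by
      conv_rhs => rw [h.as_sum]
      rw [map_sum, Finset.smul_sum]
      refine Finset.sum_congr rfl fun a ha => ?_
      rw [map_monomial, smul_monomial, hv a ha, Algebra.smul_def, smul_eq_mul]
    refine ⟨h₀, fun h00 => h0 ?_, hι ?_⟩
    · rw [h00, map_zero] at hmap
      exact (smul_eq_zero.mp hmap.symm).resolve_left (fun hc0 =>
        nonZeroDivisors.coe_ne_zero c (IsFractionRing.injective V (FractionRing V) (hc0.trans (map_zero _).symm)))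
    · rw [map_zero]
      have e1 : aeval (fun i => ι (r i)) (MvPolynomial.map (algebraMap V (FractionRing V)) h₀) = 0 := by
        rw [hmap, map_smul, hh, smul_zero]
      rw [aeval_map_algebraMap] at e1
      rw [← e1, ← AlgHom.comp_apply, comp_aeval]
  -- one which is nonzero modulo the maximal ideal
  obtain ⟨h₁, hh₁, a₁, ha₁⟩ : ∃ h₁, ev h₁ = 0 ∧ ∃ a, h₁.coeff a ∉ IsLocalRing.maximalIdeal V := by
    by_contra hall
    push Not at hall
    obtain ⟨ϖ, hϖ⟩ := IsDiscreteValuationRing.exists_irreducible V
    have key : ∀ (n : ℕ) h', ev h' = 0 → ∀ a, h'.coeff a ∈ IsLocalRing.maximalIdeal V ^ n := by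
      intro n
      induction n with
      | zero => intro h' _ a; simp
      | succ n ih =>
        intro h' hh' a
        have hdvd : C ϖ ∣ h' := C_dvd_iff_dvd_coeff _ _ |>.mpr fun b => by
          have := hall h' hh' b
          rwa [hϖ.maximalIdeal_eq, Ideal.mem_span_singleton] at this
        obtain ⟨q, rfl⟩ := hdvd
        have hq : ev q = 0 := by
          have hreg := Module.Flat.isSMulRegular_of_isRegular (M := R) (IsRegular.of_ne_zero hϖ.ne_zero)
          refine hreg ?_
          show ϖ • ev q = ϖ • (0 : R)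
          rw [smul_zero, Algebra.smul_def, ← ev.commutes, MvPolynomial.algebraMap_eq, ← map_mul, hh']
        rw [coeff_C_mul, pow_succ']
        exact Ideal.mul_mem_mul (by rw [hϖ.maximalIdeal_eq]; exact Ideal.mem_span_singleton_self ϖ)
          (ih q hq a)
    refine h₀ne (MvPolynomial.ext _ _ fun a => ?_)
    have : h₀.coeff a ∈ ⨅ n : ℕ, IsLocalRing.maximalIdeal V ^ n :=
      Submodule.mem_iInf _ |>.mpr fun n => key n h₀ hh₀ a
    rw [Ideal.iInf_pow_eq_bot_of_isLocalRing _ (IsLocalRing.maximalIdeal.isMaximal V).ne_top] at this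
    rw [coeff_zero]
    exact Ideal.mem_bot.mp this
  refine ha₁ ((IsLocalRing.residue_eq_zero_iff _).mp ?_)
  have hzero : MvPolynomial.map (algebraMap V κ) h₁ = 0 := by
    refine hg ?_
    rw [map_zero]
    have hgX : g = aeval fun i => (Algebra.TensorProduct.includeRight : R →ₐ[V] κ ⊗[V] R) (r i) :=
      MvPolynomial.algHom_ext fun i => by rw [aeval_X]; exact (hr i).symm
    rw [hgX, aeval_map_algebraMap, ← comp_aeval, AlgHom.comp_apply, hh₁, map_zero]
  have := congrArg (coeff a₁) hzero
  rwa [coeff_map, coeff_zero] at this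

/-- The differential of a `q`-th power closure element is divisible by `q`. -/
theorem D_mem_of_mem_closure (q : ℕ) {y : R} (hy : y ∈ Subring.closure (Set.range fun r : R => r ^ q)) :
    KaehlerDifferential.D V R y ∈ Ideal.span {(q : R)} • (⊤ : Submodule R (Ω[R⁄V])) := by
  induction hy using Subring.closure_induction with
  | mem x hx =>
    obtain ⟨r, rfl⟩ := hx
    rw [Derivation.leibniz_pow, ← Nat.cast_smul_eq_nsmul R]
    exact Submodule.smul_mem_smul (Ideal.mem_span_singleton_self _) trivial
  | zero => simp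
  | one => simp
  | add a b _ _ ha hb => rw [map_add]; exact add_mem ha hb
  | neg a _ ha => rw [map_neg]; exact neg_mem ha
  | mul a b _ _ ha hb =>
    rw [Derivation.leibniz]
    exact add_mem (Submodule.smul_mem _ _ hb) (Submodule.smul_mem _ _ ha)

/-- The span of the differentials of a tuple. -/
noncomputable def dSpan {d : ℕ} (x : Fin d → R) : Submodule R (Ω[R⁄V]) :=
  Submodule.span R (Set.range fun i => KaehlerDifferential.D V R (x i))

theorem D_aeval_mem {d : ℕ} (x : Fin d → R) (P : MvPolynomial (Fin d) V) :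
    KaehlerDifferential.D V R (aeval x P) ∈ dSpan (V := V) x := by
  induction P using MvPolynomial.induction_on with
  | C c => simp
  | add p q hp hq => rw [map_add, map_add]; exact add_mem hp hq
  | mul_X p i hp =>
    rw [map_mul, aeval_X, Derivation.leibniz]
    exact add_mem (Submodule.smul_mem _ _ (Submodule.subset_span ⟨i, rfl⟩)) (Submodule.smul_mem _ _ hp)

/-- The divisibility criterion for a tuple, in `Ω_{R/V}`. -/
theorem divisibility_iff {d : ℕ} (x : Fin d → R) [Algebra (MvPolynomial (Fin d) V) R]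
    [IsScalarTower V (MvPolynomial (Fin d) V) R]
    (hx : ∀ P, algebraMap (MvPolynomial (Fin d) V) R P = aeval x P) (I J : Ideal R) :
    (I • (⊤ : Submodule R (Ω[R⁄MvPolynomial (Fin d) V])) ≤ J • ⊤) ↔
      I • (⊤ : Submodule R (Ω[R⁄V])) ≤ dSpan (V := V) x ⊔ J • ⊤ := by
  set A := MvPolynomial (Fin d) V
  let ρ := KaehlerDifferential.map V A R R
  have hρ : Function.Surjective ρ := KaehlerDifferential.map_surjective V A R
  have hker : LinearMap.ker ρ = dSpan (V := V) x := by
    rw [← KaehlerDifferential.range_mapBaseChange V A R]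
    refine le_antisymm ?_ ?_
    · rintro _ ⟨z, rfl⟩
      induction z using TensorProduct.induction_on with
      | zero => rw [map_zero]; exact zero_mem _
      | add a b ha hb => rw [map_add]; exact add_mem ha hb
      | tmul c w =>
        rw [KaehlerDifferential.mapBaseChange_tmul]
        refine Submodule.smul_mem _ _ ?_
        have hw : w ∈ Submodule.span A (Set.range (KaehlerDifferential.D V A)) := by
          rw [KaehlerDifferential.span_range_derivation]; trivial
        induction hw using Submodule.span_induction with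
        | mem w hw =>
          obtain ⟨P, rfl⟩ := hw
          rw [KaehlerDifferential.map_D, hx]
          exact D_aeval_mem x P
        | zero => rw [map_zero]; exact zero_mem _
        | add a b _ _ ha hb => rw [map_add]; exact add_mem ha hb
        | smul a b _ hb =>
          rw [map_smul, ← algebraMap_smul R a]; exact Submodule.smul_mem _ _ hb
    · rw [dSpan, Submodule.span_le]
      rintro _ ⟨i, rfl⟩
      refine ⟨1 ⊗ₜ KaehlerDifferential.D V A (X i), ?_⟩
      rw [KaehlerDifferential.mapBaseChange_tmul, one_smul, KaehlerDifferential.map_D, hx, aeval_X]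
  have htop : ∀ I : Ideal R, I • (⊤ : Submodule R (Ω[R⁄A])) = (I • ⊤ : Submodule R (Ω[R⁄V])).map ρ := fun I => by
    rw [Submodule.map_smul'', Submodule.map_top, LinearMap.range_eq_top.mpr hρ]
  rw [htop, htop, Submodule.map_le_iff_le_comap, Submodule.comap_map_eq, hker, sup_comm]

/-- The main construction. -/
theorem exists_two_fibre [CharZero V] (ϖ : V) (hϖ : Irreducible ϖ) (p : ℕ) [Fact p.Prime]
    [CharP κ p] [PerfectField κ] (d : ℕ)
    (hsm : SmoothOfRelativeDimension d
      (Spec.map (CommRingCat.ofHom (algebraMap (FractionRing V) (FractionRing V ⊗[V] R)))))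
    (x' : Fin d → R) (hx' : ∃ a : R, Ideal.span {a} ⊔ Ideal.span {algebraMap V R ϖ} = ⊤ ∧
        ((algebraMap R (Localization.Away (a * algebraMap V R ϖ))).comp
          (MvPolynomial.aeval x' : MvPolynomial (Fin d) V →ₐ[V] R).toRingHom).Etale) :
    ∃ x : Fin d → R, (∃ a : R, Ideal.span {a} ⊔ Ideal.span {algebraMap V R ϖ} = ⊤ ∧
        ((algebraMap R (Localization.Away (a * algebraMap V R ϖ))).comp
          (MvPolynomial.aeval x : MvPolynomial (Fin d) V →ₐ[V] R).toRingHom).Etale) ∧
      RelNN.Good κ (fun i => (1 : κ) ⊗ₜ[V] x i) ∧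
      RelNN.Good (FractionRing V) (fun i => (1 : FractionRing V) ⊗ₜ[V] x i) := by
  obtain ⟨a, ha, he⟩ := hx'
  have h1 : ∃ n : ℕ, Ideal.span {((p : R)) ^ n} • (⊤ : Submodule R (Ω[R⁄V])) ≤
      dSpan (V := V) x' ⊔ Ideal.span {algebraMap V R ϖ * (p : R) ^ n} • ⊤ := by
    letI : Algebra (MvPolynomial (Fin d) V) R := (aeval x' : MvPolynomial (Fin d) V →ₐ[V] R).toRingHom.toAlgebra
    haveI : IsScalarTower V (MvPolynomial (Fin d) V) R :=
      IsScalarTower.of_algebraMap_eq fun c => ((aeval x' : MvPolynomial (Fin d) V →ₐ[V] R).commutes c).symm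
    obtain ⟨n, hn⟩ := Groth.Calg6.EtaEtale.exists_pow_of_etale V ϖ hϖ p
      (A := MvPolynomial (Fin d) V) (R := R) a ha he
    exact ⟨n, (divisibility_iff x' (fun _ => rfl) _ _).mp hn⟩
  obtain ⟨n, hn⟩ := h1
  set q := p ^ (n + 1)
  have hq : 1 ≤ q := Nat.one_le_pow _ _ (Fact.out : p.Prime).pos
  have hη := ringKrullDim_le_of_smooth hsm
  obtain ⟨g, hg₁, hg₂⟩ := RelNN.exists_good κ (FractionRing V) (V := V) (R := R) d
    (ringKrullDim_closedFibre_le d hη) hη
  obtain ⟨M₁, hM₁⟩ := RelNN.exists_good_perturb hg₁ fun i => (1 : κ) ⊗ₜ[V] x' i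
  obtain ⟨M₂, hM₂⟩ := RelNN.exists_good_perturb hg₂ fun i => (1 : FractionRing V) ⊗ₜ[V] x' i
  let M := max M₁ M₂
  have hqM : M ≤ q * M := Nat.le_mul_of_pos_left M hq
  let x : Fin d → R := fun i => x' i + g i ^ (q * M)
  refine ⟨x, ?_, ?_, ?_⟩
  · letI : Algebra (MvPolynomial (Fin d) V) R := (aeval x : MvPolynomial (Fin d) V →ₐ[V] R).toRingHom.toAlgebra
    haveI : IsScalarTower V (MvPolynomial (Fin d) V) R :=
      IsScalarTower.of_algebraMap_eq fun c => ((aeval x : MvPolynomial (Fin d) V →ₐ[V] R).commutes c).symm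
    refine Groth.Calg6.EtaEtale.exists_etale_of_pow V ϖ hϖ p (A := MvPolynomial (Fin d) V) (R := R) d ?_ hsm n
      ((divisibility_iff x (fun _ => rfl) _ _).mpr ?_)
    · haveI : Algebra.IsStandardSmoothOfRelativeDimension d V (MvPolynomial (Fin d) V) := by
        have := Groth.GrassRep.standardSmooth_mvPolynomial (R := V) (ULift.{u} (Fin d))
        rw [Nat.card_ulift, Nat.card_fin] at this
        exact Algebra.IsStandardSmoothOfRelativeDimension.of_algEquiv (n := d)
          (MvPolynomial.renameEquiv V Equiv.ulift)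
      rw [HasRingHomProperty.Spec_iff (P := @SmoothOfRelativeDimension d)]
      refine RingHom.locally_of RingHom.isStandardSmoothOfRelativeDimension_respectsIso _ ?_
      show RingHom.IsStandardSmoothOfRelativeDimension d
        (algebraMap (FractionRing V) (FractionRing V ⊗[V] MvPolynomial (Fin d) V))
      rw [RingHom.isStandardSmoothOfRelativeDimension_algebraMap]
      infer_instance
    · obtain ⟨c, hc⟩ := Groth.Calg6.EtaEtale.exists_eq_mul V ϖ hϖ p
      have hdiv : Ideal.span {(q : R)} ≤ Ideal.span {algebraMap V R ϖ * (p : R) ^ n} := by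
        rw [Ideal.span_singleton_le_iff_mem, Ideal.mem_span_singleton]
        refine ⟨algebraMap V R c, ?_⟩
        rw [Nat.cast_pow, pow_succ]
        conv_lhs => rw [← map_natCast (algebraMap V R) p, hc, map_mul]
        rw [← map_natCast (algebraMap V R) p, hc, map_mul]
        ring
      refine hn.trans (sup_le ?_ le_sup_right)
      rw [dSpan, Submodule.span_le]
      rintro _ ⟨i, rfl⟩
      show KaehlerDifferential.D V R (x' i) ∈ _
      rw [show x' i = x i - g i ^ (q * M) by simp [x], map_sub]
      refine sub_mem (Submodule.mem_sup_left (Submodule.subset_span ⟨i, rfl⟩))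
        (Submodule.mem_sup_right (Submodule.smul_mono_left hdiv ?_))
      exact D_mem_of_mem_closure (V := V) q (Subring.subset_closure ⟨g i ^ M, by
        show (g i ^ M) ^ q = g i ^ (q * M)
        rw [← pow_mul, mul_comm]⟩)
  · have h := hM₁ (q * M) ((le_max_left _ _).trans hqM)
    simpa only [RelNN.Good, x, TensorProduct.tmul_add, Algebra.TensorProduct.tmul_pow, one_pow] using h
  · have h := hM₂ (q * M) ((le_max_right _ _).trans hqM)
    simpa only [RelNN.Good, x, TensorProduct.tmul_add, Algebra.TensorProduct.tmul_pow, one_pow] using h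

end Main

end Groth.Calg6.TwoFibreEta
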